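import Mathlib

/-!
A finite search for the degree columns of a self-centralizing elementary abelian
Sylow subgroup of order nine with a single class.
-/

set_option autoImplicit false

namespace CfsgLib.NineOneClass

/-- An annotated candidate: the two weights and bounds for the suffix. -/
structure Nd where
  u : ℤ
  v : ℤ
  lu : ℤ
  hu : ℤ
  lv : ℤ
  hv : ℤ
  g : ℤ

/-- The node bounds a pair of weights. -/
def Nd.Bounds (z : Nd) (w : ℤ × ℤ) : Prop :=
  z.lu ≤ w.1 ∧ w.1 ≤ z.hu ∧ z.lv ≤ w.2 ∧ w.2 ≤ z.hv ∧ z.g ∣ w.2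

def push (w : ℤ × ℤ) : List Nd → List Nd
  | [] => [⟨w.1, w.2, w.1, w.1, w.2, w.2, w.2⟩]
  | h :: t => ⟨w.1, w.2, min w.1 h.lu, max w.1 h.hu, min w.2 h.lv, max w.2 h.hv,
      (Int.gcd w.2 h.g : ℤ)⟩ :: h :: t

def annot : List (ℤ × ℤ) → List Nd
  | [] => []
  | w :: r => push w (annot r)

def within (z : Nd) (k : ℕ) (td tw : ℤ) : Bool :=
  decide ((k : ℤ) * z.lu ≤ td) && decide (td ≤ (k : ℤ) * z.hu) &&
    decide ((k : ℤ) * z.lv ≤ tw) && decide (tw ≤ (k : ℤ) * z.hv) && decide (tw % z.g = 0)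

def step (z : Nd) (f : ℕ → ℤ → ℤ → Bool) : ℕ → ℤ → ℤ → Bool
  | 0, td, tw => decide (td = 0) && decide (tw = 0)
  | k + 1, td, tw => within z (k + 1) td tw && (step z f k (td - z.u) (tw - z.v) || f (k + 1) td tw)

def go : List Nd → ℕ → ℤ → ℤ → Bool
  | [] => fun k td tw => decide (k = 0) && (decide (td = 0) && decide (tw = 0))
  | z :: r => step z (go r)

/-- `2 ^ i * q ^ j` is a possible degree with value `c`. -/
def classify (d : ℕ) : Option ℤ :=
  if d % 9 = 1 then some 1 else if d % 9 = 8 then some (-1) else if d % 9 = 2 then some 2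
  else if d % 9 = 7 ∧ 16 ≤ d then some (-2) else none

def mkTerm (n lo d : ℕ) : Option (ℤ × ℤ × ℤ) :=
  if d < lo ∨ 9 * n ≤ d * d then none
  else (classify d).map fun c => (c, c * d, c ^ 3 * ((n / d : ℕ) : ℤ))

def degrees (q a b : ℕ) : List ℕ :=
  (List.range (b + 1)).reverse.flatMap fun j => (List.range (a + 1)).reverse.map fun i => 2 ^ i * q ^ j

def terms (q a b lo : ℕ) : List (ℤ × ℤ × ℤ) :=
  (degrees q a b).filterMap (mkTerm (2 ^ a * q ^ b) lo)

def srchWith (n : ℕ) (L : List (ℤ × ℤ × ℤ)) (T : ℕ) : Bool :=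
  let ones := annot ((L.filter fun t => decide (t.1 = 1 ∨ t.1 = -1)).map (·.2))
  let twos := (L.filter fun t => decide (t.1 = 2 ∨ t.1 = -2)).map (·.2)
  go ones 8 (-1) ((T : ℤ) - n) ||
    twos.any fun w => go ones 4 (-1 - w.1) ((T : ℤ) - n - w.2)

/-- Is there a column for the parameters `q, a, b` with the weighted sum `T`? -/
def srch (q a b lo T : ℕ) : Bool := srchWith (2 ^ a * q ^ b) (terms q a b lo) T

/-- The valuation, cut off at the second argument. -/
def pval (p : ℕ) : ℕ → ℕ → ℕ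
  | 0, _ => 0
  | m + 1, x => if x % p = 0 then pval p m (x / p) + 1 else 0

/-- Necessary: some degree carries all but the valuation of `T`. -/
def valOk (p e n T : ℕ) : Bool :=
  decide (e ≤ pval p e T) || decide (p ^ (2 * (e - pval p e T)) < 9 * n)

/-- The cheap tests. -/
def cheap (q a b T : ℕ) : Bool :=
  decide (3 * (2 ^ a * q ^ b) ≤ 16 * T) && valOk q b (2 ^ a * q ^ b) T &&
    valOk 2 a (2 ^ a * q ^ b) T

theorem go_nil (k : ℕ) (td tw : ℤ) :
    go [] k td tw = (decide (k = 0) && (decide (td = 0) && decide (tw = 0))) := rfl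

theorem annot_spec : ∀ (L : List (ℤ × ℤ)),
    (L = [] → annot L = []) ∧ ∀ w r, L = w :: r → ∃ z, annot L = z :: annot r ∧ z.u = w.1 ∧ z.v = w.2 ∧
      ∀ x ∈ L, z.Bounds x := by
  intro L
  induction L with
  | nil => exact ⟨fun _ => rfl, fun w r h => by simp at h⟩
  | cons w r ih =>
    refine ⟨fun h => by simp at h, ?_⟩
    intro w' r' h
    obtain ⟨rfl, rfl⟩ := List.cons.inj h
    cases r with
    | nil =>
      refine ⟨_, rfl, rfl, rfl, fun x hx => ?_⟩
      rw [List.mem_singleton] at hx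
      subst hx
      exact ⟨le_rfl, le_rfl, le_rfl, le_rfl, dvd_refl _⟩
    | cons v s =>
      obtain ⟨z, hz, hzu, hzv, hb⟩ := ih.2 v s rfl
      refine ⟨_, by rw [annot, hz]; rfl, rfl, rfl, fun x hx => ?_⟩
      rcases List.mem_cons.mp hx with rfl | hx
      · exact ⟨min_le_left _ _, le_max_left _ _, min_le_left _ _, le_max_left _ _,
          Int.gcd_dvd_left _ _⟩
      · obtain ⟨h1, h2, h3, h4, h5⟩ := hb x hx
        exact ⟨(min_le_right _ _).trans h1, h2.trans (le_max_right _ _),
          (min_le_right _ _).trans h3, h4.trans (le_max_right _ _),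
          (Int.gcd_dvd_right _ _).trans h5⟩

theorem go_of_multiset : ∀ (L : List (ℤ × ℤ)) (M : Multiset (ℤ × ℤ)), (∀ x ∈ M, x ∈ L) →
    go (annot L) (Multiset.card M) (M.map Prod.fst).sum (M.map Prod.snd).sum = true := by
  intro L
  induction L with
  | nil =>
    intro M hM
    have : M = 0 := Multiset.eq_zero_of_forall_notMem fun x hx => by simpa using hM x hx
    subst this
    rfl
  | cons w r ih =>
    intro M
    induction h : Multiset.card M generalizing M with
    | zero =>
      intro _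
      obtain ⟨z, hz, -⟩ := (annot_spec (w :: r)).2 w r rfl
      rw [Multiset.card_eq_zero.mp h, hz]
      simp [go, step]
    | succ k ihk =>
      intro hM
      obtain ⟨z, hz, hzu, hzv, hb⟩ := (annot_spec (w :: r)).2 w r rfl
      rw [hz]
      show step z (go (annot r)) (k + 1) _ _ = true
      rw [step, Bool.and_eq_true, Bool.or_eq_true]
      constructor
      · have h1 : ∀ {f : ℤ × ℤ → ℤ} {c : ℤ}, (∀ x ∈ M, c ≤ f x) → ((k + 1 : ℕ) : ℤ) * c ≤ (M.map f).sum := by
          intro f c hc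
          have := Multiset.card_nsmul_le_sum (s := M.map f) (a := c) (by
            intro y hy; obtain ⟨x, hx, rfl⟩ := Multiset.mem_map.mp hy; exact hc x hx)
          rwa [Multiset.card_map, h, nsmul_eq_mul] at this
        have h2 : ∀ {f : ℤ × ℤ → ℤ} {c : ℤ}, (∀ x ∈ M, f x ≤ c) → (M.map f).sum ≤ ((k + 1 : ℕ) : ℤ) * c := by
          intro f c hc
          have := Multiset.sum_le_card_nsmul (M.map f) c (by
            intro y hy; obtain ⟨x, hx, rfl⟩ := Multiset.mem_map.mp hy; exact hc x hx)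
          rwa [Multiset.card_map, h, nsmul_eq_mul] at this
        have h3 : z.g ∣ (M.map Prod.snd).sum := Multiset.dvd_sum fun y hy => by
          obtain ⟨x, hx, rfl⟩ := Multiset.mem_map.mp hy
          exact (hb x (hM x hx)).2.2.2.2
        simp only [within, Bool.and_eq_true, decide_eq_true_eq]
        exact ⟨⟨⟨⟨h1 fun x hx => (hb x (hM x hx)).1, h2 fun x hx => (hb x (hM x hx)).2.1⟩,
          h1 fun x hx => (hb x (hM x hx)).2.2.1⟩, h2 fun x hx => (hb x (hM x hx)).2.2.2.1⟩,
          Int.emod_eq_zero_of_dvd h3⟩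
      · by_cases hw : w ∈ M
        · left
          obtain ⟨M', rfl⟩ := Multiset.exists_cons_of_mem hw
          have := ihk M' (by simpa using h) (fun x hx => hM x (Multiset.mem_cons_of_mem hx))
          rw [hz] at this
          simp only [Multiset.map_cons, Multiset.sum_cons, hzu, hzv, add_sub_cancel_left]
          exact this
        · right
          have := ih M (fun x hx => (List.mem_cons.mp (hM x hx)).resolve_left (fun e => hw (e ▸ hx)))
          rwa [h] at this

theorem mem_terms {q a b lo i j : ℕ} {c : ℤ} (hi : i ≤ a) (hj : j ≤ b)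
    (hlo : lo ≤ 2 ^ i * q ^ j)
    (hsq : 2 ^ i * q ^ j * (2 ^ i * q ^ j) < 9 * (2 ^ a * q ^ b))
    (hc : classify (2 ^ i * q ^ j) = some c) :
    (c, c * ((2 ^ i * q ^ j : ℕ) : ℤ), c ^ 3 * ((2 ^ a * q ^ b / (2 ^ i * q ^ j) : ℕ) : ℤ)) ∈
      terms q a b lo := by
  refine List.mem_filterMap.mpr ⟨2 ^ i * q ^ j, ?_, ?_⟩
  · simp only [degrees, List.mem_flatMap, List.mem_reverse, List.mem_range, List.mem_map]
    exact ⟨j, by omega, i, by omega, rfl⟩
  · rw [mkTerm, if_neg (by omega), hc]; rfl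

theorem pval_spec (p : ℕ) : ∀ (m x : ℕ), pval p m x ≤ m ∧ p ^ pval p m x ∣ x ∧
    (pval p m x < m → ¬ p ^ (pval p m x + 1) ∣ x) := by
  intro m
  induction m with
  | zero => intro x; simp [pval]
  | succ m ih =>
    intro x
    rw [pval]
    split_ifs with h
    · obtain ⟨h1, h2, h3⟩ := ih (x / p)
      have hx : p * (x / p) = x := Nat.mul_div_cancel' (Nat.dvd_of_mod_eq_zero h)
      refine ⟨by omega, ?_, fun hlt hd => ?_⟩
      · rw [pow_succ', ← hx, show p * (x / p) / p = x / p by rw [hx]]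
        exact Nat.mul_dvd_mul_left p h2
      · rcases Nat.eq_zero_or_pos p with rfl | hp
        · simp at h
          subst h
          exact h3 (by omega) (by simp)
        · rw [pow_succ', ← hx, show p * (x / p) / p = x / p by rw [hx]] at hd
          exact h3 (by omega) (Nat.dvd_of_mul_dvd_mul_left hp hd)
    · refine ⟨by omega, by simp, fun _ hd => h ?_⟩
      simpa using Nat.mod_eq_zero_of_dvd (by simpa using hd)

theorem valOk_of_witness {p e n T : ℕ}
    (h : ∀ v, v < e → ¬ p ^ (v + 1) ∣ T → p ^ (2 * (e - v)) < 9 * n) : valOk p e n T = true := by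
  obtain ⟨h1, h2, h3⟩ := pval_spec p e T
  rw [valOk, Bool.or_eq_true, decide_eq_true_eq, decide_eq_true_eq]
  rcases Nat.lt_or_ge (pval p e T) e with hl | hl
  · exact Or.inr (h _ hl (h3 hl))
  · exact Or.inl hl

end CfsgLib.NineOneClass
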