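import Mathlib
import Cfsg.Agent.Lib.NineOneClass.Check

/-!
Degree columns and the facts feeding the finite search.
-/

set_option autoImplicit false

open scoped BigOperators

namespace CfsgLib.NineOneClass

/-- The values `c` at an element of order three, and the degrees `d`. -/
structure Column (q a b : ℕ) {ι : Type*} [Fintype ι] (c : ι → ℤ) (d : ι → ℕ) (i₀ : ι) : Prop where
  hq : q.Prime
  hq5 : 5 ≤ q
  ha : 3 ≤ a
  sq : ∑ i, c i * c i = 9
  orth : ∑ i, c i * (d i : ℤ) = 0
  c_one : c i₀ = 1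
  d_one : d i₀ = 1
  pos : ∀ i, 0 < d i
  dvd : ∀ i, d i ∣ 9 * (2 ^ a * q ^ b)
  mod : ∀ i, (9 : ℤ) ∣ (d i : ℤ) - c i
  nonneg : ∀ i, 0 ≤ (d i : ℤ) + 8 * c i
  three_le : ∀ i, i ≠ i₀ → c i ≠ 0 → 3 ≤ d i
  degsq : ∑ i, d i * d i ≤ 9 * (2 ^ a * q ^ b)

/-- The weighted sum of a column. -/
def weight (n : ℕ) {ι : Type*} [Fintype ι] (c : ι → ℤ) (d : ι → ℕ) : ℤ :=
  ∑ i, c i ^ 3 * ((n / d i : ℕ) : ℤ)

namespace Column

variable {q a b : ℕ} {ι : Type*} [Fintype ι] [DecidableEq ι] {c : ι → ℤ} {d : ι → ℕ} {i₀ : ι}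

/-- The nontrivial part of the support. -/
def supp (c : ι → ℤ) (i₀ : ι) : Finset ι := Finset.univ.filter fun i => i ≠ i₀ ∧ c i ≠ 0

theorem mem_supp {i : ι} : i ∈ supp c i₀ ↔ i ≠ i₀ ∧ c i ≠ 0 := by simp [supp]

theorem sum_supp (_h : Column q a b c d i₀) (f : ι → ℤ) (hf : ∀ i, c i = 0 → f i = 0) :
    ∑ i, f i = f i₀ + ∑ i ∈ supp c i₀, f i := by
  rw [← Finset.add_sum_erase _ _ (Finset.mem_univ i₀)]
  refine congrArg (f i₀ + ·) (Finset.sum_subset (fun i hi => ?_) fun i hi hiS => hf i ?_).symm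
  · simp [mem_supp] at hi; simp [hi.1]
  · by_contra hne
    exact hiS (mem_supp.mpr ⟨Finset.ne_of_mem_erase hi, hne⟩)

theorem supp_sq (h : Column q a b c d i₀) : ∑ i ∈ supp c i₀, c i * c i = 8 := by
  have e := h.sum_supp (fun i => c i * c i) (fun i hi => by simp [hi])
  rw [h.sq, h.c_one] at e
  omega

theorem supp_orth (h : Column q a b c d i₀) : ∑ i ∈ supp c i₀, c i * (d i : ℤ) = -1 := by
  have e := h.sum_supp (fun i => c i * (d i : ℤ)) (fun i hi => by simp [hi])
  rw [h.orth, h.c_one, h.d_one] at e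
  push_cast at e
  omega

theorem value (h : Column q a b c d i₀) {i : ι} (hi : i ∈ supp c i₀) :
    c i = 1 ∨ c i = -1 ∨ c i = 2 ∨ c i = -2 := by
  have h1 : c i * c i ≤ 8 :=
    h.supp_sq ▸ Finset.single_le_sum (fun j _ => mul_self_nonneg (c j)) hi
  have : c i ≤ 2 := by nlinarith
  have : -2 ≤ c i := by nlinarith
  have := (mem_supp.mp hi).2
  omega

theorem dvd_n (h : Column q a b c d i₀) {i : ι} (hi : i ∈ supp c i₀) : d i ∣ 2 ^ a * q ^ b := by
  have h3 : ¬ 3 ∣ d i := fun hd => by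
    have h9 := h.mod i
    have : (3 : ℤ) ∣ (d i : ℤ) := by exact_mod_cast hd
    rcases h.value hi with e | e | e | e <;> rw [e] at h9 <;> omega
  have hc : Nat.Coprime (d i) 9 := by
    have h : Nat.Coprime (d i) (3 ^ 2) :=
      ((Nat.prime_three.coprime_iff_not_dvd.mpr h3).symm).pow_right 2
    simpa using h
  exact hc.dvd_of_dvd_mul_left (h.dvd i)

theorem split (h : Column q a b c d i₀) {i : ι} (hi : i ∈ supp c i₀) :
    ∃ u v, u ≤ a ∧ v ≤ b ∧ d i = 2 ^ u * q ^ v := by
  obtain ⟨k, l, hk, hl, e⟩ := Nat.dvd_mul.mp (h.dvd_n hi)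
  obtain ⟨u, hu, rfl⟩ := (Nat.dvd_prime_pow Nat.prime_two).mp hk
  obtain ⟨v, hv, rfl⟩ := (Nat.dvd_prime_pow h.hq).mp hl
  exact ⟨u, v, hu, hv, e.symm⟩

theorem sq_lt (h : Column q a b c d i₀) {i : ι} (hi : i ∈ supp c i₀) :
    d i * d i < 9 * (2 ^ a * q ^ b) := by
  refine lt_of_lt_of_le ?_ h.degsq
  have h2 : ({i₀, i} : Finset ι) ⊆ Finset.univ := Finset.subset_univ _
  have := Finset.sum_le_sum_of_subset (f := fun j => d j * d j) h2
  rw [Finset.sum_pair (mem_supp.mp hi).1.symm, h.d_one] at this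
  omega

theorem classify_eq (h : Column q a b c d i₀) {i : ι} (hi : i ∈ supp c i₀) :
    classify (d i) = some (c i) := by
  have h9 := h.mod i
  have h0 := h.nonneg i
  rcases h.value hi with e | e | e | e <;> rw [e] at h9 h0 <;> rw [e]
  · have : d i % 9 = 1 := by omega
    simp [classify, this]
  · have : d i % 9 = 8 := by omega
    simp [classify, this]
  · have : d i % 9 = 2 := by omega
    simp [classify, this]
  · have h7 : d i % 9 = 7 := by omega
    have : 16 ≤ d i := by omega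
    simp [classify, h7, this]

/-- The plus-minus one part. -/
def ones (c : ι → ℤ) (i₀ : ι) : Finset ι := (supp c i₀).filter fun i => c i = 1 ∨ c i = -1

/-- The rest. -/
def twos (c : ι → ℤ) (i₀ : ι) : Finset ι := (supp c i₀).filter fun i => ¬ (c i = 1 ∨ c i = -1)

theorem mem_ones {i : ι} : i ∈ ones c i₀ ↔ i ∈ supp c i₀ ∧ (c i = 1 ∨ c i = -1) := by simp [ones]

theorem mem_twos {i : ι} (h : Column q a b c d i₀) : i ∈ twos c i₀ ↔
    i ∈ supp c i₀ ∧ (c i = 2 ∨ c i = -2) := by
  simp only [twos, Finset.mem_filter]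
  refine and_congr_right fun hi => ?_
  have := h.value hi
  omega

theorem patterns (h : Column q a b c d i₀) :
    ((ones c i₀).card = 8 ∧ twos c i₀ = ∅) ∨ ((ones c i₀).card = 4 ∧ ∃ j, twos c i₀ = {j}) := by
  have e := h.supp_sq
  rw [← Finset.sum_filter_add_sum_filter_not (supp c i₀) (fun i => c i = 1 ∨ c i = -1)] at e
  have e1 : ∑ i ∈ ones c i₀, c i * c i = (ones c i₀).card := by
    rw [Finset.card_eq_sum_ones, Nat.cast_sum]
    refine Finset.sum_congr rfl fun i hi => ?_
    rcases (mem_ones.mp hi).2 with e | e <;> simp [e]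
  have e2 : ∑ i ∈ twos c i₀, c i * c i = 4 * (twos c i₀).card := by
    rw [Finset.card_eq_sum_ones, Nat.cast_sum, Finset.mul_sum]
    refine Finset.sum_congr rfl fun i hi => ?_
    rcases ((h.mem_twos).mp hi).2 with e | e <;> simp [e]
  change ∑ i ∈ ones c i₀, c i * c i + ∑ i ∈ twos c i₀, c i * c i = 8 at e
  rw [e1, e2] at e
  rcases (show (twos c i₀).card = 0 ∨ (twos c i₀).card = 1 ∨ (twos c i₀).card = 2 by omega) with
    h0 | h0 | h0
  · exact Or.inl ⟨by omega, Finset.card_eq_zero.mp h0⟩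
  · exact Or.inr ⟨by omega, Finset.card_eq_one.mp h0⟩
  · exfalso
    have e3 := h.supp_orth
    rw [← Finset.sum_filter_add_sum_filter_not (supp c i₀) (fun i => c i = 1 ∨ c i = -1)] at e3
    change ∑ i ∈ ones c i₀, c i * (d i : ℤ) + ∑ i ∈ twos c i₀, c i * (d i : ℤ) = -1 at e3
    rw [Finset.card_eq_zero.mp (show (ones c i₀).card = 0 by omega), Finset.sum_empty, zero_add] at e3
    have : (2 : ℤ) ∣ ∑ i ∈ twos c i₀, c i * (d i : ℤ) := Finset.dvd_sum fun i hi => by
      rcases ((h.mem_twos).mp hi).2 with e | e <;> rw [e]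
      · exact dvd_mul_right 2 _
      · exact dvd_mul_of_dvd_left (by norm_num) _
    rw [e3] at this
    omega

theorem supp_eq_union (c : ι → ℤ) (i₀ : ι) (f : ι → ℤ) :
    ∑ i ∈ supp c i₀, f i = ∑ i ∈ ones c i₀, f i + ∑ i ∈ twos c i₀, f i :=
  (Finset.sum_filter_add_sum_filter_not _ _ _).symm

/-- The pair of weights of an index. -/
def wts (n : ℕ) (c : ι → ℤ) (d : ι → ℕ) (i : ι) : ℤ × ℤ :=
  (c i * (d i : ℤ), c i ^ 3 * ((n / d i : ℕ) : ℤ))

theorem weight_eq (h : Column q a b c d i₀) :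
    weight (2 ^ a * q ^ b) c d = ((2 ^ a * q ^ b : ℕ) : ℤ) +
      ∑ i ∈ supp c i₀, c i ^ 3 * ((2 ^ a * q ^ b / d i : ℕ) : ℤ) := by
  rw [weight, h.sum_supp _ (fun i hi => by simp [hi]), h.c_one, h.d_one]
  simp

/-- A column is found by the search. -/
theorem srch_eq_true (h : Column q a b c d i₀) {lo T : ℕ} (hlo : ∀ i ∈ supp c i₀, lo ≤ d i)
    (hT : (T : ℤ) = weight (2 ^ a * q ^ b) c d) : srch q a b lo T = true := by
  set n := 2 ^ a * q ^ b with hn
  have hmem : ∀ i ∈ supp c i₀, (c i, wts n c d i) ∈ terms q a b lo := by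
    intro i hi
    obtain ⟨u, v, hu, hv, e⟩ := h.split hi
    have := mem_terms (q := q) (a := a) (b := b) (lo := lo) hu hv (e ▸ hlo i hi) (e ▸ h.sq_lt hi)
      (e ▸ h.classify_eq hi)
    rwa [← e] at this
  have e1 := h.supp_orth
  have e2 : ∑ i ∈ supp c i₀, c i ^ 3 * ((n / d i : ℕ) : ℤ) = (T : ℤ) - n := by
    rw [hT, h.weight_eq]; ring
  have hones : ∀ x ∈ (ones c i₀).val.map (wts n c d),
      x ∈ ((terms q a b lo).filter fun t => decide (t.1 = 1 ∨ t.1 = -1)).map (·.2) := by
    intro x hx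
    obtain ⟨i, hi, rfl⟩ := Multiset.mem_map.mp hx
    obtain ⟨hs, hc⟩ := mem_ones.mp (Finset.mem_def.mpr hi)
    exact List.mem_map.mpr ⟨_, List.mem_filter.mpr ⟨hmem i hs, by simpa using hc⟩, rfl⟩
  have key := go_of_multiset _ _ hones
  rw [Multiset.card_map, Multiset.map_map, Multiset.map_map] at key
  rw [supp_eq_union] at e1 e2
  rw [srch, srchWith, Bool.or_eq_true]
  rcases h.patterns with ⟨hc, ht⟩ | ⟨hc, j, ht⟩
  · left
    rw [ht, Finset.sum_empty, add_zero] at e1 e2
    change go _ (ones c i₀).card (∑ i ∈ ones c i₀, c i * (d i : ℤ))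
      (∑ i ∈ ones c i₀, c i ^ 3 * ((n / d i : ℕ) : ℤ)) = true at key
    rw [e1, e2, hc] at key
    exact key
  · right
    rw [ht, Finset.sum_singleton] at e1 e2
    have hj := (h.mem_twos).mp (ht ▸ Finset.mem_singleton_self j)
    rw [List.any_eq_true]
    refine ⟨wts n c d j, List.mem_map.mpr ⟨_, List.mem_filter.mpr ⟨hmem j hj.1, by simpa using hj.2⟩, rfl⟩, ?_⟩
    rw [show (-1 : ℤ) - (wts n c d j).1 = ∑ i ∈ ones c i₀, c i * (d i : ℤ) by
        simp only [wts]; omega,
      show (T : ℤ) - n - (wts n c d j).2 = ∑ i ∈ ones c i₀, c i ^ 3 * ((n / d i : ℕ) : ℤ) by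
        simp only [wts]; omega, ← hc]
    exact key

/-- If all the valuations were small the sum would be divisible. -/
theorem valuation (h : Column q a b c d i₀) {p e v T : ℕ} (hp : p.Prime)
    (hpe : p ^ e ∣ 2 ^ a * q ^ b) (hT : (T : ℤ) = weight (2 ^ a * q ^ b) c d) (hv : v < e)
    (hnd : ¬ p ^ (v + 1) ∣ T) : p ^ (2 * (e - v)) < 9 * (2 ^ a * q ^ b) := by
  set n := 2 ^ a * q ^ b with hn
  have hn0 : n ≠ 0 := by have := h.hq.pos; positivity
  by_contra hbig
  apply hnd
  have key : ∀ i ∈ supp c i₀, p ^ (v + 1) ∣ n / d i := by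
    intro i hi
    have hd := h.dvd_n hi
    rw [← hn] at hd
    have hx : n / d i ≠ 0 := fun e0 => hn0 (by rw [← Nat.div_mul_cancel hd, e0, zero_mul])
    have hsmall : ¬ p ^ (e - v) ∣ d i := fun hdv => hbig (by
      have hle := Nat.le_of_dvd (h.pos i) hdv
      calc p ^ (2 * (e - v)) = p ^ (e - v) * p ^ (e - v) := by rw [two_mul, pow_add]
        _ ≤ d i * d i := Nat.mul_le_mul hle hle
        _ < _ := h.sq_lt hi)
    rw [hp.pow_dvd_iff_le_factorization (h.pos i).ne'] at hsmall
    rw [hp.pow_dvd_iff_le_factorization hx]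
    have h1 := (hp.pow_dvd_iff_le_factorization hn0).mp hpe
    rw [← Nat.div_mul_cancel hd, Nat.factorization_mul hx (h.pos i).ne', Finsupp.add_apply] at h1
    omega
  have h1 : ((p ^ (v + 1) : ℕ) : ℤ) ∣ (T : ℤ) := by
    rw [hT, h.weight_eq]
    refine dvd_add (Int.natCast_dvd_natCast.mpr ((pow_dvd_pow p hv).trans hpe)) (Finset.dvd_sum fun i hi => ?_)
    exact dvd_mul_of_dvd_right (Int.natCast_dvd_natCast.mpr (key i hi)) _
  exact Int.natCast_dvd_natCast.mp h1

theorem valOk_left (h : Column q a b c d i₀) {T : ℕ} (hT : (T : ℤ) = weight (2 ^ a * q ^ b) c d) :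
    valOk 2 a (2 ^ a * q ^ b) T = true :=
  valOk_of_witness fun _ hv hnd => h.valuation Nat.prime_two (dvd_mul_right _ _) hT hv hnd

theorem valOk_right (h : Column q a b c d i₀) {T : ℕ} (hT : (T : ℤ) = weight (2 ^ a * q ^ b) c d) :
    valOk q b (2 ^ a * q ^ b) T = true :=
  valOk_of_witness fun _ hv hnd => h.valuation h.hq (dvd_mul_left _ _) hT hv hnd

/-- There is a nontrivial odd degree, a power of `q`. -/
theorem exists_odd (h : Column q a b c d i₀) :
    ∃ v, 1 ≤ v ∧ v ≤ b ∧ (q ^ v % 9 = 1 ∨ q ^ v % 9 = 8) := by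
  by_contra hc
  have : (2 : ℤ) ∣ ∑ i ∈ supp c i₀, c i * (d i : ℤ) := by
    refine Finset.dvd_sum fun i hi => ?_
    obtain ⟨u, v, -, hv, e⟩ := h.split hi
    rcases h.value hi with h1 | h1 | h1 | h1
    rotate_left 2
    · rw [h1]; exact dvd_mul_right 2 _
    · rw [h1]; exact dvd_mul_of_dvd_left (by norm_num) _
    all_goals
      refine dvd_mul_of_dvd_right ?_ _
      rcases Nat.eq_zero_or_pos u with rfl | hu
      swap
      · rw [e]; push_cast; exact dvd_mul_of_dvd_left (dvd_pow_self 2 (by omega)) _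
      exfalso
      rw [pow_zero, one_mul] at e
      have h9 := h.mod i
      rw [h1] at h9
      rcases Nat.eq_zero_or_pos v with rfl | hv1
      · have := h.three_le i (mem_supp.mp hi).1 (mem_supp.mp hi).2
        simp [e] at this
      · exact hc ⟨v, hv1, hv, by rw [← e]; omega⟩
  rw [h.supp_orth] at this
  omega

theorem b_pos (h : Column q a b c d i₀) : 1 ≤ b := by
  obtain ⟨v, h1, h2, -⟩ := h.exists_odd; omega

/-- A term is bounded below by its cost. -/
theorem cost_le {n t z k m : ℕ} (ht : 0 < t) (hz : z ≤ k * t) (hn : t * m = n) :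
    -((k : ℤ) * n) ≤ -((z : ℤ) * m) := by
  subst hn
  have : z * m ≤ k * t * m := Nat.mul_le_mul_right _ hz
  have h2 : z * m ≤ k * (t * m) := by rwa [mul_assoc] at this
  push_cast
  have h3 : ((z * m : ℕ) : ℤ) ≤ ((k * (t * m) : ℕ) : ℤ) := by exact_mod_cast h2
  push_cast at h3
  linarith

/-- A lower bound for the weighted sum, scaled by `s`. -/
theorem weight_lower (h : Column q a b c d i₀) (s K : ℕ) (cost : ι → ℕ)
    (hneg1 : ∀ i ∈ supp c i₀, c i = -1 → s ≤ cost i * d i)
    (hneg2 : ∀ i ∈ supp c i₀, c i = -2 → 8 * s ≤ cost i * d i)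
    (hK : ∑ i ∈ supp c i₀, cost i + K ≤ s) :
    (K : ℤ) * (2 ^ a * q ^ b : ℕ) ≤ (s : ℤ) * weight (2 ^ a * q ^ b) c d := by
  rw [h.weight_eq]
  set n := 2 ^ a * q ^ b
  have hterm : ∀ i ∈ supp c i₀,
      -((cost i : ℤ) * n) ≤ (s : ℤ) * (c i ^ 3 * ((n / d i : ℕ) : ℤ)) := by
    intro i hi
    have hn := Nat.mul_div_cancel' (h.dvd_n hi)
    have h0 : (0 : ℤ) ≤ (cost i : ℤ) * n := by positivity
    have h1 : (0 : ℤ) ≤ (s : ℤ) * ((n / d i : ℕ) : ℤ) := by positivity
    rcases h.value hi with e | e | e | e <;> rw [e]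
    · linarith
    · have := cost_le (h.pos i) (hneg1 i hi e) hn
      linarith
    · linarith
    · have := cost_le (h.pos i) (hneg2 i hi e) hn
      rw [show ((8 * s : ℕ) : ℤ) = 8 * (s : ℤ) by norm_num] at this
      linarith
  have hs := Finset.sum_le_sum hterm
  rw [Finset.sum_neg_distrib, ← Finset.sum_mul, ← Finset.mul_sum] at hs
  have h2 : ((∑ i ∈ supp c i₀, cost i + K : ℕ) : ℤ) * n ≤ (s : ℤ) * n :=
    mul_le_mul_of_nonneg_right (by exact_mod_cast hK) (by positivity)
  push_cast at h2 hs ⊢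
  nlinarith

theorem not_fiftyfive (h : Column q a b c d i₀) {i : ι} (hi : i ∈ supp c i₀) : d i ≠ 55 := fun e => by
  have hd := h.dvd_n hi
  rw [e] at hd
  have h5 := (Nat.Prime.dvd_mul (by norm_num : Nat.Prime 5)).mp ((Dvd.intro 11 rfl).trans hd)
  have h11 := (Nat.Prime.dvd_mul (by norm_num : Nat.Prime 11)).mp ((Dvd.intro_left 5 rfl).trans hd)
  have h5' : (5 : ℕ) = q := by
    rcases h5 with h5 | h5
    · have := (Nat.prime_dvd_prime_iff_eq (by norm_num) Nat.prime_two).mp ((Nat.Prime.dvd_of_dvd_pow (by norm_num)) h5)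
      omega
    · exact (Nat.prime_dvd_prime_iff_eq (by norm_num) h.hq).mp ((Nat.Prime.dvd_of_dvd_pow (by norm_num)) h5)
  have h11' : (11 : ℕ) = q := by
    rcases h11 with h11 | h11
    · have := (Nat.prime_dvd_prime_iff_eq (by norm_num) Nat.prime_two).mp ((Nat.Prime.dvd_of_dvd_pow (by norm_num)) h11)
      omega
    · exact (Nat.prime_dvd_prime_iff_eq (by norm_num) h.hq).mp ((Nat.Prime.dvd_of_dvd_pow (by norm_num)) h11)
  omega

/-- The weighted sum is at least three sixteenths of the order. -/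
theorem weight_ge (h : Column q a b c d i₀) :
    3 * ((2 ^ a * q ^ b : ℕ) : ℤ) ≤ 16 * weight (2 ^ a * q ^ b) c d := by
  classical
  let K := (ones c i₀).filter fun i => c i = -1 ∧ d i = 8
  let P := (ones c i₀).filter fun i => c i = 1
  let cost : ι → ℕ := fun i =>
    if c i = -1 then (if d i = 8 then 2 else 1) else if c i = -2 then (if d i = 16 then 8 else 6) else 0
  have hd8 : ∀ i ∈ supp c i₀, c i = -1 → d i = 8 ∨ 17 ≤ d i := fun i hi e => by
    have h9 := h.mod i; rw [e] at h9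
    have := h.nonneg i; rw [e] at this
    omega
  have hd16 : ∀ i ∈ supp c i₀, c i = -2 → d i = 16 ∨ 25 ≤ d i := fun i hi e => by
    have h9 := h.mod i; rw [e] at h9
    have := h.nonneg i; rw [e] at this
    omega
  refine le_of_le_of_eq (h.weight_lower 16 3 cost (fun i hi e => ?_) (fun i hi e => ?_) ?_) rfl
  · simp only [cost, if_pos e]
    rcases hd8 i hi e with e' | e'
    · rw [if_pos e', e']
    · split_ifs <;> omega
  · have h2 : ¬ c i = -1 := by omega
    simp only [cost, if_neg h2, if_pos e]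
    rcases hd16 i hi e with e' | e'
    · rw [if_pos e', e']
    · split_ifs <;> omega
  -- the total cost is at most 13
  have hcost1 : ∑ i ∈ ones c i₀, cost i + P.card = (ones c i₀).card + K.card := by
    simp only [P, K, Finset.card_filter, Finset.card_eq_sum_ones (ones c i₀), ← Finset.sum_add_distrib]
    refine Finset.sum_congr rfl fun i hi => ?_
    rcases (mem_ones.mp hi).2 with e | e
    · simp [cost, e]
    · by_cases h8 : d i = 8
      · simp [cost, e, h8]
      · simp [cost, e, h8]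
  -- the positive entries
  have hPle : ∀ i ∈ ones c i₀, i ∉ P → c i = -1 := fun i hi hP => by
    rcases (mem_ones.mp hi).2 with e | e
    · exact absurd (Finset.mem_filter.mpr ⟨hi, e⟩) hP
    · exact e
  have hP0 : P = ∅ → ∑ i ∈ ones c i₀, c i * (d i : ℤ) ≤ -8 * (ones c i₀).card := fun hP => by
    have := Finset.sum_le_sum (s := ones c i₀) (f := fun i => c i * (d i : ℤ)) (g := fun _ => (-8 : ℤ))
      (fun i hi => by
        have e := hPle i hi (by rw [hP]; simp)
        rcases hd8 i (mem_ones.mp hi).1 e with e' | e' <;> simp [e] <;> omega)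
    simpa [mul_comm] using this
  have hsub : K ⊆ ones c i₀ \ P := fun i hi => by
    simp only [K, Finset.mem_filter] at hi
    simp only [P, Finset.mem_sdiff, Finset.mem_filter, hi.1, true_and]
    omega
  have hKP : K.card + P.card ≤ (ones c i₀).card := by
    have h1 := Finset.card_le_card hsub
    rw [Finset.card_sdiff_of_subset (show P ⊆ ones c i₀ from Finset.filter_subset _ _)] at h1
    have : P.card ≤ (ones c i₀).card := Finset.card_le_card (Finset.filter_subset _ _)
    omega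
  have hone : K.card + 1 = (ones c i₀).card → P.card = 1 →
      ∃ i ∈ supp c i₀, ∑ j ∈ ones c i₀, c j * (d j : ℤ) = -8 * (K.card : ℤ) + d i := fun hK hP => by
    obtain ⟨i, hi⟩ := Finset.card_eq_one.mp hP
    have hiP : i ∈ P := hi ▸ Finset.mem_singleton_self i
    obtain ⟨hio, hic⟩ := Finset.mem_filter.mp hiP
    refine ⟨i, (mem_ones.mp hio).1, ?_⟩
    have hins : ones c i₀ = insert i K := (Finset.eq_of_subset_of_card_le
      (Finset.insert_subset hio (Finset.filter_subset _ _)) (by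
        rw [Finset.card_insert_of_notMem (fun hm => (Finset.mem_sdiff.mp (hsub hm)).2 hiP)]
        omega)).symm
    rw [hins, Finset.sum_insert (fun hm => (Finset.mem_sdiff.mp (hsub hm)).2 hiP), hic,
      Finset.sum_congr rfl (g := fun _ => (-8 : ℤ)) fun j hj => by
        simp only [K, Finset.mem_filter] at hj
        simp [hj.2.1, hj.2.2], Finset.sum_const, nsmul_eq_mul]
    ring
  rw [show ∑ i ∈ supp c i₀, cost i = ∑ i ∈ ones c i₀, cost i + ∑ i ∈ twos c i₀, cost i from
    (Finset.sum_filter_add_sum_filter_not _ _ _).symm]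
  have e := h.supp_orth
  rw [supp_eq_union] at e
  rcases h.patterns with ⟨hc, ht⟩ | ⟨hc, j, ht⟩
  · rw [ht, Finset.sum_empty] at e ⊢
    have hP1 : 1 ≤ P.card := Finset.card_pos.mpr (Finset.nonempty_iff_ne_empty.mpr fun hP => by
      have := hP0 hP
      rw [hc] at this
      omega)
    by_cases hK : 7 ≤ K.card
    · exfalso
      obtain ⟨i, hi, hs⟩ := hone (by omega) (by omega)
      exact h.not_fiftyfive hi (by omega)
    omega
  · rw [ht, Finset.sum_singleton] at e ⊢
    have hj := (h.mem_twos).mp (ht ▸ Finset.mem_singleton_self j)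
    rcases hj.2 with ej | ej
    · have : cost j = 0 := by simp [cost, ej]
      omega
    have hP1 : 1 ≤ P.card := Finset.card_pos.mpr (Finset.nonempty_iff_ne_empty.mpr fun hP => by
      have := hP0 hP
      rw [hc] at this
      rw [ej] at e
      omega)
    rcases hd16 j hj.1 ej with h16 | h25
    · have hcj : cost j = 8 := by simp [cost, ej, h16]
      by_cases hK : 3 ≤ K.card
      · exfalso
        obtain ⟨i, hi, hs⟩ := hone (by omega) (by omega)
        rw [ej, h16] at e
        exact h.not_fiftyfive hi (by omega)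
      omega
    · have hcj : cost j ≤ 6 := by
        simp only [cost, ej]
        split_ifs <;> omega
      omega

/-- With no degree eight, and `q = 5`, the sum is at least nine twentieths of the order. -/
theorem weight_ge_five (h : Column 5 a b c d i₀) (h8 : ∀ i ∈ supp c i₀, d i ≠ 8) :
    36 * ((2 ^ a * 5 ^ b : ℕ) : ℤ) ≤ 80 * weight (2 ^ a * 5 ^ b) c d := by
  classical
  let cost : ι → ℕ := fun i => if c i = -1 then 1 else if c i = -2 then 40 else 0
  refine le_of_le_of_eq (h.weight_lower 80 36 cost (fun i hi e => ?_) (fun i hi e => ?_) ?_) rfl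
  · simp only [cost, if_pos e, one_mul]
    obtain ⟨u, v, -, -, e'⟩ := h.split hi
    have h9 := h.mod i
    rw [e] at h9
    have hmod : d i % 9 = 8 := by omega
    by_contra hlt
    push Not at hlt
    have hu : u ≤ 6 := by
      by_contra hc
      have h128 : 2 ^ 7 ≤ 2 ^ u := Nat.pow_le_pow_right (by norm_num) (by omega)
      have : 1 ≤ 5 ^ v := Nat.one_le_pow _ _ (by norm_num)
      have := Nat.mul_le_mul h128 this
      rw [← e'] at this
      omega
    have hv : v ≤ 2 := by
      by_contra hc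
      have h125 : 5 ^ 3 ≤ 5 ^ v := Nat.pow_le_pow_right (by norm_num) (by omega)
      have : 1 ≤ 2 ^ u := Nat.one_le_pow _ _ (by norm_num)
      have := Nat.mul_le_mul this h125
      rw [← e'] at this
      omega
    have hne := h8 i hi
    interval_cases u <;> interval_cases v <;> norm_num at e' <;> omega
  · have h2 : ¬ c i = -1 := by omega
    have := h.nonneg i
    simp only [cost, if_neg h2, if_pos e]
    omega
  rw [show ∑ i ∈ supp c i₀, cost i = ∑ i ∈ ones c i₀, cost i + ∑ i ∈ twos c i₀, cost i from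
    (Finset.sum_filter_add_sum_filter_not _ _ _).symm]
  have h1 : ∑ i ∈ ones c i₀, cost i ≤ (ones c i₀).card := by
    rw [Finset.card_eq_sum_ones]
    refine Finset.sum_le_sum fun i hi => ?_
    rcases (mem_ones.mp hi).2 with e | e <;> simp [cost, e]
  rcases h.patterns with ⟨hc, ht⟩ | ⟨hc, j, ht⟩
  · rw [ht, Finset.sum_empty]; omega
  · rw [ht, Finset.sum_singleton]
    have : cost j ≤ 40 := by simp only [cost]; split_ifs <;> omega
    omega

end Column

end CfsgLib.NineOneClass
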