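import Cfsg.Agent.Lib.NineOneClass.Check

/-!
The finite search.
-/

set_option autoImplicit false

namespace CfsgLib.NineOneClass

/-- The possible numbers of invariant elements. -/
def cntOpts (q a b : ℕ) : List ℕ :=
  let B := q ^ b
  let al := [0, 9, 18, 27, if a % 2 = 0 then 6 * (2 ^ a - 1) else 3 * (2 ^ (a - 1) - 1)]
  if B % 3 = 1 then
    al ++ al.map (· + 3 * (B - 1)) ++ al.map (· + 6 * (B - 1)) ++
      [3 * (4 * B - 1), 3 * (4 * B - 1) + 9, 3 * (4 * B - 1) + 18]
  else al

def oneOk (q a b : ℕ) : Bool :=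
  (cntOpts q a b).all fun x => !(cheap q a b (9 * (7 + x)) && srch q a b 3 (9 * (7 + x)))

def qsAll : List ℕ := (List.range 772).filter fun q =>
  decide (5 ≤ q) && [2, 3, 5, 7, 11, 13, 17, 19, 23, 29].all fun p => decide (q % p ≠ 0) || decide (q = p)

def inDom (q a b : ℕ) : Bool :=
  (decide (a ≤ 9) && decide (q ^ b ≤ 12000000000)) || decide (q ^ b ≤ 666)

def rowOk (q : ℕ) : Bool :=
  (List.range 34).all fun a' => (List.range 14).all fun b' =>
    !(inDom q (a' + 3) (b' + 1)) || oneOk q (a' + 3) (b' + 1) || decide (q = 17 ∧ a' = 3 ∧ b' = 0)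

theorem rows_small : (qsAll.filter fun q => decide (q < 20)).all rowOk = true := by decide +kernel

theorem rows_medium : (qsAll.filter fun q => decide (20 ≤ q ∧ q < 120)).all rowOk = true := by
  decide +kernel

theorem rows_mid : (qsAll.filter fun q => decide (120 ≤ q ∧ q < 420)).all rowOk = true := by
  decide +kernel

theorem rows_large : (qsAll.filter fun q => decide (420 ≤ q)).all rowOk = true := by decide +kernel

/-- The counts in the presence of a local subgroup with an alternating quotient. -/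
def fiveOk (a b : ℕ) : Bool :=
  ([0, 3, 6].filter fun e => decide (e = 0 ∨ 5 ^ b % 3 = 1)).all fun e =>
    (List.range (2 ^ a)).all fun y =>
      !(decide (9 * y ≤ 6 * (2 ^ a - 1)) &&
        (decide (3 * (2 ^ a * 5 ^ b) ≤ 16 * (9 * (7 + (9 * y + e * (5 ^ b - 1))))) &&
          valOk 5 b (2 ^ a * 5 ^ b) (9 * (7 + (9 * y + e * (5 ^ b - 1)))) &&
            srch 5 a b 9 (9 * (7 + (9 * y + e * (5 ^ b - 1))))))

theorem five_all :
    ((List.range 5).all fun a' => (List.range 13).all fun b' => fiveOk (a' + 3) (b' + 1)) = true := by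
  decide +kernel

end CfsgLib.NineOneClass
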