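import Mathlib
import Cfsg.Agent.Lib.NineOneClass.Column
import Cfsg.Agent.Lib.NineOneClass.Table

/-!
The possible orders, from a column and the count of invariant elements.
-/

set_option autoImplicit false

namespace CfsgLib.NineOneClass

/-- The invariant elements of a large 2-part. -/
def bigVal (a : ℕ) : ℕ := if a % 2 = 0 then 6 * (2 ^ a - 1) else 3 * (2 ^ (a - 1) - 1)

/-- The possible numbers of invariant elements when the maximal subgroups intersect trivially. -/
def CountSpec (q a b x : ℕ) : Prop :=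
  (∃ α β, x = α + β ∧ (α = 0 ∨ α = 9 ∨ α = 18 ∨ α = 27 ∨ α = bigVal a) ∧
    (β = 0 ∨ (q ^ b % 3 = 1 ∧ (β = 3 * (q ^ b - 1) ∨ β = 6 * (q ^ b - 1)) ∧ q ≤ 3 * 2 ^ a))) ∨
  (q ^ b % 3 = 1 ∧ (∃ k, (k = 0 ∨ k = 9 ∨ k = 18) ∧ x = 3 * (4 * q ^ b - 1) + k) ∧
    q ≤ 3 * 2 ^ (a - 3))

theorem CountSpec.mem {q a b x : ℕ} (h : CountSpec q a b x) : x ∈ cntOpts q a b := by
  simp only [cntOpts]
  rcases h with ⟨α, β, rfl, hα, hβ⟩ | ⟨hB, ⟨k, hk, rfl⟩, -⟩
  · have hal : α ∈ [0, 9, 18, 27, if a % 2 = 0 then 6 * (2 ^ a - 1) else 3 * (2 ^ (a - 1) - 1)] := by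
      simp only [bigVal] at hα
      simp only [List.mem_cons, List.not_mem_nil, or_false]
      exact hα
    rcases hβ with rfl | ⟨hB, hβ, -⟩
    · rw [add_zero]
      by_cases hB : q ^ b % 3 = 1
      · rw [if_pos hB]
        exact List.mem_append_left _ (List.mem_append_left _ (List.mem_append_left _ hal))
      · rw [if_neg hB]
        exact hal
    · rw [if_pos hB]
      simp only [List.mem_append, List.mem_map]
      rcases hβ with rfl | rfl
      · exact Or.inl (Or.inl (Or.inr ⟨α, hal, rfl⟩))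
      · exact Or.inl (Or.inr ⟨α, hal, rfl⟩)
  · rw [if_pos hB]
    simp only [List.mem_append, List.mem_cons, List.not_mem_nil, or_false]
    right
    rcases hk with rfl | rfl | rfl <;> simp

theorem qsAll_mem {q : ℕ} (hq : q.Prime) (h5 : 5 ≤ q) (h : q ≤ 771) : q ∈ qsAll := by
  simp only [qsAll, List.mem_filter, List.mem_range, Bool.and_eq_true, decide_eq_true_eq,
    List.all_eq_true, Bool.or_eq_true]
  refine ⟨by omega, h5, fun p hp => ?_⟩
  rw [or_iff_not_imp_left, not_not]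
  intro e
  rcases hq.eq_one_or_self_of_dvd p (Nat.dvd_of_mod_eq_zero e) with h1 | h1
  · subst h1; simp at hp
  · exact h1.symm

theorem rowOk_all {q : ℕ} (hq : q ∈ qsAll) : rowOk q = true := by
  have hs := List.all_eq_true.mp rows_small q
  have hm := List.all_eq_true.mp rows_medium q
  have hd := List.all_eq_true.mp rows_mid q
  have hl := List.all_eq_true.mp rows_large q
  simp only [List.mem_filter, decide_eq_true_eq] at hs hm hd hl
  rcases Nat.lt_or_ge q 20 with h | h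
  · exact hs ⟨hq, h⟩
  rcases Nat.lt_or_ge q 120 with h' | h'
  · exact hm ⟨hq, h, h'⟩
  rcases Nat.lt_or_ge q 420 with h'' | h''
  · exact hd ⟨hq, h', h''⟩
  · exact hl ⟨hq, h''⟩

namespace Column

variable {q a b : ℕ} {ι : Type*} [Fintype ι] [DecidableEq ι] {c : ι → ℤ} {d : ι → ℕ} {i₀ : ι}

/-- Inside the domain only one order survives. -/
theorem residual (h : Column q a b c d i₀) {x : ℕ} (hx : CountSpec q a b x)
    (hT : ((9 * (7 + x) : ℕ) : ℤ) = weight (2 ^ a * q ^ b) c d) (hq : q ≤ 771) (ha : a ≤ 36)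
    (hdom : (a ≤ 9 ∧ q ^ b ≤ 12000000000) ∨ q ^ b ≤ 666) : q = 17 ∧ a = 6 ∧ b = 1 := by
  have hb14 : b ≤ 14 := by
    by_contra hc
    have h1 : 5 ^ 15 ≤ q ^ b :=
      (Nat.pow_le_pow_left h.hq5 15).trans (Nat.pow_le_pow_right h.hq.pos (by omega))
    rcases hdom with ⟨-, hd⟩ | hd <;> norm_num at h1 <;> omega
  have hb1 := h.b_pos
  have ha3 := h.ha
  have hrow := rowOk_all (qsAll_mem h.hq h.hq5 hq)
  simp only [rowOk, List.all_eq_true, List.mem_range, Bool.or_eq_true, Bool.not_eq_true',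
    decide_eq_true_eq] at hrow
  rcases hrow (a - 3) (by omega) (b - 1) (by omega) with (hd | hok) | hr
  · exfalso
    rw [show a - 3 + 3 = a by omega, show b - 1 + 1 = b by omega] at hd
    simp only [inDom, Bool.or_eq_false_iff, Bool.and_eq_false_iff, decide_eq_false_iff_not] at hd
    omega
  · exfalso
    rw [show a - 3 + 3 = a by omega, show b - 1 + 1 = b by omega] at hok
    simp only [oneOk, List.all_eq_true, Bool.not_eq_true', Bool.and_eq_false_iff] at hok
    have hs : srch q a b 3 (9 * (7 + x)) = true := h.srch_eq_true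
      (fun i hi => h.three_le i (mem_supp.mp hi).1 (mem_supp.mp hi).2) hT
    have hch : cheap q a b (9 * (7 + x)) = true := by
      simp only [cheap, Bool.and_eq_true, decide_eq_true_eq]
      refine ⟨⟨?_, h.valOk_right hT⟩, h.valOk_left hT⟩
      have := h.weight_ge
      rw [← hT] at this
      exact_mod_cast this
    rcases hok x hx.mem with e | e
    · rw [hch] at e; exact Bool.noConfusion e
    · rw [hs] at e; exact Bool.noConfusion e
  · omega

/-- The prime power bound from `7 + x = K + e * q ^ b`. -/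
theorem pow_bound (h : Column q a b c d i₀) {x K e : ℕ} (hK : 7 + x = K + e * q ^ b) (hK1 : 1 ≤ K)
    (hT : ((9 * (7 + x) : ℕ) : ℤ) = weight (2 ^ a * q ^ b) c d) :
    q ^ b ≤ K ∨ q ^ b < 9 * 2 ^ a * (K * K) := by
  rcases Nat.lt_or_ge K (q ^ b) with hlt | hge
  swap
  · exact Or.inl hge
  right
  set v := K.factorization q with hv
  have hK0 : K ≠ 0 := by omega
  have hvK : q ^ v ≤ K := Nat.le_of_dvd (by omega) (Nat.ordProj_dvd K q)
  have hvb : v < b := (Nat.pow_lt_pow_iff_right h.hq.one_lt).mp (lt_of_le_of_lt hvK hlt)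
  have hnd : ¬ q ^ (v + 1) ∣ 9 * (7 + x) := by
    intro hd
    have h3 : ¬ q ∣ 9 := fun h9 => by
      have h5 := h.hq5
      have := (Nat.prime_dvd_prime_iff_eq h.hq Nat.prime_three).mp
        (h.hq.dvd_of_dvd_pow (show q ∣ 3 ^ 2 by simpa using h9))
      omega
    have h1 : q ^ (v + 1) ∣ 7 + x :=
      (Nat.Coprime.pow_left _ (h.hq.coprime_iff_not_dvd.mpr h3)).dvd_of_dvd_mul_left hd
    rw [hK] at h1
    have h2 : q ^ (v + 1) ∣ e * q ^ b := dvd_mul_of_dvd_right (pow_dvd_pow q (by omega)) _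
    exact Nat.pow_succ_factorization_not_dvd hK0 h.hq ((Nat.dvd_add_left h2).mp h1)
  have := h.valuation h.hq (dvd_mul_left _ _) hT hvb hnd
  have e1 : q ^ b * q ^ b = q ^ (2 * (b - v)) * (q ^ v * q ^ v) := by
    rw [← pow_add, ← pow_add, ← pow_add]; congr 1; omega
  have hB : 0 < q ^ b := pow_pos h.hq.pos b
  have h4 : q ^ b * q ^ b < q ^ b * (9 * 2 ^ a * (K * K)) := by
    rw [e1]
    calc q ^ (2 * (b - v)) * (q ^ v * q ^ v) < 9 * (2 ^ a * q ^ b) * (q ^ v * q ^ v) :=
          Nat.mul_lt_mul_of_pos_right this (Nat.mul_pos (pow_pos h.hq.pos v) (pow_pos h.hq.pos v))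
      _ ≤ 9 * (2 ^ a * q ^ b) * (K * K) := Nat.mul_le_mul_left _ (Nat.mul_le_mul hvK hvK)
      _ = _ := by ring
  exact Nat.lt_of_mul_lt_mul_left h4

/-- The bound on the power of two from `7 + x = K + e * 2 ^ f`. -/
theorem two_bound (h : Column q a b c d i₀) {x K e f : ℕ} (hK : 7 + x = K + e * 2 ^ f) (hK1 : 1 ≤ K)
    (hf : a ≤ f + 1) (hT : ((9 * (7 + x) : ℕ) : ℤ) = weight (2 ^ a * q ^ b) c d) :
    2 ^ a ≤ 2 * K ∨ 2 ^ a < 9 * q ^ b * (K * K) := by
  rcases Nat.lt_or_ge (2 * K) (2 ^ a) with hlt | hge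
  swap
  · exact Or.inl hge
  right
  set v := K.factorization 2 with hv
  have hK0 : K ≠ 0 := by omega
  have hvK : 2 ^ v ≤ K := Nat.le_of_dvd (by omega) (Nat.ordProj_dvd K 2)
  have hva : v + 1 < a := by
    refine (Nat.pow_lt_pow_iff_right (by norm_num)).mp (lt_of_le_of_lt ?_ hlt)
    rw [pow_succ']; omega
  have hnd : ¬ 2 ^ (v + 1) ∣ 9 * (7 + x) := by
    intro hd
    have h1 : 2 ^ (v + 1) ∣ 7 + x :=
      (Nat.Coprime.pow_left _ (by norm_num : Nat.Coprime 2 9)).dvd_of_dvd_mul_left hd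
    rw [hK] at h1
    have h2 : 2 ^ (v + 1) ∣ e * 2 ^ f := dvd_mul_of_dvd_right (pow_dvd_pow 2 (by omega)) _
    exact Nat.pow_succ_factorization_not_dvd hK0 Nat.prime_two ((Nat.dvd_add_left h2).mp h1)
  have := h.valuation Nat.prime_two (dvd_mul_right _ _) hT (by omega : v < a) hnd
  have e1 : 2 ^ a * 2 ^ a = 2 ^ (2 * (a - v)) * (2 ^ v * 2 ^ v) := by
    rw [← pow_add, ← pow_add, ← pow_add]; congr 1; omega
  have hB : 0 < 2 ^ a := pow_pos (by norm_num) a
  have h4 : 2 ^ a * 2 ^ a < 2 ^ a * (9 * q ^ b * (K * K)) := by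
    rw [e1]
    calc 2 ^ (2 * (a - v)) * (2 ^ v * 2 ^ v) < 9 * (2 ^ a * q ^ b) * (2 ^ v * 2 ^ v) :=
          Nat.mul_lt_mul_of_pos_right this
            (Nat.mul_pos (pow_pos (by norm_num) v) (pow_pos (by norm_num) v))
      _ ≤ 9 * (2 ^ a * q ^ b) * (K * K) := Nat.mul_le_mul_left _ (Nat.mul_le_mul hvK hvK)
      _ = _ := by ring
  exact Nat.lt_of_mul_lt_mul_left h4

theorem order_unique (h : Column q a b c d i₀) {x : ℕ} (hx : CountSpec q a b x)
    (hT : ((9 * (7 + x) : ℕ) : ℤ) = weight (2 ^ a * q ^ b) c d) : q = 17 ∧ a = 6 ∧ b = 1 := by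
  have ha3 := h.ha
  have hge : 3 * (2 ^ a * q ^ b) ≤ 16 * (9 * (7 + x)) := by
    have := h.weight_ge
    rw [← hT] at this
    exact_mod_cast this
  have hqB : q ≤ q ^ b := Nat.le_self_pow (by have := h.b_pos; omega) q
  have hA8 : 8 ≤ 2 ^ a := by
    calc 8 = 2 ^ 3 := rfl
      _ ≤ 2 ^ a := Nat.pow_le_pow_right (by norm_num) ha3
  have hB5 : 5 ≤ q ^ b := h.hq5.trans hqB
  have hbig : bigVal a ≤ 6 * 2 ^ a - 6 ∧ (a % 2 = 0 → bigVal a = 6 * 2 ^ a - 6) ∧
      (a % 2 = 1 → bigVal a + 3 = 3 * 2 ^ (a - 1)) := by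
    have h1 : 2 ^ (a - 1) * 2 = 2 ^ a := by rw [← pow_succ]; congr 1; omega
    simp only [bigVal]
    split_ifs <;> omega
  rcases Nat.lt_or_ge a 10 with ha10 | ha10
  · -- a small power of two
    have hA512 : 2 ^ a ≤ 512 := by
      calc 2 ^ a ≤ 2 ^ 9 := Nat.pow_le_pow_right (by norm_num) (by omega)
        _ = 512 := rfl
    have hB : q ≤ 771 ∧ ∃ K e, 7 + x = K + e * q ^ b ∧ 1 ≤ K ∧ K ≤ 1543 := by
      rcases hx with ⟨α, β, rfl, hα, hβ⟩ | ⟨hB, ⟨k, hk, rfl⟩, hq3⟩
      · have hα9 : α ≤ 1536 ∧ α ≤ 6 * 2 ^ a := by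
          rcases Nat.even_or_odd a with he | ho
          · rw [Nat.even_iff] at he
            have : 2 ^ a ≤ 256 := by
              calc 2 ^ a ≤ 2 ^ 8 := Nat.pow_le_pow_right (by norm_num) (by omega)
                _ = 256 := rfl
            have := hbig.2.1 he
            omega
          · rw [Nat.odd_iff] at ho
            have h1 : 2 ^ (a - 1) ≤ 256 := by
              calc 2 ^ (a - 1) ≤ 2 ^ 8 := Nat.pow_le_pow_right (by norm_num) (by omega)
                _ = 256 := rfl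
            have := hbig.2.2 ho
            omega
        rcases hβ with rfl | ⟨hB, hβ, hqA⟩
        · refine ⟨?_, 7 + α, 0, by ring, by omega, by omega⟩
          by_contra hc
          have h1 : 3 * (2 ^ a * 772) ≤ 3 * (2 ^ a * q ^ b) :=
            Nat.mul_le_mul_left _ (Nat.mul_le_mul_left _ (by omega))
          omega
        · refine ⟨?_, ?_⟩
          · by_contra hc
            have ha9 : a = 9 := by
              by_contra h9
              have : 2 ^ a ≤ 256 := by
                calc 2 ^ a ≤ 2 ^ 8 := Nat.pow_le_pow_right (by norm_num) (by omega)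
                  _ = 256 := rfl
              omega
            subst ha9
            have := hbig.2.2 (by norm_num)
            norm_num at hge hqA this
            omega
          · rcases hβ with rfl | rfl
            · exact ⟨7 + α - 3, 3, by omega, by omega, by omega⟩
            · exact ⟨7 + α - 6, 6, by omega, by omega, by omega⟩
      · refine ⟨?_, 4 + k, 12, by omega, by omega, by omega⟩
        have : 2 ^ (a - 3) ≤ 64 := by
          calc 2 ^ (a - 3) ≤ 2 ^ 6 := Nat.pow_le_pow_right (by norm_num) (by omega)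
            _ = 64 := rfl
        omega
    obtain ⟨hq, K, e, hK, hK1, hK2⟩ := hB
    refine h.residual hx hT hq (by omega) (Or.inl ⟨by omega, ?_⟩)
    rcases h.pow_bound hK hK1 hT with h1 | h1
    · omega
    · have : 9 * 2 ^ a * (K * K) ≤ 9 * 512 * (1543 * 1543) :=
        Nat.mul_le_mul (Nat.mul_le_mul_left 9 hA512) (Nat.mul_le_mul hK2 hK2)
      omega
  · -- a small prime power
    have hA1024 : 1024 ≤ 2 ^ a := by
      calc 1024 = 2 ^ 10 := rfl
        _ ≤ 2 ^ a := Nat.pow_le_pow_right (by norm_num) ha10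
    rcases hx with ⟨α, β, rfl, hα, hβ⟩ | ⟨hB, ⟨k, hk, rfl⟩, hq3⟩
    swap
    · exfalso
      have h1 : 3 * (1024 * q ^ b) ≤ 3 * (2 ^ a * q ^ b) :=
        Nat.mul_le_mul_left _ (Nat.mul_le_mul_right _ hA1024)
      omega
    have hβ6 : β + 6 ≤ 6 * q ^ b := by rcases hβ with rfl | ⟨-, rfl | rfl, -⟩ <;> omega
    have hB401 : q ^ b ≤ 401 := by
      by_contra hc
      have hα6 : α ≤ 6 * 2 ^ a := by omega
      have h1 : 16 * (9 * (7 + (α + β))) ≤ 144 * (7 + 6 * 2 ^ a + 6 * q ^ b) := by omega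
      nlinarith
    have hαbig : α = bigVal a := by
      by_contra hc
      have : α ≤ 27 := by omega
      have h1 : 3 * (1024 * q ^ b) ≤ 3 * (2 ^ a * q ^ b) :=
        Nat.mul_le_mul_left _ (Nat.mul_le_mul_right _ hA1024)
      omega
    subst hαbig
    have hK : ∃ K e f, 7 + (bigVal a + β) = K + e * 2 ^ f ∧ 1 ≤ K ∧ K ≤ 2410 ∧ a ≤ f + 1 := by
      rcases Nat.even_or_odd a with he | ho
      · rw [Nat.even_iff] at he
        exact ⟨1 + β, 6, a, by have := hbig.2.1 he; omega, by omega, by omega, by omega⟩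
      · rw [Nat.odd_iff] at ho
        exact ⟨4 + β, 3, a - 1, by have := hbig.2.2 ho; omega, by omega, by omega, by omega⟩
    obtain ⟨K, e, f, hK, hK1, hK2, hf⟩ := hK
    have ha36 : a ≤ 36 := by
      by_contra hc
      have h37 : 2 ^ 37 ≤ 2 ^ a := Nat.pow_le_pow_right (by norm_num) (by omega)
      rcases h.two_bound hK hK1 hf hT with h1 | h1
      · norm_num at h37; omega
      · have : 9 * q ^ b * (K * K) ≤ 9 * 401 * (2410 * 2410) :=
          Nat.mul_le_mul (Nat.mul_le_mul_left 9 hB401) (Nat.mul_le_mul hK2 hK2)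
        norm_num at h37; omega
    exact h.residual (Or.inl ⟨_, β, rfl, Or.inr (Or.inr (Or.inr (Or.inr rfl))), hβ⟩) hT
      (by omega) ha36 (Or.inr (by omega))

/-- In the presence of a local subgroup with alternating quotient, nothing survives. -/
theorem five_false (h : Column 5 a b c d i₀) (h8 : ∀ i ∈ supp c i₀, d i ≠ 8) {y e : ℕ}
    (hy : 9 * y ≤ 6 * (2 ^ a - 1)) (he : e = 0 ∨ ((e = 3 ∨ e = 6) ∧ 5 ^ b % 3 = 1))
    (hT : ((9 * (7 + (9 * y + e * (5 ^ b - 1))) : ℕ) : ℤ) = weight (2 ^ a * 5 ^ b) c d) : False := by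
  have hge : 36 * (2 ^ a * 5 ^ b) ≤ 80 * (9 * (7 + (9 * y + e * (5 ^ b - 1)))) := by
    have := h.weight_ge_five h8
    rw [← hT] at this
    exact_mod_cast this
  have ha3 := h.ha
  have hA8 : 8 ≤ 2 ^ a := by
    calc 8 = 2 ^ 3 := rfl
      _ ≤ 2 ^ a := Nat.pow_le_pow_right (by norm_num) ha3
  have hb3 : 3 ≤ b := by
    obtain ⟨v, h1, h2, h3⟩ := h.exists_odd
    by_contra hc
    have hv3 : v < 3 := by omega
    interval_cases v <;> omega
  have hB125 : 125 ≤ 5 ^ b := by
    calc 125 = 5 ^ 3 := rfl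
      _ ≤ 5 ^ b := Nat.pow_le_pow_right (by norm_num) hb3
  rcases he with rfl | ⟨he, hB⟩
  · have h1 : 36 * (2 ^ a * 125) ≤ 36 * (2 ^ a * 5 ^ b) :=
      Nat.mul_le_mul_left _ (Nat.mul_le_mul_left _ hB125)
    omega
  have hb4 : 4 ≤ b := by
    by_contra hc
    rw [show b = 3 by omega] at hB
    norm_num at hB
  have hB625 : 625 ≤ 5 ^ b := by
    calc 625 = 5 ^ 4 := rfl
      _ ≤ 5 ^ b := Nat.pow_le_pow_right (by norm_num) hb4
  have he6 : e * (5 ^ b - 1) ≤ 6 * (5 ^ b - 1) := Nat.mul_le_mul_right _ (by omega)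
  have ha7 : a ≤ 7 := by
    by_contra hc
    have h256 : 256 ≤ 2 ^ a := by
      calc 256 = 2 ^ 8 := rfl
        _ ≤ 2 ^ a := Nat.pow_le_pow_right (by norm_num) (by omega)
    have h1 : 2 ^ a * 5 ^ b ≤ 20 * (7 + 6 * 2 ^ a + 6 * 5 ^ b) := by omega
    nlinarith
  have hA128 : 2 ^ a ≤ 128 := by
    calc 2 ^ a ≤ 2 ^ 7 := Nat.pow_le_pow_right (by norm_num) ha7
      _ = 128 := rfl
  have hb13 : b ≤ 13 := by
    by_contra hc
    have h14 : 5 ^ 14 ≤ 5 ^ b := Nat.pow_le_pow_right (by norm_num) (by omega)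
    norm_num at h14
    have hK : 7 + (9 * y + e * (5 ^ b - 1)) = (7 + 9 * y - e) + e * 5 ^ b := by
      rw [Nat.mul_sub]
      have : e ≤ e * 5 ^ b := Nat.le_mul_of_pos_right _ (by positivity)
      omega
    rcases h.pow_bound hK (by omega) hT with h1 | h1
    · omega
    · have : 9 * 2 ^ a * ((7 + 9 * y - e) * (7 + 9 * y - e)) ≤ 9 * 128 * (769 * 769) :=
        Nat.mul_le_mul (Nat.mul_le_mul_left 9 hA128) (Nat.mul_le_mul (by omega) (by omega))
      omega
  have hall := five_all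
  simp only [List.all_eq_true, List.mem_range] at hall
  have hok := hall (a - 3) (by omega) (b - 1) (by omega)
  rw [show a - 3 + 3 = a by omega, show b - 1 + 1 = b by omega] at hok
  simp only [fiveOk, List.all_eq_true, List.mem_filter, List.mem_range, Bool.not_eq_true',
    Bool.and_eq_false_iff, decide_eq_false_iff_not, decide_eq_true_eq] at hok
  have hs := h.srch_eq_true (lo := 9) (T := 9 * (7 + (9 * y + e * (5 ^ b - 1)))) (fun i hi => by
    have h9 := h.mod i
    have h0 := h.nonneg i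
    have h3 := h.three_le i (mem_supp.mp hi).1 (mem_supp.mp hi).2
    have := h8 i hi
    rcases h.value hi with e' | e' | e' | e' <;> rw [e'] at h9 h0 <;> omega) hT
  have hv := h.valOk_right hT
  have hmem : (e ∈ [0, 3, 6]) := by rcases he with rfl | rfl <;> simp
  have hfin := hok e ⟨hmem, Or.inr hB⟩ y (by omega)
  simp [hs, hv] at hfin
  omega

end Column

end CfsgLib.NineOneClass
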