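import Mathlib
import Cfsg.Agent.Lib.NineSelfCent.Values
import Cfsg.Agent.Lib.SelfCentThree.Simple

/-!
A simple group of order `9 * 2 ^ a * q ^ b` with a self-centralizing elementary abelian Sylow
`3`-subgroup and a single class of elements of order three: elementary facts.
-/

set_option autoImplicit false
set_option linter.style.haveILetI false

open scoped IsMulCommutative

namespace CfsgLib.NineOneClass

open CfsgLib.SCThree CfsgLib.SelfCent

universe u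

variable {G : Type u} [Group G] [Finite G]

/-- The standing hypothesis. -/
structure Ctx (P : Sylow 3 G) (R : Subgroup G) (k t : G) (q a b : ℕ) : Prop where
  hyp : CfsgLib.NineSelfCent.Hyp P R
  simple : IsSimpleGroup G
  nonab : ¬ IsMulCommutative G
  hq : q.Prime
  hq5 : 5 ≤ q
  card : Nat.card G = 9 * (2 ^ a * q ^ b)
  ha : 3 ≤ a
  kmem : k ∈ R
  k1 : k ≠ 1
  one : ∀ u ∈ R, u ≠ 1 → IsConj k u
  tN : t ∈ Subgroup.normalizer (R : Set G)
  t2 : t * t = 1
  tinv : ∀ u ∈ R, t * u * t⁻¹ = u⁻¹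

variable {P : Sylow 3 G} {R : Subgroup G} {k t : G} {q a b : ℕ}

namespace Ctx

theorem pow_three (C : Ctx P R k t q a b) {u : G} (hu : u ∈ R) : u * u * u = 1 := by
  have := C.hyp.exp u hu
  rwa [pow_succ, pow_two] at this

theorem inv_eq (C : Ctx P R k t q a b) {u : G} (hu : u ∈ R) : u⁻¹ = u * u :=
  inv_eq_of_mul_eq_one_left (C.pow_three hu)

theorem orderOf_eq (C : Ctx P R k t q a b) {u : G} (hu : u ∈ R) (hu1 : u ≠ 1) : orderOf u = 3 :=
  CfsgLib.NineSelfCent.orderOf_eq_three (C.hyp.exp u hu) hu1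

/-- A `3'`-element commuting with a nontrivial element of order three is trivial. -/
theorem eq_one_of_comm (C : Ctx P R k t q a b) {y m : G} (hy : y ^ 3 = 1) (hy1 : y ≠ 1)
    (hm : ¬ 3 ∣ orderOf m) (hc : m * y = y * m) : m = 1 := by
  have h3 := C.hyp.cube_of_comm hy hy1 hc
  rcases (Nat.dvd_prime Nat.prime_three).mp (orderOf_dvd_of_pow_eq_one h3) with e | e
  · exact orderOf_eq_one_iff.mp e
  · exact absurd (dvd_of_eq e.symm) hm

theorem three_steps (C : Ctx P R k t q a b) {y : G} (hy : y ∈ R) (m : G) :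
    y * (y * (y * m * y⁻¹) * y⁻¹) * y⁻¹ = m := by
  calc y * (y * (y * m * y⁻¹) * y⁻¹) * y⁻¹ = (y * y * y) * m * (y * y * y)⁻¹ := by group
    _ = m := by rw [C.pow_three hy]; group

/-- The identity of a fixed-point-free automorphism of order three. -/
theorem identity (C : Ctx P R k t q a b) {y : G} (hy : y ∈ R) (hy1 : y ≠ 1) {M : Subgroup G}
    (hM : Inv y M) {m : G} (hm : m ∈ M) :
    m * (y * m * y⁻¹) * (y * (y * m * y⁻¹) * y⁻¹) = 1 := by
  have hfpf : ∀ g : M, invAut hM g = g → g = 1 := fun g hg => Subtype.ext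
    (C.eq_one_of_comm (C.hyp.exp y hy) hy1 (hM.not_dvd_orderOf g.2) (by
      have : y * (g : G) * y⁻¹ = g := congrArg Subtype.val hg
      exact (mul_inv_eq_iff_eq_mul.mp this).symm))
  have h3 : ∀ g : M, invAut hM (invAut hM (invAut hM g)) = g := fun g =>
    Subtype.ext (C.three_steps hy (g : G))
  exact congrArg Subtype.val
    (CfsgLib.SymThree.mul_map_mul_map_eq_one (invAut hM) h3 hfpf ⟨m, hm⟩)

theorem isNilpotent (C : Ctx P R k t q a b) {M : Subgroup G} (hM : Inv k M) : Group.IsNilpotent M :=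
  CfsgLib.SymThree.isNilpotent_of_fpf_three (invAut hM)
    (fun g => Subtype.ext (C.three_steps C.kmem (g : G)))
    (fun g hg => Subtype.ext (C.eq_one_of_comm (C.hyp.exp k C.kmem) C.k1 (hM.not_dvd_orderOf g.2) (by
      have : k * (g : G) * k⁻¹ = g := congrArg Subtype.val hg
      exact (mul_inv_eq_iff_eq_mul.mp this).symm)))

theorem card_mod (C : Ctx P R k t q a b) {M : Subgroup G} (hM : Inv k M) : Nat.card M % 3 = 1 := by
  haveI : Fact (Nat.Prime 3) := ⟨Nat.prime_three⟩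
  let φ : Function.End M := fun m => invAut hM m
  have h1 : φ ^ 3 ^ 1 = 1 := funext fun m => Subtype.ext (C.three_steps C.kmem (m : G))
  letI := Fintype.ofFinite M
  classical
  have := Equiv.Perm.card_fixedPoints_modEq h1
  have hfix : Function.fixedPoints φ = {1} := by
    ext m
    constructor
    · intro hm
      have : k * (m : G) * k⁻¹ = m := congrArg Subtype.val hm
      exact Subtype.ext (C.eq_one_of_comm (C.hyp.exp k C.kmem) C.k1 (hM.not_dvd_orderOf m.2)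
        (mul_inv_eq_iff_eq_mul.mp this).symm)
    · rintro rfl
      exact map_one (invAut hM)
  rw [← Nat.card_eq_fintype_card, ← Nat.card_eq_fintype_card, hfix, Nat.card_coe_set_eq,
    Set.ncard_singleton] at this
  exact this

theorem exists_outside (C : Ctx P R k t q a b) : ∃ r ∈ R, r ≠ 1 ∧ r ≠ k ∧ r ≠ k⁻¹ := by
  classical
  by_contra hc
  push Not at hc
  have hsub : (R : Set G) ⊆ {1, k, k⁻¹} := fun r hr => by
    by_cases h1 : r = 1
    · exact Or.inl h1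
    by_cases h2 : r = k
    · exact Or.inr (Or.inl h2)
    exact Or.inr (Or.inr (hc r hr h1 h2))
  have h1 := Set.ncard_le_ncard hsub
  rw [← Nat.card_coe_set_eq] at h1
  have h9 : Nat.card R = 9 := C.hyp.card
  have h2 : ({1, k, k⁻¹} : Set G).ncard ≤ 3 :=
    (Set.ncard_insert_le _ _).trans (Nat.add_le_add_right
      ((Set.ncard_insert_le _ _).trans (by rw [Set.ncard_singleton])) 1)
  have h1' : Nat.card R ≤ ({1, k, k⁻¹} : Set G).ncard := h1
  omega

/-- No nontrivial `3'`-subgroup is invariant under `R`. -/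
theorem eq_bot_of_invariant (C : Ctx P R k t q a b) {M : Subgroup G} (h3 : ¬ 3 ∣ Nat.card M)
    (hn : ∀ u ∈ R, u ∈ Subgroup.normalizer (M : Set G)) : M = ⊥ := by
  by_contra hne
  have hM : Inv k M := ⟨hn k C.kmem, h3⟩
  haveI := C.isNilpotent hM
  haveI : Nontrivial M := (Subgroup.nontrivial_iff_ne_bot M).mpr hne
  haveI : Nontrivial (Subgroup.center M) :=
    (Subgroup.nontrivial_iff_ne_bot _).mpr (Group.IsNilpotent.center_ne_bot M)
  obtain ⟨⟨⟨w, hw⟩, hwc⟩, hw1⟩ := exists_ne (1 : Subgroup.center M)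
  apply hw1
  refine Subtype.ext (Subtype.ext ?_)
  change w = 1
  obtain ⟨r, hr, hr1, hrk, hrk'⟩ := C.exists_outside
  have hI : ∀ u ∈ R, Inv u M := fun u hu => ⟨hn u hu, h3⟩
  have hcm : ∀ g : G, g ∈ Subgroup.normalizer (M : Set G) → ∀ z ∈ M,
      (∀ o ∈ M, z * o = o * z) → g * z * g⁻¹ ∈ M ∧ ∀ o ∈ M, g * z * g⁻¹ * o = o * (g * z * g⁻¹) := by
    intro g hg z hz hzc
    refine ⟨(Subgroup.mem_normalizer_iff.mp hg z).mp hz, fun o ho => ?_⟩
    have ho' : g⁻¹ * o * g ∈ M := by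
      simpa using (Subgroup.mem_normalizer_iff.mp (inv_mem hg) o).mp ho
    calc g * z * g⁻¹ * o = g * (z * (g⁻¹ * o * g)) * g⁻¹ := by group
      _ = g * ((g⁻¹ * o * g) * z) * g⁻¹ := by rw [hzc _ ho']
      _ = _ := by group
  have hwc' : ∀ o ∈ M, w * o = o * w := fun o ho =>
    (congrArg Subtype.val (Subgroup.mem_center_iff.mp hwc ⟨o, ho⟩)).symm
  set v := k * w * k⁻¹
  set u := r * w * r⁻¹
  set z := (k * r) * w * (k * r)⁻¹
  obtain ⟨hvM, hvc⟩ := hcm k (hn k C.kmem) w hw hwc'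
  obtain ⟨huM, huc⟩ := hcm r (hn r hr) w hw hwc'
  obtain ⟨hzM, hzc⟩ := hcm (k * r) (mul_mem (hn k C.kmem) (hn r hr)) w hw hwc'
  let Z := Subgroup.center M
  let W : Z := ⟨⟨w, hw⟩, hwc⟩
  let V : Z := ⟨⟨v, hvM⟩, Subgroup.mem_center_iff.mpr fun o => Subtype.ext (hvc o o.2).symm⟩
  let U : Z := ⟨⟨u, huM⟩, Subgroup.mem_center_iff.mpr fun o => Subtype.ext (huc o o.2).symm⟩
  let X : Z := ⟨⟨z, hzM⟩, Subgroup.mem_center_iff.mpr fun o => Subtype.ext (hzc o o.2).symm⟩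
  have hkr : k * r = r * k := C.hyp.comm k C.kmem r hr
  have hkr1 : k * r ≠ 1 := fun e => hrk' (eq_inv_of_mul_eq_one_right e)
  have hkr2 : k * r⁻¹ ≠ 1 := fun e => hrk (mul_inv_eq_one.mp e).symm
  have conj_mul' : ∀ g g' m : G, g * g' * m * (g * g')⁻¹ = g * (g' * m * g'⁻¹) * g⁻¹ := fun g g' m => by
    group
  -- second powers
  have e1 : k * v * k⁻¹ = (w * v)⁻¹ :=
    eq_inv_of_mul_eq_one_right (C.identity C.kmem C.k1 (hI k C.kmem) hw)
  have e2 : r * u * r⁻¹ = (w * u)⁻¹ :=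
    eq_inv_of_mul_eq_one_right (C.identity hr hr1 (hI r hr) hw)
  have f1 : k * u * k⁻¹ = z := (conj_mul' k r w).symm
  have e3 : k * z * k⁻¹ = (u * z)⁻¹ := by
    have := eq_inv_of_mul_eq_one_right (C.identity C.kmem C.k1 (hI k C.kmem) huM)
    rwa [f1] at this
  -- the line through `k * r`
  have hA : w * z * ((k * r) * z * (k * r)⁻¹) = 1 :=
    C.identity (mul_mem C.kmem hr) hkr1 (hI _ (mul_mem C.kmem hr)) hw
  have hA' : (k * r) * z * (k * r)⁻¹ = (u * z)⁻¹⁻¹ * ((k * v * k⁻¹))⁻¹ := by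
    have h2 : (k * r) * z * (k * r)⁻¹ = k * (k * (r * u * r⁻¹) * k⁻¹) * k⁻¹ := by
      calc (k * r) * z * (k * r)⁻¹ = k * ((r * k) * (r * w * r⁻¹) * (r * k)⁻¹) * k⁻¹ := by
            simp only [z]; group
        _ = k * ((k * r) * (r * w * r⁻¹) * (k * r)⁻¹) * k⁻¹ := by rw [hkr]
        _ = _ := by simp only [u]; group
    rw [h2, e2]
    calc k * (k * (w * u)⁻¹ * k⁻¹) * k⁻¹ = (k * (k * u * k⁻¹) * k⁻¹)⁻¹ * (k * v * k⁻¹)⁻¹ := by
          simp [v, mul_assoc]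
      _ = _ := by rw [f1, e3]
  -- the line through `k * r⁻¹`
  have hB : w * (k * r⁻¹ * w * (k * r⁻¹)⁻¹) *
      ((k * r⁻¹) * (k * r⁻¹ * w * (k * r⁻¹)⁻¹) * (k * r⁻¹)⁻¹) = 1 :=
    C.identity (mul_mem C.kmem (inv_mem hr)) hkr2 (hI _ (mul_mem C.kmem (inv_mem hr))) hw
  have hr2 : r⁻¹ = r * r := C.inv_eq hr
  have g1 : k * r⁻¹ * w * (k * r⁻¹)⁻¹ = z⁻¹ * v⁻¹ := by
    calc k * r⁻¹ * w * (k * r⁻¹)⁻¹ = k * (r⁻¹ * w * (r⁻¹)⁻¹) * k⁻¹ := by group
      _ = k * ((r * r) * w * (r * r)⁻¹) * k⁻¹ := by rw [hr2]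
      _ = k * (r * u * r⁻¹) * k⁻¹ := by simp [u, mul_assoc]
      _ = k * (w * u)⁻¹ * k⁻¹ := by rw [e2]
      _ = (k * u * k⁻¹)⁻¹ * v⁻¹ := by simp only [v]; group
      _ = _ := by rw [f1]
  have g2 : (k * r⁻¹) * (k * r⁻¹ * w * (k * r⁻¹)⁻¹) * (k * r⁻¹)⁻¹ = (u * z)⁻¹ := by
    have hkr' : r⁻¹ * k = k * r⁻¹ := (C.hyp.comm k C.kmem r⁻¹ (inv_mem hr)).symm
    have hr4 : r⁻¹ * r⁻¹ = r := by rw [← mul_inv_rev, ← hr2, inv_inv]
    calc (k * r⁻¹) * (k * r⁻¹ * w * (k * r⁻¹)⁻¹) * (k * r⁻¹)⁻¹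
        = (k * (r⁻¹ * k) * r⁻¹) * w * (k * (r⁻¹ * k) * r⁻¹)⁻¹ := by group
      _ = (k * k * (r⁻¹ * r⁻¹)) * w * (k * k * (r⁻¹ * r⁻¹))⁻¹ := by rw [hkr']; group
      _ = (k * k * r) * w * (k * k * r)⁻¹ := by rw [hr4]
      _ = k * z * k⁻¹ := by simp only [z]; group
      _ = _ := e3
  rw [hA', e1, inv_inv, inv_inv] at hA
  rw [g2, g1] at hB
  have hA2 : W * X * (U * X * (W * V)) = 1 := Subtype.ext (Subtype.ext hA)
  have hB2 : W * (X⁻¹ * V⁻¹) * (U * X)⁻¹ = 1 := Subtype.ext (Subtype.ext hB)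
  have h3w : W ^ 3 = 1 := by
    have : W ^ 3 = (W * X * (U * X * (W * V))) * (W * (X⁻¹ * V⁻¹) * (U * X)⁻¹) := by
      apply Additive.ofMul.injective
      simp only [ofMul_mul, ofMul_inv, ofMul_pow]
      abel
    rw [this, hA2, hB2, one_mul]
  have hw3 : w ^ 3 = 1 := congrArg (fun e : Z => ((e : M) : G)) h3w
  by_contra hw1'
  exact hM.not_dvd_orderOf hw (by rw [CfsgLib.NineSelfCent.orderOf_eq_three hw3 hw1'])

theorem inv_conj (C : Ctx P R k t q a b) {g : G} (hg : g ∈ Subgroup.normalizer (R : Set G))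
    {u : G} (hu : u ∈ R) : g * u * g⁻¹ ∈ R :=
  (Subgroup.mem_normalizer_iff.mp hg u).mp hu

/-- A subgroup normalizing a nontrivial invariant subgroup has order not divisible by nine. -/
theorem not_nine_dvd (C : Ctx P R k t q a b) {H D : Subgroup G} (hD : ¬ 3 ∣ Nat.card D)
    (hne : D ≠ ⊥) (hH : H ≤ Subgroup.normalizer (D : Set G)) : ¬ 9 ∣ Nat.card H := by
  intro h9
  haveI : Fact (Nat.Prime 3) := ⟨Nat.prime_three⟩
  obtain ⟨Q⟩ : Nonempty (Sylow 3 H) := inferInstance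
  set T := (Q : Subgroup H).map H.subtype
  have hTp : IsPGroup 3 T := Q.isPGroup'.map _
  obtain ⟨g, hg⟩ := C.hyp.exists_conj_mem hTp
  have hTc : 9 ∣ Nat.card T := by
    rw [← Nat.card_congr (Subgroup.equivMapOfInjective _ _ H.subtype_injective).toEquiv,
      Q.card_eq_multiplicity]
    exact (show (9 : ℕ) = 3 ^ 2 from rfl) ▸
      pow_dvd_pow 3 ((Nat.Prime.pow_dvd_iff_le_factorization Nat.prime_three Nat.card_pos.ne').mp h9)
  have hmap : cj g T = R := by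
    refine Subgroup.eq_of_le_of_card_ge ?_ ?_
    · rintro _ ⟨x, hx, rfl⟩
      exact hg x hx
    · have h := Nat.le_of_dvd Nat.card_pos hTc
      rw [card_cj, C.hyp.card]
      exact h
  have hbot := C.eq_bot_of_invariant (M := cj g D) (by rw [card_cj]; exact hD) fun u hu => by
    rw [mem_normalizer_cj]
    have : u ∈ cj g T := hmap.symm ▸ hu
    exact hH (Subgroup.map_subtype_le _ (mem_cj.mp this))
  rw [Subgroup.map_eq_bot_iff_of_injective _ (MulAut.conj g).injective] at hbot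
  exact hne hbot

/-- Subgroups of order not divisible by nine containing `k` inherit self-centralization. -/
theorem sc_subgroup (C : Ctx P R k t q a b) {H : Subgroup G} (hk : k ∈ H)
    (h9 : ¬ 9 ∣ Nat.card H) : SC (⟨k, hk⟩ : H) := by
  have ho : orderOf (⟨k, hk⟩ : H) = 3 := by
    rw [← C.orderOf_eq C.kmem C.k1, ← Subgroup.orderOf_coe]
  refine ⟨Nat.prime_three, ho, le_antisymm ?_ ?_⟩
  · intro z hz
    rw [Subgroup.mem_centralizer_singleton_iff] at hz
    have hzR : (z : G) ∈ R := by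
      rw [← C.hyp.cent k C.kmem C.k1, Subgroup.mem_centralizer_singleton_iff]
      exact congrArg Subtype.val hz
    have h3 : Nat.card (R ⊓ H : Subgroup G) ≤ 3 := by
      have h1 : Nat.card (R ⊓ H : Subgroup G) ∣ 3 ^ 2 :=
        (show (9 : ℕ) = 3 ^ 2 from rfl) ▸ C.hyp.card ▸ Subgroup.card_dvd_of_le inf_le_left
      have h2 : Nat.card (R ⊓ H : Subgroup G) ∣ Nat.card H := Subgroup.card_dvd_of_le inf_le_right
      obtain ⟨i, hi, e⟩ := (Nat.dvd_prime_pow Nat.prime_three).mp h1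
      rw [e] at h2 ⊢
      interval_cases i
      · norm_num
      · norm_num
      · exact absurd h2 h9
    have hgen : Subgroup.zpowers k = R ⊓ H := Subgroup.eq_of_le_of_card_ge
      (Subgroup.zpowers_le.mpr ⟨C.kmem, hk⟩) (by rw [Nat.card_zpowers, C.orderOf_eq C.kmem C.k1]; exact h3)
    obtain ⟨n, hn⟩ := Subgroup.mem_zpowers_iff.mp
      (show (z : G) ∈ Subgroup.zpowers k from hgen ▸ ⟨hzR, z.2⟩)
    exact Subgroup.mem_zpowers_iff.mpr ⟨n, Subtype.ext (by simpa using hn)⟩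
  · exact Subgroup.zpowers_le.mpr (Subgroup.mem_centralizer_singleton_iff.mpr rfl)

/-- The shape of a local subgroup containing `k`. -/
theorem shape (C : Ctx P R k t q a b) {H D : Subgroup G} (hk : k ∈ H) (hD : ¬ 3 ∣ Nat.card D)
    (hne : D ≠ ⊥) (hH : H ≤ Subgroup.normalizer (D : Set G)) : Shape H :=
  shape_of_selfCent (C.sc_subgroup hk (C.not_nine_dvd hD hne hH))

/-- The elements of `N(⟨k⟩)`. -/
theorem mem_or_inverts (C : Ctx P R k t q a b) {g : G} (hg : g * k * g⁻¹ = k ∨ g * k * g⁻¹ = k⁻¹) :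
    g ∈ R ∨ t⁻¹ * g ∈ R := by
  rcases hg with e | e
  · left
    rw [← C.hyp.cent k C.kmem C.k1, Subgroup.mem_centralizer_singleton_iff]
    exact mul_inv_eq_iff_eq_mul.mp e
  · right
    rw [← C.hyp.cent k C.kmem C.k1, Subgroup.mem_centralizer_singleton_iff]
    calc t⁻¹ * g * k = t⁻¹ * (g * k * g⁻¹) * g := by group
      _ = t⁻¹ * (t * k * t⁻¹) * g := by rw [e, C.tinv k C.kmem]
      _ = k * (t⁻¹ * g) := by group

theorem dvd_card_of_prime (C : Ctx P R k t q a b) {p : ℕ} (hp : p.Prime) (h : p ∣ Nat.card G) :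
    p = 2 ∨ p = 3 ∨ p = q := by
  rw [C.card] at h
  rcases hp.dvd_mul.mp h with h | h
  · exact Or.inr (Or.inl ((Nat.prime_dvd_prime_iff_eq hp Nat.prime_three).mp
      (hp.dvd_of_dvd_pow (show p ∣ 3 ^ 2 from h))))
  rcases hp.dvd_mul.mp h with h | h
  · exact Or.inl ((Nat.prime_dvd_prime_iff_eq hp Nat.prime_two).mp (hp.dvd_of_dvd_pow h))
  · exact Or.inr (Or.inr ((Nat.prime_dvd_prime_iff_eq hp C.hq).mp (hp.dvd_of_dvd_pow h)))

end Ctx

end CfsgLib.NineOneClass
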