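import Cfsg.Agent.Lib.NineOneClass.Parts
import Cfsg.Agent.Lib.NineOneClass.Arith

/-!
How many elements lie in invariant `3'`-subgroups.
-/

set_option autoImplicit false
set_option linter.unusedVariables false
set_option linter.style.haveILetI false

open scoped BigOperators

namespace CfsgLib.NineOneClass

open CfsgLib.SelfCent CfsgLib.SCThree

universe u

variable {G : Type u} [Group G] [Finite G] {P : Sylow 3 G} {R : Subgroup G} {k t : G} {q a b : ℕ}

/-- All maximal invariant subgroups. -/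
noncomputable def allMax (k : G) : Finset (Subgroup G) :=
  (Set.toFinite {M : Subgroup G | IsMax k M}).toFinset

theorem mem_allMax {M : Subgroup G} : M ∈ allMax k ↔ IsMax k M := by simp [allMax]

/-- The nonidentity elements of invariant `3'`-subgroups. -/
noncomputable def invNe (k : G) : Finset G :=
  (Set.toFinite {u : G | u ≠ 1 ∧ ∃ M : Subgroup G, Inv k M ∧ u ∈ M}).toFinset

theorem mem_invNe {u : G} : u ∈ invNe k ↔ u ≠ 1 ∧ ∃ M : Subgroup G, Inv k M ∧ u ∈ M := by
  simp [invNe]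

/-- The nonidentity elements of a subgroup. -/
noncomputable def sharp (M : Subgroup G) : Finset G :=
  (Set.toFinite {u : G | u ≠ 1 ∧ u ∈ M}).toFinset

theorem mem_sharp {M : Subgroup G} {u : G} : u ∈ sharp M ↔ u ≠ 1 ∧ u ∈ M := by simp [sharp]

theorem card_sharp (M : Subgroup G) : (sharp M).card + 1 = Nat.card M := by
  classical
  have h : insert (1 : G) (sharp M) = (Set.toFinite (M : Set G)).toFinset := by
    ext u
    rw [Finset.mem_insert, mem_sharp, Set.Finite.mem_toFinset, SetLike.mem_coe]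
    exact ⟨fun h => h.elim (fun e => e ▸ one_mem M) And.right,
      fun h => (eq_or_ne u 1).imp_right fun hu => ⟨hu, h⟩⟩
  rw [← Finset.card_insert_of_notMem (a := (1 : G)) (by simp [mem_sharp]), h,
    ← Set.ncard_eq_toFinset_card _ _, ← Nat.card_coe_set_eq]
  rfl

theorem invNe_eq [DecidableEq G] : invNe k = (allMax k).biUnion sharp := by
  ext u
  simp only [mem_invNe, Finset.mem_biUnion, mem_allMax, mem_sharp]
  constructor
  · rintro ⟨hu, M, hM, huM⟩
    obtain ⟨M', hM', hle⟩ := exists_isMax hM (fun e => hu (Subgroup.mem_bot.mp (e ▸ huM)))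
    exact ⟨M', hM', hu, hle huM⟩
  · rintro ⟨M, hM, hu, huM⟩
    exact ⟨hu, M, hM.1, huM⟩

namespace Ctx

theorem orb_isMax (C : Ctx P R k t q a b) {M N : Subgroup G} (hM : IsMax k M) (hN : N ∈ orb k M) :
    IsMax k N ∧ Nat.card N = Nat.card M := by
  obtain ⟨g, hg, rfl⟩ := mem_orb.mp hN
  exact ⟨C.isMax_cj hg hM, card_cj g M⟩

theorem self_mem_orb (C : Ctx P R k t q a b) (M : Subgroup G) : M ∈ orb k M :=
  mem_orb.mpr ⟨1, C.NK_of_mem (one_mem R), cj_one M⟩

theorem orb_eq (C : Ctx P R k t q a b) {M N : Subgroup G} (hN : N ∈ orb k M) :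
    orb k N = orb k M := by
  obtain ⟨g, hg, rfl⟩ := mem_orb.mp hN
  ext X
  rw [mem_orb, mem_orb]
  constructor
  · rintro ⟨h, hh, rfl⟩
    exact ⟨h * g, hh.mul hg, (cj_cj h g M).symm⟩
  · rintro ⟨h, hh, rfl⟩
    exact ⟨h * g⁻¹, hh.mul hg.inv, by rw [cj_cj, inv_mul_cancel_right]⟩

theorem sum_orb (C : Ctx P R k t q a b) {M : Subgroup G} (hM : IsMax k M) :
    ∑ N ∈ orb k M, (sharp N).card = (orb k M).card * (Nat.card M - 1) := by
  rw [Finset.sum_congr rfl (g := fun _ => Nat.card M - 1) fun N hN => ?_, Finset.sum_const,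
    smul_eq_mul]
  have := card_sharp N
  rw [(C.orb_isMax hM hN).2] at this
  omega

/-- The odd members. -/
theorem odd_members (C : Ctx P R k t q a b) [Fact q.Prime] :
    (allMax k).filter (fun M : Subgroup G => ¬ 2 ∣ Nat.card M) = ∅ ∨
      ∃ e, (e = 3 ∨ e = 6) ∧ q ^ b % 3 = 1 ∧ q ≤ 3 * 2 ^ a ∧
        ∑ M ∈ (allMax k).filter (fun M : Subgroup G => ¬ 2 ∣ Nat.card M), (sharp M).card = e * (q ^ b - 1) := by
  classical
  rcases ((allMax k).filter fun M : Subgroup G => ¬ 2 ∣ Nat.card M).eq_empty_or_nonempty with h | ⟨M, hM⟩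
  · exact Or.inl h
  right
  rw [Finset.mem_filter, mem_allMax] at hM
  obtain ⟨hd, hc⟩ := C.card_odd hM.1 hM.2
  have heq : (allMax k).filter (fun M : Subgroup G => ¬ 2 ∣ Nat.card M) = orb k M := by
    ext N
    rw [Finset.mem_filter, mem_allMax]
    constructor
    · rintro ⟨hN, hN2⟩
      exact C.related_q hM.1 hN hd (C.card_odd hN hN2).1
    · intro hN
      obtain ⟨h1, h2⟩ := C.orb_isMax hM.1 hN
      exact ⟨h1, h2 ▸ hM.2⟩
  have hidx := Subgroup.card_mul_index (Subgroup.normalizer (M : Set G))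
  have hq := C.q_lt_index hM.1 hd
  obtain ⟨h3, h6⟩ := C.card_orb hM.1
  rw [C.card] at hidx
  have hB : 0 < q ^ b := pow_pos C.hq.pos b
  have hiA : (Subgroup.normalizer (M : Set G)).index ≤ 3 * 2 ^ a := by
    rcases (C.normalizer_max hM.1).2 with e | e <;> rw [e, hc] at hidx <;> nlinarith
  rcases (C.normalizer_max hM.1).2 with e | e
  · exact ⟨6, Or.inr rfl, C.pow_mod_q hM.1 hd, by omega, by rw [heq, C.sum_orb hM.1, h3 e, hc]⟩
  · exact ⟨3, Or.inl rfl, C.pow_mod_q hM.1 hd, by omega, by rw [heq, C.sum_orb hM.1, h6 e, hc]⟩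

/-- Classes in which the even parts have order four. -/
theorem small_classes (C : Ctx P R k t q a b) [DecidableEq (Subgroup G)]
    (hall : ∀ M : Subgroup G, IsMax k M → 2 ∣ Nat.card M → 2 ^ (Nat.card M).factorization 2 = 4) :
    (((allMax k).filter fun M : Subgroup G => 2 ∣ Nat.card M).image (orb k)).card ≤ 3 := by
  classical
  haveI : Fact (Nat.Prime 2) := ⟨Nat.prime_two⟩
  set O := ((allMax k).filter fun M : Subgroup G => 2 ∣ Nat.card M).image (orb k)
  have hrep : ∀ o : Finset (Subgroup G), ∃ M : Subgroup G,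
      o ∈ O → IsMax k M ∧ 2 ∣ Nat.card M ∧ orb k M = o := fun o => by
    by_cases ho : o ∈ O
    · obtain ⟨M, hM, rfl⟩ := Finset.mem_image.mp ho
      rw [Finset.mem_filter, mem_allMax] at hM
      exact ⟨M, fun _ => ⟨hM.1, hM.2, rfl⟩⟩
    · exact ⟨⊥, fun h => absurd h ho⟩
  choose rep hrep using hrep
  obtain ⟨S⟩ := (inferInstance : Nonempty (Sylow 2 G))
  have hput : ∀ o, ∃ g : G, o ∈ O →
      Piece (S : Subgroup G) (cj g (part 2 (rep o))) (g * k * g⁻¹) := by
    intro o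
    by_cases ho : o ∈ O
    · obtain ⟨hM, h2, -⟩ := hrep o ho
      obtain ⟨S₀, hS₀⟩ := (isPGroup_part 2 (rep o)).exists_le_sylow
      obtain ⟨g, hg⟩ := MulAction.exists_smul_eq G S₀ S
      have hSc : cj g (S₀ : Subgroup G) = S := by rw [← hg]; rfl
      refine ⟨g, fun _ => ?_⟩
      have := (C.part_two_dvd hM S₀ hS₀ h2).conj g
      rwa [hSc] at this
    · exact ⟨1, fun h => absurd h ho⟩
  choose gg hgg using hput
  let D : Finset (Subgroup G) → Subgroup G := fun o => cj (gg o) (part 2 (rep o))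
  have hrel : ∀ o ∈ O, ∀ o' ∈ O, ∀ g : G, cj g (D o) = D o' → o = o' := by
    intro o ho o' ho' g he
    obtain ⟨hM, h2, h3⟩ := hrep o ho
    obtain ⟨hM', h2', h3'⟩ := hrep o' ho'
    rw [← h3, ← h3']
    refine (C.orb_eq (C.related hM hM' h2 h2' (g := (gg o')⁻¹ * g * gg o) ?_)).symm
    have := congrArg (cj (gg o')⁻¹) he
    simp only [D, cj_cj, inv_mul_cancel, cj_one] at this
    rw [mul_assoc]
    exact this.symm
  have hinj : ∀ o ∈ O, ∀ o' ∈ O, D o = D o' → o = o' := fun o ho o' ho' e =>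
    hrel o ho o' ho' 1 (by rw [cj_one, e])
  have h := card_small_le_three (P := (S : Subgroup G)) (O.image D) (fun V hV => by
      obtain ⟨o, ho, rfl⟩ := Finset.mem_image.mp hV
      refine ⟨⟨_, hgg o ho⟩, ?_⟩
      rw [card_cj, card_part]
      exact hall _ (hrep o ho).1 (hrep o ho).2.1) (fun V hV W hW p hp e => by
      obtain ⟨o, ho, rfl⟩ := Finset.mem_image.mp hV
      obtain ⟨o', ho', rfl⟩ := Finset.mem_image.mp hW
      rw [hrel o ho o' ho' p e])
  rw [Finset.card_image_of_injOn hinj] at h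
  exact h.1

/-- A large even part excludes all other even classes. -/
theorem big_unique (C : Ctx P R k t q a b) {M N : Subgroup G} (hM : IsMax k M) (hN : IsMax k N)
    (h2 : 2 ∣ Nat.card M) (h2' : 2 ∣ Nat.card N) (hbig : 4 < 2 ^ (Nat.card M).factorization 2) :
    N ∈ orb k M := by
  haveI : Fact (Nat.Prime 2) := ⟨Nat.prime_two⟩
  obtain ⟨S, hS⟩ := (isPGroup_part 2 M).exists_le_sylow
  obtain ⟨S', hS'⟩ := (isPGroup_part 2 N).exists_le_sylow
  obtain ⟨g, hg⟩ := MulAction.exists_smul_eq G S' S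
  have hSc : cj g (S' : Subgroup G) = S := by rw [← hg]; rfl
  have h1 := C.part_two_dvd hM S hS h2
  have h1' := (C.part_two_dvd hN S' hS' h2').conj g
  rw [hSc] at h1'
  have e := Piece.eq_of_big h1 h1' (by rw [card_part]; exact hbig)
  refine C.related hM hN h2 h2' (g := g⁻¹) ?_
  rw [e, cj_cj, inv_mul_cancel, cj_one]

/-- The even members, when one of them is large. -/
theorem even_big (C : Ctx P R k t q a b) [Fact q.Prime] {M₀ : Subgroup G} (hM₀ : IsMax k M₀)
    (h2 : 2 ∣ Nat.card M₀) (hbig : 4 < 2 ^ (Nat.card M₀).factorization 2) :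
    ∑ M ∈ (allMax k).filter (fun M : Subgroup G => 2 ∣ Nat.card M), (sharp M).card = bigVal a := by
  classical
  have heq : (allMax k).filter (fun M : Subgroup G => 2 ∣ Nat.card M) = orb k M₀ := by
    ext N
    rw [Finset.mem_filter, mem_allMax]
    constructor
    · rintro ⟨hN, hN2⟩
      exact C.big_unique hM₀ hN h2 hN2 hbig
    · intro hN
      obtain ⟨h1, h2'⟩ := C.orb_isMax hM₀ hN
      exact ⟨h1, h2' ▸ h2⟩
  rw [heq, C.sum_orb hM₀, bigVal]
  rcases C.big_part hM₀ h2 hbig with ⟨ha, hc, ho⟩ | ⟨ha, hc, ho⟩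
  · rw [hc, ho, if_pos ha]
  · rw [hc, ho, if_neg (by omega)]

/-- The count when all local subgroups are solvable. -/
theorem count_solv (C : Ctx P R k t q a b) (hs : ∀ E : Subgroup G, Inv k E → E ≠ ⊥ → Solv E) :
    CountSpec q a b (invNe k).card := by
  classical
  haveI : Fact q.Prime := ⟨C.hq⟩
  haveI : Fact (Nat.Prime 2) := ⟨Nat.prime_two⟩
  have hx : (invNe k).card = ∑ M ∈ allMax k, (sharp M).card := by
    rw [invNe_eq, Finset.card_biUnion]
    intro M hM N hN hne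
    show Disjoint (sharp M) (sharp N)
    rw [Finset.disjoint_left]
    intro u hu hu'
    rw [mem_sharp] at hu hu'
    have := C.meet_eq_bot hs (mem_allMax.mp hM) (mem_allMax.mp hN) hne
    exact hu.1 (Subgroup.mem_bot.mp (this ▸ (⟨hu.2, hu'.2⟩ : u ∈ M ⊓ N)))
  rw [hx, ← Finset.sum_filter_add_sum_filter_not (allMax k) (fun M : Subgroup G => 2 ∣ Nat.card M)]
  set E := (allMax k).filter (fun M : Subgroup G => 2 ∣ Nat.card M) with hE
  set Od := (allMax k).filter (fun M : Subgroup G => ¬ 2 ∣ Nat.card M) with hOd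
  have hβ : ∃ β, ∑ M ∈ Od, (sharp M).card = β ∧
      (β = 0 ∨ (q ^ b % 3 = 1 ∧ (β = 3 * (q ^ b - 1) ∨ β = 6 * (q ^ b - 1)) ∧ q ≤ 3 * 2 ^ a)) := by
    rcases C.odd_members with h | ⟨e, he, h1, h2, h3⟩
    · exact ⟨0, by rw [hOd, h, Finset.sum_empty], Or.inl rfl⟩
    · refine ⟨_, rfl, Or.inr ⟨h1, ?_, h2⟩⟩
      rw [hOd, h3]
      rcases he with rfl | rfl
      · exact Or.inl rfl
      · exact Or.inr rfl
  obtain ⟨β, hβe, hβ⟩ := hβ
  rw [hβe]
  by_cases hbig : ∃ M, IsMax k M ∧ 2 ∣ Nat.card M ∧ 4 < 2 ^ (Nat.card M).factorization 2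
  · obtain ⟨M₀, hM₀, h2, h4⟩ := hbig
    exact Or.inl ⟨_, β, rfl, Or.inr (Or.inr (Or.inr (Or.inr (C.even_big hM₀ h2 h4)))), hβ⟩
  push Not at hbig
  have hall : ∀ M : Subgroup G, IsMax k M → 2 ∣ Nat.card M →
      2 ^ (Nat.card M).factorization 2 = 4 := fun M hM h2 => by
    have h1 := C.card_mod (C.inv_part 2 hM.1)
    rw [card_part] at h1
    have h3 := hbig M hM h2
    have h4 := Nat.Prime.factorization_pos_of_dvd Nat.prime_two Nat.card_pos.ne' h2
    have : (Nat.card M).factorization 2 ≤ 2 := by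
      by_contra hc
      have : 2 ^ 3 ≤ 2 ^ (Nat.card M).factorization 2 := Nat.pow_le_pow_right (by norm_num) (by omega)
      omega
    interval_cases hh : (Nat.card M).factorization 2
    · norm_num at h1
    · norm_num
  set O := E.image (orb k) with hO
  have hO3 : O.card ≤ 3 := C.small_classes hall
  have hmem : ∀ o ∈ O, ∃ M, IsMax k M ∧ 2 ∣ Nat.card M ∧ orb k M = o := fun o ho => by
    obtain ⟨M, hM, rfl⟩ := Finset.mem_image.mp ho
    rw [hE, Finset.mem_filter, mem_allMax] at hM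
    exact ⟨M, hM.1, hM.2, rfl⟩
  have hsum : ∑ M ∈ E, (sharp M).card = ∑ o ∈ O, ∑ M ∈ o, (sharp M).card := by
    rw [← Finset.sum_fiberwise_of_maps_to
      (g := orb k) (fun M hM => Finset.mem_image_of_mem _ hM) (fun M : Subgroup G => (sharp M).card)]
    refine Finset.sum_congr rfl fun o ho => Finset.sum_congr ?_ fun _ _ => rfl
    obtain ⟨M, hM, hM2, rfl⟩ := hmem o ho
    ext N
    rw [Finset.mem_filter, hE, Finset.mem_filter, mem_allMax]
    constructor
    · rintro ⟨-, e⟩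
      exact e ▸ C.self_mem_orb N
    · intro hN
      obtain ⟨h1, h2⟩ := C.orb_isMax hM hN
      exact ⟨⟨h1, h2 ▸ hM2⟩, C.orb_eq hN⟩
  have hval : ∀ o ∈ O, (∀ M ∈ o, ¬ q ∣ Nat.card M) → ∑ M ∈ o, (sharp M).card = 9 := by
    intro o ho hno
    obtain ⟨M, hM, hM2, rfl⟩ := hmem o ho
    obtain ⟨h6, hc⟩ := C.small_part hM hM2 (hall M hM hM2)
    rw [card_part q M, Nat.factorization_eq_zero_of_not_dvd (hno M (C.self_mem_orb M)), pow_zero,
      mul_one] at hc
    rw [C.sum_orb hM, (C.card_orb hM).2 h6, hc]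
  by_cases hq : ∃ M, IsMax k M ∧ 2 ∣ Nat.card M ∧ q ∣ Nat.card M
  · obtain ⟨M₀, hM₀, hM₀2, hM₀q⟩ := hq
    have hOd0 : Od = ∅ := by
      rw [Finset.eq_empty_iff_forall_notMem]
      intro N hN
      rw [hOd, Finset.mem_filter, mem_allMax] at hN
      exact hN.2 ((C.orb_isMax hM₀ (C.related_q hM₀ hN.1 hM₀q (C.card_odd hN.1 hN.2).1)).2 ▸ hM₀2)
    rw [hOd0, Finset.sum_empty] at hβe
    subst hβe
    obtain ⟨h6, hc⟩ := C.small_part hM₀ hM₀2 (hall M₀ hM₀ hM₀2)
    rw [C.card_part_q hM₀ hM₀q] at hc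
    have hmem₀ : orb k M₀ ∈ O := Finset.mem_image_of_mem _ (by
      rw [hE, Finset.mem_filter, mem_allMax]; exact ⟨hM₀, hM₀2⟩)
    have hrest : ∀ o ∈ O.erase (orb k M₀), ∑ M ∈ o, (sharp M).card = 9 := fun o ho => by
      refine hval o (Finset.mem_of_mem_erase ho) fun M hM hMq => Finset.ne_of_mem_erase ho ?_
      obtain ⟨M₁, hM₁, -, rfl⟩ := hmem o (Finset.mem_of_mem_erase ho)
      obtain ⟨h1, -⟩ := C.orb_isMax hM₁ hM
      rw [← C.orb_eq hM, C.orb_eq (C.related_q hM₀ h1 hM₀q hMq)]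
    rw [hsum, ← Finset.add_sum_erase _ _ hmem₀, Finset.sum_congr rfl hrest, Finset.sum_const,
      smul_eq_mul, C.sum_orb hM₀, (C.card_orb hM₀).2 h6, hc]
    refine Or.inr ⟨C.pow_mod_q hM₀ hM₀q, ⟨(O.erase (orb k M₀)).card * 9, ?_, by ring⟩, ?_⟩
    · have := Finset.card_erase_of_mem hmem₀
      omega
    · have h := C.q_lt_index hM₀ hM₀q
      have hidx := Subgroup.card_mul_index (Subgroup.normalizer (M₀ : Set G))
      rw [h6, hc, C.card] at hidx
      have hA : 2 ^ a = 2 ^ (a - 3) * 8 := by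
        rw [show (8 : ℕ) = 2 ^ 3 from rfl, ← pow_add]; congr 1; have := C.ha; omega
      have hi : (Subgroup.normalizer (M₀ : Set G)).index = 3 * 2 ^ (a - 3) := by
        refine Nat.eq_of_mul_eq_mul_left (show 0 < 6 * (4 * q ^ b) from
          Nat.mul_pos (by norm_num) (Nat.mul_pos (by norm_num) (pow_pos C.hq.pos b))) ?_
        rw [hidx, hA]; ring
      omega
  · push Not at hq
    have hnine : ∀ o ∈ O, ∑ M ∈ o, (sharp M).card = 9 := fun o ho => by
      refine hval o ho fun M hM => ?_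
      obtain ⟨M₁, hM₁, h2, rfl⟩ := hmem o ho
      obtain ⟨h1, h1'⟩ := C.orb_isMax hM₁ hM
      exact hq M h1 (h1' ▸ h2)
    rw [hsum, Finset.sum_congr rfl hnine, Finset.sum_const, smul_eq_mul]
    refine Or.inl ⟨O.card * 9, β, rfl, ?_, hβ⟩
    omega

/-- The count when some even maximal subgroup is large. -/
theorem count_big (C : Ctx P R k t q a b) {M₀ : Subgroup G} (hM₀ : IsMax k M₀)
    (h2 : 2 ∣ Nat.card M₀) (hbig : 4 < 2 ^ (Nat.card M₀).factorization 2) :
    ∃ α e, (invNe k).card = α + e * (q ^ b - 1) ∧ α ≤ 6 * (2 ^ a - 1) ∧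
      (e = 0 ∨ ((e = 3 ∨ e = 6) ∧ q ^ b % 3 = 1)) := by
  classical
  haveI : Fact q.Prime := ⟨C.hq⟩
  set E := (allMax k).filter (fun M : Subgroup G => 2 ∣ Nat.card M) with hE
  set Od := (allMax k).filter (fun M : Subgroup G => ¬ 2 ∣ Nat.card M) with hOd
  have hU : invNe k = E.biUnion sharp ∪ Od.biUnion sharp := by
    rw [invNe_eq, ← Finset.union_biUnion, hE, hOd, Finset.filter_union_filter_not_eq]
  have hdisj : Disjoint (E.biUnion sharp) (Od.biUnion sharp) := by
    rw [Finset.disjoint_left]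
    intro u hu hu'
    simp only [hE, hOd, Finset.mem_biUnion, Finset.mem_filter, mem_allMax, mem_sharp] at hu hu'
    obtain ⟨M, ⟨hM, hM2⟩, hu1, huM⟩ := hu
    obtain ⟨N, ⟨hN, hN2⟩, -, huN⟩ := hu'
    have := C.meet_eq_bot_of_odd hN hM (fun e => hN2 (e ▸ hM2)) hN2
    exact hu1 (Subgroup.mem_bot.mp (this ▸ (⟨huN, huM⟩ : u ∈ N ⊓ M)))
  have hα : (E.biUnion sharp).card ≤ 6 * (2 ^ a - 1) := by
    refine Finset.card_biUnion_le.trans ?_
    rw [C.even_big hM₀ h2 hbig, bigVal]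
    have hA : 2 ^ (a - 1) ≤ 2 ^ a := Nat.pow_le_pow_right (by norm_num) (Nat.sub_le a 1)
    split_ifs <;> omega
  have hOc : (Od.biUnion sharp).card = ∑ M ∈ Od, (sharp M).card := by
    rw [Finset.card_biUnion]
    intro M hM N hN hne
    show Disjoint (sharp M) (sharp N)
    rw [Finset.disjoint_left]
    intro u hu hu'
    rw [mem_sharp] at hu hu'
    rw [Finset.mem_coe, hOd, Finset.mem_filter, mem_allMax] at hM hN
    have := C.meet_eq_bot_of_odd hM.1 hN.1 hne hM.2
    exact hu.1 (Subgroup.mem_bot.mp (this ▸ (⟨hu.2, hu'.2⟩ : u ∈ M ⊓ N)))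
  rcases C.odd_members with h | ⟨e, he, h1, -, h3⟩
  · refine ⟨(E.biUnion sharp).card, 0, ?_, hα, Or.inl rfl⟩
    rw [hU, Finset.card_union_of_disjoint hdisj, hOc, hOd, h, Finset.sum_empty, zero_mul]
  · refine ⟨(E.biUnion sharp).card, e, ?_, hα, Or.inr ⟨he, h1⟩⟩
    rw [hU, Finset.card_union_of_disjoint hdisj, hOc, hOd, h3]

/-- An insoluble local subgroup gives a large even maximal subgroup. -/
theorem exists_big (C : Ctx P R k t q a b) {D : Subgroup G} (hD : Inv k D) (hne : D ≠ ⊥)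
    (hns : ¬ Solv D) : ∃ M, IsMax k M ∧ 2 ∣ Nat.card M ∧ 4 < 2 ^ (Nat.card M).factorization 2 := by
  haveI : Fact (Nat.Prime 2) := ⟨Nat.prime_two⟩
  obtain ⟨hq5, h60, hsimp, hsq⟩ := C.five_of_not_solv hD hne hns
  set H := Subgroup.normalizer (D : Set G) with hH
  have hx : k ∈ H := hD.1
  have h9 : ¬ 9 ∣ Nat.card H := C.not_nine_dvd hD.2 hne le_rfl
  obtain ⟨N, hN, -, hlt⟩ := C.exists_bigger hx h9 h60 hsimp
  set E := coreIn H
  have hEne : E ≠ ⊥ := fun e => hne (le_bot_iff.mp (e ▸ C.le_coreIn_normalizer hD))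
  obtain ⟨M, hM, hle⟩ := exists_isMax hN (fun e => not_lt_bot (e ▸ hlt))
  have hEp : IsPGroup 2 E := fun e => ⟨1, Subtype.ext (by
    obtain ⟨e', he', hee⟩ := e.2
    rw [pow_one, SubgroupClass.coe_pow, pow_two, ← hee]
    exact congrArg Subtype.val (hsq e' he'))⟩
  obtain ⟨j, hj⟩ := IsPGroup.iff_card.mp hEp
  have hmodE := C.card_mod (inv_coreIn (H := H) hx)
  have hj2 : 2 ≤ j := by
    by_contra hc
    rw [hj] at hmodE
    interval_cases j
    · exact hEne (Subgroup.card_eq_one.mp hj)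
    · norm_num at hmodE
  have hEM : E ≤ M := hlt.le.trans hle
  have h2 : 2 ∣ Nat.card M := by
    refine Dvd.dvd.trans ?_ (Subgroup.card_dvd_of_le hEM)
    rw [hj]; exact dvd_pow_self 2 (by omega)
  haveI := C.isNilpotent hM.1
  have hEpart : E ≤ part 2 M := le_part 2 hEM hEp
  refine ⟨M, hM, h2, ?_⟩
  rw [← card_part]
  by_contra hle4
  push Not at hle4
  have hE4 : 4 ≤ Nat.card E := by
    rw [hj]; exact le_trans (by norm_num) (Nat.pow_le_pow_right (by norm_num : 0 < 2) hj2)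
  have heq : E = part 2 M := Subgroup.eq_of_le_of_card_ge hEpart (by omega)
  -- then `M` would equal the core
  have hHle : H ≤ Subgroup.normalizer (E : Set G) := by
    calc H = (⊤ : Subgroup H).map H.subtype := by
          rw [← MonoidHom.range_eq_map, Subgroup.range_subtype]
      _ ≤ (Subgroup.normalizer (core3 H : Set H)).map H.subtype := by
          rw [Subgroup.normalizer_eq_top]
      _ ≤ _ := Subgroup.le_normalizer_map _
  rw [heq, C.normalizer_part 2 hM h2] at hHle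
  have hd := Subgroup.card_dvd_of_le hHle
  have h5M : 5 ∣ Nat.card M := by
    have h60H : 60 ∣ Nat.card H := h60 ▸ Subgroup.index_dvd_card _
    have h5 : 5 ∣ Nat.card (Subgroup.normalizer (M : Set G)) :=
      ((Dvd.intro 12 rfl : 5 ∣ 60).trans h60H).trans hd
    rcases (C.normalizer_max hM).2 with e | e <;> rw [e] at h5
    · exact (Nat.Coprime.dvd_of_dvd_mul_left (by norm_num) h5)
    · exact (Nat.Coprime.dvd_of_dvd_mul_left (by norm_num) h5)
  haveI : Fact q.Prime := ⟨C.hq⟩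
  have hpar := C.card_eq_parts hM.1
  have h5q : q ∣ Nat.card M := hq5 ▸ h5M
  have hq2 := C.card_part_q hM h5q
  have hE4' : Nat.card E = 4 := le_antisymm (heq ▸ hle4) hE4
  obtain ⟨h6, hc⟩ := C.small_part hM h2 (by
    rw [← card_part, ← heq]; exact hE4')
  have hS4 : Nat.card (part 2 M) = 4 := heq ▸ hE4'
  -- the part of odd order would normalize and centralize
  have h60H : 60 ∣ Nat.card H := h60 ▸ Subgroup.index_dvd_card _
  have hH8 : 16 ∣ Nat.card H := by
    have h1 := card_coreIn_mul H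
    rw [h60] at h1
    change Nat.card E * 60 = Nat.card H at h1
    rw [← h1, hE4']
    norm_num
  have hd16 := hH8.trans hd
  rw [h6, hc, hq2, show 6 * (4 * q ^ b) = 8 * (3 * q ^ b) by ring, show 16 = 8 * 2 from rfl] at hd16
  rcases Nat.prime_two.dvd_mul.mp (Nat.dvd_of_mul_dvd_mul_left (by norm_num) hd16) with h | h
  · norm_num at h
  · exact C.not_two_dvd_pow_q b h

end Ctx

end CfsgLib.NineOneClass
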