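import Mathlib

/-!
Classes of nontrivial elements of a cyclic self-centralizing Sylow `3`-subgroup of order nine.
-/

set_option autoImplicit false
set_option linter.style.haveILetI false

namespace CfsgLib.NineOneClass

variable {G : Type*} [Group G] [Finite G] (P : Sylow 3 G)

theorem eq_or_eq_inv_of_isConj (hcard : Nat.card (P : Subgroup G) = 9) {z : G}
    (hz : Subgroup.zpowers z = (P : Subgroup G))
    (hcent : ∀ s ∈ (P : Subgroup G), s ≠ 1 → Subgroup.centralizer ({s} : Set G) = P)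
    {u v : G} (hu : u ∈ (P : Subgroup G)) (hv : v ∈ (P : Subgroup G)) (hu1 : u ≠ 1)
    (h : IsConj u v) : v = u ∨ v = u⁻¹ := by
  haveI : Fact (Nat.Prime 3) := ⟨Nat.prime_three⟩
  set R : Subgroup G := (P : Subgroup G) with hR
  obtain ⟨g, hg⟩ := isConj_iff.mp h
  have hv1 : v ≠ 1 := fun e => hu1 (conj_eq_one_iff.mp (hg.trans e))
  have hgN : g ∈ Subgroup.normalizer (R : Set G) := by
    rw [Subgroup.mem_normalizer_iff]
    intro x
    have e1 : x ∈ R ↔ x * u = u * x := by
      rw [← hcent u hu hu1, Subgroup.mem_centralizer_singleton_iff]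
    have e2 : g * x * g⁻¹ ∈ R ↔ g * x * g⁻¹ * v = v * (g * x * g⁻¹) := by
      exact ((SetLike.ext_iff.mp (hcent v hv hv1)) _).symm.trans Subgroup.mem_centralizer_singleton_iff
    rw [e1, e2, ← hg]
    simp only [conj_mul, mul_left_inj, mul_right_inj]
  set N := Subgroup.normalizer (R : Set G) with hN
  have hord : orderOf z = 9 := by rw [← Nat.card_zpowers, hz]; exact hcard
  have hzR : z ∈ R := hz ▸ Subgroup.mem_zpowers z
  obtain ⟨i, hi⟩ : ∃ i : ℕ, g * z * g⁻¹ = z ^ i := by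
    have h1 : g * z * g⁻¹ ∈ Subgroup.zpowers z := hz.symm ▸ (Subgroup.mem_normalizer_iff.mp hgN z).mp hzR
    obtain ⟨i, hi⟩ := (IsOfFinOrder.mem_powers_iff_mem_zpowers (isOfFinOrder_of_finite z)).mpr h1
    exact ⟨i, hi.symm⟩
  have hiter : ∀ j : ℕ, g ^ j * z * (g ^ j)⁻¹ = z ^ (i ^ j) := fun j => by
    induction j with
    | zero => simp
    | succ j ih =>
      rw [pow_succ' g, show g * g ^ j * z * (g * g ^ j)⁻¹ = g * (g ^ j * z * (g ^ j)⁻¹) * g⁻¹ by
        group, ih, ← conj_pow, hi, ← pow_mul, ← pow_succ']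
  -- the quotient of the normalizer has order prime to three
  set m := (R.subgroupOf N).index with hm
  haveI : (R.subgroupOf N).Normal := Subgroup.normal_in_normalizer
  have hgm : g ^ m ∈ R := by
    have h1 := Subgroup.pow_index_mem (R.subgroupOf N) (⟨g, hgN⟩ : N)
    rwa [Subgroup.mem_subgroupOf, SubgroupClass.coe_pow] at h1
  have hm3 : ¬ 3 ∣ m := fun hd => by
    have h1 : m ∣ R.index := Dvd.intro _ (Subgroup.relIndex_mul_index Subgroup.le_normalizer)
    exact P.not_dvd_index (hd.trans h1)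
  have h9 : (i : ZMod 9) ^ m = 1 := by
    have h1 : z ^ (i ^ m) = z ^ 1 := by
      rw [← hiter, pow_one]
      obtain ⟨w, hw⟩ := Subgroup.mem_zpowers_iff.mp (hz.symm ▸ hgm : g ^ m ∈ Subgroup.zpowers z)
      rw [← hw]; group
    rw [pow_eq_pow_iff_modEq, hord] at h1
    have := (ZMod.natCast_eq_natCast_iff' (i ^ m) 1 9).mpr h1
    simpa using this
  have key : ∀ x : ZMod 9, ∀ r : Fin 6, ¬ 3 ∣ (r : ℕ) → x ^ (r : ℕ) = 1 → x ^ 6 = 1 →
      x = 1 ∨ x = 8 := by decide
  have hunit : IsUnit (i : ZMod 9) :=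
    IsUnit.of_pow_eq_one h9 (by intro e; exact hm3 (e ▸ dvd_zero 3))
  have h6 : (i : ZMod 9) ^ 6 = 1 := by
    obtain ⟨w, hw⟩ := hunit
    have h := ZMod.pow_totient w
    rw [show Nat.totient 9 = 6 by rfl] at h
    rw [← hw, ← Units.val_pow_eq_pow_val, h, Units.val_one]
  have hr : (i : ZMod 9) ^ (m % 6) = 1 := by
    rw [← h9]
    conv_rhs => rw [← Nat.div_add_mod m 6, pow_add, pow_mul, h6, one_pow, one_mul]
  have hpow : ∀ w ∈ R, g * w * g⁻¹ = w ^ i := by
    intro w hw
    obtain ⟨j, rfl⟩ := (IsOfFinOrder.mem_powers_iff_mem_zpowers (isOfFinOrder_of_finite z)).mpr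
      (hz.symm ▸ hw : w ∈ Subgroup.zpowers z)
    rw [← conj_pow, hi, ← pow_mul, mul_comm, pow_mul]
  have hu9 : u ^ 9 = 1 := by
    have := pow_card_eq_one' (G := R) (x := ⟨u, hu⟩)
    rw [hcard] at this
    exact congrArg Subtype.val this
  have hv' : v = u ^ (i % 9) := by
    rw [← hg, hpow u hu, pow_eq_pow_mod i hu9]
  rcases key i ⟨m % 6, Nat.mod_lt _ (by norm_num)⟩
    (fun hd => hm3 ((Nat.dvd_mod_iff (by norm_num)).mp hd)) hr h6 with e | e
  · left
    have h1 : i % 9 = 1 := by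
      have := congrArg ZMod.val e
      rwa [ZMod.val_natCast] at this
    rw [hv', h1, pow_one]
  · right
    have h1 : i % 9 = 8 := by
      have := congrArg ZMod.val e
      rwa [ZMod.val_natCast] at this
    rw [hv', h1]
    exact eq_inv_of_mul_eq_one_left (by rw [← pow_succ]; exact hu9)

/-- At least three classes of nontrivial elements of order dividing nine. -/
theorem three_classes (hcard : Nat.card (P : Subgroup G) = 9) {z : G}
    (hz : Subgroup.zpowers z = (P : Subgroup G))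
    (hcent : ∀ s ∈ (P : Subgroup G), s ≠ 1 → Subgroup.centralizer ({s} : Set G) = P) :
    3 ≤ Nat.card {C : ConjClasses G // ∃ g ∈ C.carrier, g ≠ 1 ∧ orderOf g ∣ 9} := by
  have hord : orderOf z = 9 := by rw [← Nat.card_zpowers, hz]; exact hcard
  have hmem : ∀ j : ℕ, z ^ j ∈ (P : Subgroup G) := fun j =>
    pow_mem (hz ▸ Subgroup.mem_zpowers z) j
  have hz9 : z ^ 9 = 1 := hord ▸ pow_orderOf_eq_one z
  let f : Fin 3 → {C : ConjClasses G // ∃ g ∈ C.carrier, g ≠ 1 ∧ orderOf g ∣ 9} := fun j =>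
    ⟨ConjClasses.mk (z ^ ((j : ℕ) + 1)), z ^ ((j : ℕ) + 1), ConjClasses.mem_carrier_mk, fun e => by
      have := Nat.le_of_dvd (by omega) (hord ▸ orderOf_dvd_of_pow_eq_one e)
      omega, orderOf_dvd_of_pow_eq_one (by rw [← pow_mul, mul_comm, pow_mul, hz9, one_pow])⟩
  have hf : Function.Injective f := by
    intro j j' e
    have hc : IsConj (z ^ ((j : ℕ) + 1)) (z ^ ((j' : ℕ) + 1)) :=
      ConjClasses.mk_eq_mk_iff_isConj.mp (congrArg Subtype.val e)
    have hne : z ^ ((j : ℕ) + 1) ≠ 1 := fun e' => by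
      have := Nat.le_of_dvd (by omega) (hord ▸ orderOf_dvd_of_pow_eq_one e')
      omega
    rcases eq_or_eq_inv_of_isConj P hcard hz hcent (hmem _) (hmem _) hne hc with h | h
    · rw [pow_eq_pow_iff_modEq, hord, Nat.ModEq] at h
      exact Fin.ext (by omega)
    · rw [eq_inv_iff_mul_eq_one, ← pow_add] at h
      have := Nat.le_of_dvd (by omega) (hord ▸ orderOf_dvd_of_pow_eq_one h)
      omega
  simpa using Nat.card_le_card_of_injective f hf

end CfsgLib.NineOneClass
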