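import Cfsg.Agent.Lib.NineOneClass.Basic

/-!
Elements of order three in a group where no nontrivial `3'`-element commutes with such an element.
-/

set_option autoImplicit false
set_option linter.unusedVariables false

namespace CfsgLib.NineOneClass

open CfsgLib.SelfCent CfsgLib.SCThree

universe u

variable {G : Type u} [Group G] [Finite G] {y : G}

/-- `y` has order three, and no `3'`-element commutes with an element of order three. -/
structure Free (y : G) : Prop where
  ord : orderOf y = 3
  free : ∀ z m : G, orderOf z = 3 → ¬ 3 ∣ orderOf m → m * z = z * m → m = 1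

namespace Free

theorem of_orderOf (h : Free y) {z : G} (hz : orderOf z = 3) : Free z := ⟨hz, h.free⟩

theorem ne_one (h : Free y) : y ≠ 1 := fun e => by
  have := h.ord
  rw [e, orderOf_one] at this
  norm_num at this

theorem pow_three (h : Free y) : y * y * y = 1 := by
  have := pow_orderOf_eq_one y
  rwa [h.ord, pow_succ, pow_two] at this

theorem three_steps (h : Free y) (m : G) : y * (y * (y * m * y⁻¹) * y⁻¹) * y⁻¹ = m := by
  calc y * (y * (y * m * y⁻¹) * y⁻¹) * y⁻¹ = (y * y * y) * m * (y * y * y)⁻¹ := by group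
    _ = m := by rw [h.pow_three]; group

theorem eq_one (h : Free y) {M : Subgroup G} (hM : Inv y M) {m : G} (hm : m ∈ M)
    (hc : m * y = y * m) : m = 1 :=
  h.free y m h.ord (hM.not_dvd_orderOf hm) hc

theorem not_three_dvd (h : Free y) {c z : G} (hc : c ≠ 1) (hc3 : ¬ 3 ∣ orderOf c)
    (hzc : z * c = c * z) : ¬ 3 ∣ orderOf z := by
  intro hd
  obtain ⟨k, hk⟩ := hd
  have hk0 : k ≠ 0 := by
    rintro rfl; exact orderOf_pos z |>.ne' hk
  have hw : orderOf (z ^ k) = 3 := by
    rw [orderOf_pow' z hk0, hk, Nat.gcd_mul_left_left,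
      Nat.mul_div_cancel _ (Nat.pos_of_ne_zero hk0)]
  exact hc (h.free (z ^ k) c hw hc3 ((show Commute c z from hzc.symm).pow_right k).eq)

theorem identity (h : Free y) {M : Subgroup G} (hM : Inv y M) {m : G} (hm : m ∈ M) :
    m * (y * m * y⁻¹) * (y * (y * m * y⁻¹) * y⁻¹) = 1 := by
  have hfpf : ∀ g : M, invAut hM g = g → g = 1 := fun g hg => Subtype.ext (h.eq_one hM g.2 (by
    have : y * (g : G) * y⁻¹ = g := congrArg Subtype.val hg
    exact (mul_inv_eq_iff_eq_mul.mp this).symm))
  have h3 : ∀ g : M, invAut hM (invAut hM (invAut hM g)) = g := fun g =>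
    Subtype.ext (h.three_steps (g : G))
  exact congrArg Subtype.val
    (CfsgLib.SymThree.mul_map_mul_map_eq_one (invAut hM) h3 hfpf ⟨m, hm⟩)

theorem card_mod (h : Free y) {M : Subgroup G} (hM : Inv y M) : Nat.card M % 3 = 1 := by
  haveI : Fact (Nat.Prime 3) := ⟨Nat.prime_three⟩
  let φ : Function.End M := fun m => invAut hM m
  have h1 : φ ^ 3 ^ 1 = 1 := funext fun m => Subtype.ext (h.three_steps (m : G))
  letI := Fintype.ofFinite M
  classical
  have := Equiv.Perm.card_fixedPoints_modEq h1
  have hfix : Function.fixedPoints φ = {1} := by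
    ext m
    constructor
    · intro hm
      have : y * (m : G) * y⁻¹ = m := congrArg Subtype.val hm
      exact Subtype.ext (h.eq_one hM m.2 (mul_inv_eq_iff_eq_mul.mp this).symm)
    · rintro rfl
      exact map_one (invAut hM)
  rw [← Nat.card_eq_fintype_card, ← Nat.card_eq_fintype_card, hfix, Nat.card_coe_set_eq,
    Set.ncard_singleton] at this
  exact this

end Free

namespace Ctx

variable {P : Sylow 3 G} {R : Subgroup G} {k t : G} {q a b : ℕ}

theorem free (C : Ctx P R k t q a b) : Free k :=
  ⟨C.orderOf_eq C.kmem C.k1, fun z m hz hm hc => C.eq_one_of_comm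
    (by rw [← hz]; exact pow_orderOf_eq_one z)
    (fun e => by rw [e, orderOf_one] at hz; norm_num at hz) hm hc⟩

end Ctx

end CfsgLib.NineOneClass
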