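import Cfsg.Agent.Lib.NineOneClass.Free

/-!
Subgroups of index two with a fixed-point-free automorphism of order three.
-/

set_option autoImplicit false
set_option linter.unusedVariables false

namespace CfsgLib.NineOneClass

open CfsgLib.SelfCent CfsgLib.SCThree

universe u

variable {G : Type u} [Group G] [Finite G]

/-- `y` acts fixed-point-freely on `D` and any `τ ∈ T ∖ D` fixes no pair of `y`-conjugates. -/
structure Half (T D : Subgroup G) (y : G) : Prop where
  le : D ≤ T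
  two : Nat.card T = 2 * Nat.card D
  two_group : IsPGroup 2 T
  sc : Free y
  inv : Inv y D
  three_dvd : ∀ τ ∈ T, τ ∉ D → 3 ∣ orderOf (τ⁻¹ * (y * τ * y⁻¹))

theorem Half.conj {T D : Subgroup G} {y : G} (h : Half T D y) (g : G) :
    Half (T.map (MulAut.conj g).toMonoidHom) (D.map (MulAut.conj g).toMonoidHom) (g * y * g⁻¹) := by
  have hc : ∀ H : Subgroup G, Nat.card (H.map (MulAut.conj g).toMonoidHom) = Nat.card H := fun H =>
    (Nat.card_congr (Subgroup.equivMapOfInjective _ _ (MulAut.conj g).injective).toEquiv).symm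
  refine ⟨Subgroup.map_mono h.le, by rw [hc, hc, h.two], h.two_group.map _, ?_, ?_, ?_⟩
  · exact h.sc.of_orderOf (by rw [← h.sc.ord, ← MulAut.conj_apply, MulEquiv.orderOf_eq])
  · refine ⟨?_, by rw [hc]; exact h.inv.2⟩
    exact Subgroup.le_normalizer_map _ ⟨y, h.inv.1, rfl⟩
  · rintro _ ⟨τ, hτ, rfl⟩ hn
    have e : ((MulAut.conj g).toMonoidHom τ)⁻¹ *
        (g * y * g⁻¹ * (MulAut.conj g).toMonoidHom τ * (g * y * g⁻¹)⁻¹) =
        MulAut.conj g (τ⁻¹ * (y * τ * y⁻¹)) := by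
      simp [mul_assoc]
    rw [e, MulEquiv.orderOf_eq]
    exact h.three_dvd τ hτ (fun hd => hn ⟨τ, hd, rfl⟩)

/-- `τ` centralizes no pair of conjugate nontrivial elements. -/
theorem Half.split {T D : Subgroup G} {y : G} (h : Half T D y) (τ : G) (hτ : τ ∈ T) (hn : τ ∉ D)
    (c : G) (hc : c ∈ D) (h1 : τ * c = c * τ) (h2 : τ * (y⁻¹ * c * y) = y⁻¹ * c * y * τ) : c = 1 := by
  by_contra hne
  have h1' : Commute (y * τ * y⁻¹) c := by
    show y * τ * y⁻¹ * c = c * (y * τ * y⁻¹)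
    calc y * τ * y⁻¹ * c = y * (τ * (y⁻¹ * c * y)) * y⁻¹ := by group
      _ = y * (y⁻¹ * c * y * τ) * y⁻¹ := by rw [h2]
      _ = _ := by group
  exact Free.not_three_dvd h.sc hne (h.inv.not_dvd_orderOf hc)
    ((show Commute τ c from h1).inv_left.mul_left h1').eq (h.three_dvd τ hτ hn)

theorem Half.card_fixed_sq_le {T D : Subgroup G} {y : G} (h : Half T D y) {τ : G} (hτ : τ ∈ T)
    (hn : τ ∉ D) : Nat.card (fixedIn D τ) * Nat.card (fixedIn D τ) ≤ Nat.card D := by
  rw [← Nat.card_prod]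
  refine Nat.card_le_card_of_injective
    (fun p => (⟨(p.1 : G) * (y * p.2 * y⁻¹), mul_mem (mem_fixedIn.mp p.1.2).1
      (h.inv.conj_mem (mem_fixedIn.mp p.2.2).1)⟩ : D)) ?_
  rintro ⟨a, b⟩ ⟨a', b'⟩ e
  have e1 : (a : G) * (y * b * y⁻¹) = a' * (y * b' * y⁻¹) := congrArg Subtype.val e
  have e2 : ((a' : G)⁻¹ * a) = y * ((b' : G) * (b : G)⁻¹) * y⁻¹ := by
    calc (a' : G)⁻¹ * a = (a' : G)⁻¹ * ((a : G) * (y * b * y⁻¹)) * (y * b * y⁻¹)⁻¹ := by group
      _ = _ := by rw [e1]; group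
  have hmem : (a' : G)⁻¹ * a ∈ fixedIn D τ := mul_mem (inv_mem a'.2) a.2
  have hmem' : (b' : G) * (b : G)⁻¹ ∈ fixedIn D τ := mul_mem b'.2 (inv_mem b.2)
  have h1 := mem_fixedIn.mp hmem
  have h2 := mem_fixedIn.mp hmem'
  have key := h.split τ hτ hn _ h1.1 h1.2.symm (by
    rw [e2, show y⁻¹ * (y * ((b' : G) * (b : G)⁻¹) * y⁻¹) * y = (b' : G) * (b : G)⁻¹ by group]
    exact h2.2.symm)
  have ha : (a : G) = a' := (inv_mul_eq_one.mp key).symm
  have hb : (b : G) = b' := by
    rw [ha] at e1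
    exact mul_left_cancel (mul_right_cancel (mul_left_cancel e1))
  exact Prod.ext (Subtype.ext ha) (Subtype.ext hb)

theorem Half.eq_aux {T D D' : Subgroup G} {y : G} (h : Half T D y) (hle' : D' ≤ T)
    (hcard : Nat.card D' = Nat.card D) (hne : D ≠ D') (hZ : zIn D' ≤ D) (hn : ¬ zIn D' ≤ zIn D) :
    False := by
  haveI : Fact (Nat.Prime 2) := ⟨Nat.prime_two⟩
  set E := D ⊓ D' with hE
  have hidx' : D'.relIndex T = 2 := by
    have := Subgroup.card_mul_index (D'.subgroupOf T)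
    rw [Nat.card_congr (Subgroup.subgroupOfEquivOfLe hle').toEquiv, h.two, hcard] at this
    have hp : 0 < Nat.card D := Nat.card_pos
    show (D'.subgroupOf T).index = 2
    nlinarith
  haveI hD'n : (D'.subgroupOf T).Normal := Subgroup.normal_of_index_eq_two hidx'
  -- `E` has index two in `D`
  have hDE : ∀ a ∈ D, ∀ b ∈ D, a ∉ D' → b ∉ D' → a * b ∈ E := by
    intro a ha b hb ha' hb'
    refine Subgroup.mem_inf.mpr ⟨mul_mem ha hb, ?_⟩
    have : (⟨a, h.le ha⟩ * ⟨b, h.le hb⟩ : T) ∈ D'.subgroupOf T := by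
      rw [Subgroup.mul_mem_iff_of_index_two hidx']
      exact iff_of_false ha' hb'
    exact this
  obtain ⟨b₀, hb₀, hb₀'⟩ : ∃ b ∈ D, b ∉ D' := by
    by_contra hc; push Not at hc
    exact hne (Subgroup.eq_of_le_of_card_ge hc hcard.le)
  -- `zIn D'` is normalized by `D`
  have hZn : ∀ d ∈ D, ∀ z ∈ zIn D', d * z * d⁻¹ ∈ zIn D' := by
    intro d hd z hz
    have hconj : ∀ o ∈ D', d * o * d⁻¹ ∈ D' ∧ d⁻¹ * o * d ∈ D' := fun o ho => by
      refine ⟨hD'n.conj_mem ⟨o, hle' ho⟩ ho ⟨d, h.le hd⟩, ?_⟩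
      have := hD'n.conj_mem ⟨o, hle' ho⟩ ho (⟨d, h.le hd⟩ : T)⁻¹
      simpa [Subgroup.mem_subgroupOf] using this
    refine Subgroup.mem_inf.mpr ⟨(hconj z hz.1).1, Subgroup.mem_centralizer_iff.mpr fun o ho => ?_⟩
    have h1 := Subgroup.mem_centralizer_iff.mp hz.2 (d⁻¹ * o * d) (hconj o ho).2
    calc o * (d * z * d⁻¹) = d * (d⁻¹ * o * d * z) * d⁻¹ := by group
      _ = d * (z * (d⁻¹ * o * d)) * d⁻¹ := by rw [h1]
      _ = _ := by group
  -- an element of `zIn D'` outside `zIn D`, central modulo `zIn D`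
  obtain ⟨e, heD, heE, hec, hez⟩ : ∃ e ∈ D, (∀ a ∈ E, e * a = a * e) ∧
      (∀ d ∈ D, d * e * d⁻¹ * e⁻¹ ∈ zIn D) ∧ e ∉ zIn D := by
    set Z := Subgroup.center D
    let K : Subgroup D := (zIn D').subgroupOf D
    haveI : K.Normal := ⟨fun k hk d => hZn d d.2 k hk⟩
    haveI : Group.IsNilpotent D := (h.two_group.to_le h.le).isNilpotent
    haveI : (K.map (QuotientGroup.mk' Z)).Normal :=
      Subgroup.Normal.map inferInstance _ (QuotientGroup.mk'_surjective Z)
    have hKne : K.map (QuotientGroup.mk' Z) ≠ ⊥ := by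
      intro e
      apply hn
      intro z hz
      have : (⟨z, hZ hz⟩ : D) ∈ Z := by
        refine (QuotientGroup.eq_one_iff _).mp (Subgroup.mem_bot.mp (e ▸ Subgroup.mem_map_of_mem _
          (show (⟨z, hZ hz⟩ : D) ∈ K from hz)))
      exact Subgroup.mem_inf.mpr ⟨hZ hz, Subgroup.mem_centralizer_iff.mpr fun o ho =>
        congrArg Subtype.val (Subgroup.mem_center_iff.mp this ⟨o, ho⟩)⟩
    haveI : Nontrivial (K.map (QuotientGroup.mk' Z)) := (Subgroup.nontrivial_iff_ne_bot _).mpr hKne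
    obtain ⟨q, hq, hqc, hq1⟩ : ∃ q ∈ K.map (QuotientGroup.mk' Z),
        q ∈ Subgroup.center (D ⧸ Z) ∧ q ≠ 1 := by
      have hp : IsPGroup 2 (D ⧸ Z) := (h.two_group.to_le h.le).to_quotient Z
      have hne2 := normal_inf_center hp (K.map (QuotientGroup.mk' Z)) hKne
      by_contra hc; push Not at hc
      exact hne2 ((Subgroup.eq_bot_iff_forall _).mpr fun q hq => hc q hq.1 hq.2)
    obtain ⟨⟨e, he⟩, heK, rfl⟩ := hq
    refine ⟨e, he, ?_, ?_, ?_⟩
    · intro a ha
      exact (Subgroup.mem_centralizer_iff.mp (show e ∈ zIn D' from heK).2 a ha.2).symm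
    · intro d hd
      have h1 := Subgroup.mem_center_iff.mp hqc (QuotientGroup.mk' Z ⟨d, hd⟩)
      have h2 : (⟨d, hd⟩ * ⟨e, he⟩ * ⟨d, hd⟩⁻¹ * ⟨e, he⟩⁻¹ : D) ∈ Z := by
        refine (QuotientGroup.eq_one_iff _).mp ?_
        show QuotientGroup.mk' Z _ = 1
        rw [map_mul, map_mul, map_mul, h1, map_inv, map_inv]; group
      refine Subgroup.mem_inf.mpr ⟨mul_mem (mul_mem (mul_mem hd he) (inv_mem hd)) (inv_mem he),
        Subgroup.mem_centralizer_iff.mpr fun o ho => ?_⟩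
      exact congrArg Subtype.val (Subgroup.mem_center_iff.mp h2 ⟨o, ho⟩)
    · intro hz
      exact hq1 ((QuotientGroup.eq_one_iff _).mpr (Subgroup.mem_center_iff.mpr fun o =>
        Subtype.ext (Subgroup.mem_centralizer_iff.mp hz.2 o o.2)))
  let c : G → G → G := fun a b => a * b * a⁻¹ * b⁻¹
  have hcm : ∀ d ∈ D, ∀ d' ∈ D, c (d * d') e = c d e * c d' e := by
    intro d hd d' hd'
    have h1 := Subgroup.mem_centralizer_iff.mp (hec d' hd').2 d hd
    have h2 := Subgroup.mem_centralizer_iff.mp (hec d hd).2 (c d' e) (hec d' hd').1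
    calc c (d * d') e = d * c d' e * d⁻¹ * c d e := by simp only [c]; group
      _ = c d' e * c d e := by rw [show d * c d' e = c d' e * d from h1]; group
      _ = c d e * c d' e := h2
  set w := c b₀ e with hw
  have hval : ∀ d ∈ D, (d ∈ D' → c d e = 1) ∧ (d ∉ D' → c d e = w⁻¹) := by
    intro d hd
    have h1 : ∀ a ∈ E, c a e = 1 := fun a ha => by
      show a * e * a⁻¹ * e⁻¹ = 1
      rw [← heE a ha]; group
    refine ⟨fun hd' => h1 d (Subgroup.mem_inf.mpr ⟨hd, hd'⟩), fun hd' => ?_⟩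
    have h2 := h1 _ (hDE d hd b₀ hb₀ hd' hb₀')
    rw [hcm d hd b₀ hb₀] at h2
    exact eq_inv_of_mul_eq_one_left h2
  have hww : w⁻¹ = w := ((hval b₀ hb₀).2 hb₀').symm
  have hw1 : w ≠ 1 := by
    intro e0
    apply hez
    refine Subgroup.mem_inf.mpr ⟨heD, Subgroup.mem_centralizer_iff.mpr fun o ho => ?_⟩
    by_cases ho' : o ∈ D'
    · have := (hval o ho).1 ho'
      exact mul_inv_eq_iff_eq_mul.mp (mul_inv_eq_one.mp this)
    · have := (hval o ho).2 ho'
      rw [e0, inv_one] at this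
      exact mul_inv_eq_iff_eq_mul.mp (mul_inv_eq_one.mp this)
  -- an element of `E` moved out of `E` by the automorphism
  obtain ⟨b, hb, hbD', hbn⟩ : ∃ b ∈ D, b ∈ D' ∧ y⁻¹ * b * y ∉ D' := by
    by_contra hc; push Not at hc
    have hinv : Inv y E := by
      refine ⟨?_, fun hd => h.inv.2 (hd.trans (Subgroup.card_dvd_of_le inf_le_left))⟩
      have : y⁻¹ ∈ Subgroup.normalizer (E : Set G) := by
        rw [Subgroup.mem_normalizer_iff_map_conj_eq]
        refine Subgroup.eq_of_le_of_card_ge ?_ (le_of_eq (Nat.card_congr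
          (Subgroup.equivMapOfInjective _ _ (MulAut.conj y⁻¹).injective).toEquiv))
        rintro _ ⟨a, ha, rfl⟩
        show y⁻¹ * a * y⁻¹⁻¹ ∈ E
        rw [inv_inv]
        refine Subgroup.mem_inf.mpr ⟨?_, hc a ha.1 ha.2⟩
        simpa using (Subgroup.mem_normalizer_iff.mp (inv_mem h.inv.1) a).mp ha.1
      simpa using inv_mem this
    have hcE : Nat.card D = 2 * Nat.card E := by
      have := Subgroup.card_mul_index (D'.subgroupOf D)
      rw [show (D'.subgroupOf D).index = 2 from ?_] at this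
      · have e2 : D'.subgroupOf D = E.subgroupOf D := by
          ext a; simp [E, Subgroup.mem_subgroupOf]
        rw [e2, Nat.card_congr (Subgroup.subgroupOfEquivOfLe (inf_le_left : E ≤ D)).toEquiv] at this
        linarith
      · rw [Subgroup.index_eq_two_iff]
        refine ⟨⟨b₀⁻¹, inv_mem hb₀⟩, fun a => ?_⟩
        by_cases ha : (a : G) ∈ D'
        · refine Or.inr ⟨ha, fun hm => hb₀' ?_⟩
          have : (a : G) * b₀⁻¹ ∈ D' := hm
          simpa using inv_mem ((Subgroup.mul_mem_cancel_left D' ha).mp this)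
        · refine Or.inl ⟨?_, ha⟩
          show (a : G) * b₀⁻¹ ∈ D'
          exact (hDE a a.2 b₀⁻¹ (inv_mem hb₀) ha (fun hm => hb₀' (by simpa using inv_mem hm))).2
    exact mod_three_ne hcE (h.sc.card_mod h.inv) (h.sc.card_mod hinv)
  set e' := y * e * y⁻¹ with he'
  set e'' := y * e' * y⁻¹ with he''
  have hid := h.sc.identity h.inv heD
  rw [← he', ← he''] at hid
  have hcb : c b e = 1 := (hval b hb).1 hbD'
  have hb1 : y⁻¹ * b * y ∈ D := by
    simpa using (Subgroup.mem_normalizer_iff.mp (inv_mem h.inv.1) b).mp hb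
  have hcb' : c b e' = y * w * y⁻¹ := by
    calc c b e' = y * c (y⁻¹ * b * y) e * y⁻¹ := by simp only [c, e']; group
      _ = _ := by rw [(hval _ hb1).2 hbn, hww]
  have hcb'' : c b e'' = 1 ∨ c b e'' = y * (y * w * y⁻¹) * y⁻¹ := by
    have e1 : c b e'' = y * (y * c (y⁻¹ * (y⁻¹ * b * y) * y) e * y⁻¹) * y⁻¹ := by
      simp only [c, e'', e']; group
    have hb2 : y⁻¹ * (y⁻¹ * b * y) * y ∈ D := by
      simpa using (Subgroup.mem_normalizer_iff.mp (inv_mem h.inv.1) _).mp hb1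
    by_cases hh : y⁻¹ * (y⁻¹ * b * y) * y ∈ D'
    · left; rw [e1, (hval _ hb2).1 hh]; group
    · right; rw [e1, (hval _ hb2).2 hh, hww]
  -- `e''` is determined by `e` and `e'`
  have hce'' : c b e'' = c b e' := by
    have hee : e'' = (e * e')⁻¹ := eq_inv_of_mul_eq_one_right hid
    have hw' : y * w * y⁻¹ ∈ Subgroup.centralizer (D : Set G) := by
      have hwz := hec b₀ hb₀
      refine Subgroup.mem_centralizer_iff.mpr fun o ho => ?_
      have ho' : y⁻¹ * o * y ∈ D := by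
        simpa using (Subgroup.mem_normalizer_iff.mp (inv_mem h.inv.1) o).mp ho
      have h1 : (y⁻¹ * o * y) * w = w * (y⁻¹ * o * y) :=
        Subgroup.mem_centralizer_iff.mp hwz.2 _ ho'
      calc o * (y * w * y⁻¹) = y * ((y⁻¹ * o * y) * w) * y⁻¹ := by group
        _ = y * (w * (y⁻¹ * o * y)) * y⁻¹ := by rw [h1]
        _ = _ := by group
    have he'D : e' ∈ D := h.inv.conj_mem heD
    have h5 : c b (e * e') = y * w * y⁻¹ := by
      calc c b (e * e') = c b e * (e * c b e' * e⁻¹) := by simp only [c]; group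
        _ = e * (y * w * y⁻¹) * e⁻¹ := by rw [hcb, hcb', one_mul]
        _ = _ := by rw [Subgroup.mem_centralizer_iff.mp hw' e heD]; group
    calc c b e'' = (e * e')⁻¹ * (c b (e * e'))⁻¹ * (e * e') := by rw [hee]; simp only [c]; group
      _ = (e * e')⁻¹ * (y * w * y⁻¹) * (e * e') := by
          rw [h5, show (y * w * y⁻¹)⁻¹ = y * w⁻¹ * y⁻¹ by group, hww]
      _ = y * w * y⁻¹ := by
          rw [mul_assoc, ← Subgroup.mem_centralizer_iff.mp hw' _ (mul_mem heD he'D)]; group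
      _ = _ := hcb'.symm
  rw [hcb'] at hce''
  rcases hcb'' with hh | hh
  · rw [hce''] at hh
    exact hw1 (conj_eq_one_iff.mp hh)
  · rw [hce''] at hh
    have hfix : w * y = y * w := by
      have h6 : w = y * w * y⁻¹ := by
        calc w = y⁻¹ * (y * w * y⁻¹) * y := by group
          _ = y⁻¹ * (y * (y * w * y⁻¹) * y⁻¹) * y := by rw [← hh]
          _ = _ := by group
      exact (mul_inv_eq_iff_eq_mul.mp h6.symm).symm
    have hwD : w ∈ D := (hec b₀ hb₀).1
    exact hw1 (h.sc.eq_one h.inv hwD hfix)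

/-- Two different halves have order at most four. -/
theorem Half.card_le_four {T D D' : Subgroup G} {y y' : G} (h : Half T D y) (h' : Half T D' y')
    (hne : D ≠ D') : Nat.card D ≤ 4 := by
  have hcard : Nat.card D' = Nat.card D := by
    have h1 := h.two
    have h2 := h'.two
    omega
  have small : ∀ {A B : Subgroup G} {z : G}, Half T A z → B ≤ T → Nat.card B = Nat.card A → A ≠ B →
      ∀ τ ∈ zIn B, τ ∉ A → Nat.card A ≤ 4 := by
    intro A B z hA hBT hc hAB τ hτ hτA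
    have hEle : A ⊓ B ≤ fixedIn A τ := fun a ha => mem_fixedIn.mpr
      ⟨ha.1, Subgroup.mem_centralizer_iff.mp hτ.2 a ha.2⟩
    have hsq := hA.card_fixed_sq_le (hBT hτ.1) hτA
    have hE : Nat.card A ≤ 2 * Nat.card (A ⊓ B : Subgroup G) := by
      have h1 : B.relIndex A ≤ 2 := by
        have hT : B.relIndex T = 2 := by
          have := Subgroup.card_mul_index (B.subgroupOf T)
          rw [Nat.card_congr (Subgroup.subgroupOfEquivOfLe hBT).toEquiv, hA.two, hc] at this
          have hp : 0 < Nat.card A := Nat.card_pos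
          show (B.subgroupOf T).index = 2
          nlinarith
        exact hT ▸ Subgroup.relIndex_le_of_le_right hA.le (by rw [hT]; norm_num)
      have h2 := Subgroup.card_mul_index (B.subgroupOf A)
      have e : B.subgroupOf A = (A ⊓ B).subgroupOf A := by ext a; simp [Subgroup.mem_subgroupOf]
      rw [e, Nat.card_congr (Subgroup.subgroupOfEquivOfLe (inf_le_left : A ⊓ B ≤ A)).toEquiv] at h2
      have h1' : ((A ⊓ B).subgroupOf A).index ≤ 2 := e ▸ h1
      nlinarith
    have hle := Subgroup.card_le_of_le hEle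
    nlinarith
  by_cases hZ : zIn D' ≤ D
  swap
  · obtain ⟨τ, hτ, hτn⟩ := SetLike.not_le_iff_exists.mp hZ
    exact small h h'.le hcard hne τ hτ hτn
  by_cases hZ' : zIn D ≤ D'
  swap
  · obtain ⟨τ, hτ, hτn⟩ := SetLike.not_le_iff_exists.mp hZ'
    exact hcard ▸ small h' h.le hcard.symm hne.symm τ hτ hτn
  exfalso
  by_cases h1 : zIn D' ≤ zIn D
  swap
  · exact h.eq_aux h'.le hcard hne hZ h1
  by_cases h2 : zIn D ≤ zIn D'
  swap
  · exact h'.eq_aux h.le hcard.symm hne.symm hZ' h2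
  -- equal centres are centralized by an element outside `D`
  obtain ⟨τ, hτ, hτn⟩ : ∃ τ ∈ D', τ ∉ D := by
    by_contra hc; push Not at hc
    exact hne (Subgroup.eq_of_le_of_card_ge hc hcard.ge).symm
  haveI : Group.IsNilpotent D := (h.two_group.to_le h.le).isNilpotent
  have hD1 : Nontrivial D := by
    rw [← Finite.one_lt_card_iff_nontrivial]
    rcases Nat.lt_or_ge 1 (Nat.card D) with hl | hl
    · exact hl
    · exfalso
      have e1 : D = ⊥ := Subgroup.card_eq_one.mp (le_antisymm hl Nat.card_pos)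
      have e2 : D' = ⊥ := Subgroup.card_eq_one.mp (by rw [hcard, e1, Subgroup.card_bot])
      exact hne (e1.trans e2.symm)
  haveI : Nontrivial (Subgroup.center D) :=
    (Subgroup.nontrivial_iff_ne_bot _).mpr (Group.IsNilpotent.center_ne_bot D)
  obtain ⟨⟨z, hz⟩, hz1⟩ := exists_ne (1 : Subgroup.center D)
  have hzZ : (z : G) ∈ zIn D := Subgroup.mem_inf.mpr ⟨z.2, Subgroup.mem_centralizer_iff.mpr
    fun o ho => congrArg Subtype.val (Subgroup.mem_center_iff.mp hz ⟨o, ho⟩)⟩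
  have hzy : y⁻¹ * (z : G) * y ∈ zIn D := by
    have hy' : ∀ o ∈ D, y * o * y⁻¹ ∈ D := fun o ho => h.inv.conj_mem ho
    refine Subgroup.mem_inf.mpr ⟨by simpa using
      (Subgroup.mem_normalizer_iff.mp (inv_mem h.inv.1) (z : G)).mp z.2,
      Subgroup.mem_centralizer_iff.mpr fun o ho => ?_⟩
    have := Subgroup.mem_centralizer_iff.mp hzZ.2 _ (hy' o ho)
    calc o * (y⁻¹ * z * y) = y⁻¹ * (y * o * y⁻¹ * z) * y := by group
      _ = y⁻¹ * (z * (y * o * y⁻¹)) * y := by rw [this]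
      _ = _ := by group
  refine hz1 (Subtype.ext (Subtype.ext (h.split τ (h'.le hτ) hτn _ z.2 ?_ ?_)))
  · exact Subgroup.mem_centralizer_iff.mp (h2 hzZ).2 τ hτ
  · exact Subgroup.mem_centralizer_iff.mp (h2 hzy).2 τ hτ

end CfsgLib.NineOneClass
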