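import Cfsg.Agent.Lib.NineOneClass.Maximal

/-!
Intersections of maximal invariant `3'`-subgroups.
-/

set_option autoImplicit false
set_option linter.unusedVariables false
set_option linter.style.haveILetI false

namespace CfsgLib.NineOneClass

open CfsgLib.SelfCent CfsgLib.SCThree

universe u

variable {G : Type u} [Group G] [Finite G] {P : Sylow 3 G} {R : Subgroup G} {k t : G} {q a b : ℕ}

/-- The local subgroup of `D` is solvable. -/
def Solv (D : Subgroup G) : Prop :=
  (core3 (Subgroup.normalizer (D : Set G))).index = 3 ∨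
    (core3 (Subgroup.normalizer (D : Set G))).index = 6

namespace Ctx

theorem inv_inf (C : Ctx P R k t q a b) {M M' : Subgroup G} (h : Inv k M) (h' : Inv k M') :
    Inv k (M ⊓ M') := by
  refine ⟨?_, fun hd => h.2 (hd.trans (Subgroup.card_dvd_of_le inf_le_left))⟩
  rw [Subgroup.mem_normalizer_iff]
  intro z
  simp only [Subgroup.mem_inf]
  rw [Subgroup.mem_normalizer_iff.mp h.1 z, Subgroup.mem_normalizer_iff.mp h'.1 z]

theorem le_coreIn_normalizer (C : Ctx P R k t q a b) {D : Subgroup G} (hD : Inv k D) :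
    D ≤ coreIn (Subgroup.normalizer (D : Set G)) :=
  le_coreIn Subgroup.le_normalizer le_rfl hD.2

/-- An intersection with an element which is no involution has solvable local subgroup. -/
theorem solv_of_not_exp_two (C : Ctx P R k t q a b) {D : Subgroup G} (hD : Inv k D) {u : G}
    (hu : u ∈ D) (hu2 : u * u ≠ 1) : Solv D := by
  have hne : D ≠ ⊥ := fun e => hu2 (by
    rw [e] at hu; rw [Subgroup.mem_bot.mp hu, one_mul])
  rcases C.shape (H := Subgroup.normalizer (D : Set G)) hD.1 hD.2 hne le_rfl with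
    h | ⟨-, -, -, hsq⟩ | ⟨hbot, -⟩
  · exact h
  · exfalso
    obtain ⟨u', hu', rfl⟩ := C.le_coreIn_normalizer hD hu
    exact hu2 (congrArg Subtype.val (hsq u' hu'))
  · exfalso
    apply hne
    rw [← le_bot_iff]
    refine (C.le_coreIn_normalizer hD).trans ?_
    rw [coreIn, hbot, Subgroup.map_bot]

theorem five_of_not_solv (C : Ctx P R k t q a b) {D : Subgroup G} (hD : Inv k D) (hne : D ≠ ⊥)
    (h : ¬ Solv D) :
    q = 5 ∧ (core3 (Subgroup.normalizer (D : Set G))).index = 60 ∧
      IsSimpleGroup (↥(Subgroup.normalizer (D : Set G)) ⧸ core3 (Subgroup.normalizer (D : Set G))) ∧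
      (∀ e ∈ core3 (Subgroup.normalizer (D : Set G)), e * e = 1) := by
  rcases C.shape (H := Subgroup.normalizer (D : Set G)) hD.1 hD.2 hne le_rfl with
    h' | ⟨h60, hs, -, hsq⟩ | ⟨hbot, -⟩
  · exact absurd h' h
  · refine ⟨?_, h60, hs, hsq⟩
    have h5 : 5 ∣ Nat.card G := by
      have h1 := Subgroup.index_dvd_card (core3 (Subgroup.normalizer (D : Set G)))
      rw [h60] at h1
      exact ((Dvd.intro 12 rfl : 5 ∣ 60).trans h1).trans (Subgroup.card_subgroup_dvd_card _)
    rcases C.dvd_card_of_prime (by norm_num) h5 with e | e | e <;> omega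
  · exfalso
    apply hne
    rw [← le_bot_iff]
    refine (C.le_coreIn_normalizer hD).trans ?_
    rw [coreIn, hbot, Subgroup.map_bot]

theorem normInf_lt (C : Ctx P R k t q a b) {M D : Subgroup G} (hM : Inv k M) (hDM : D ≤ M)
    (hne : D ≠ M) : ∃ u ∈ M, u ∈ Subgroup.normalizer (D : Set G) ∧ u ∉ D := by
  haveI := C.isNilpotent hM
  have hlt : D.subgroupOf M < ⊤ := lt_top_iff_ne_top.mpr fun e =>
    hne (le_antisymm hDM (Subgroup.subgroupOf_eq_top.mp e))
  obtain ⟨⟨u, hu⟩, hun, hud⟩ :=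
    SetLike.exists_of_lt (Group.normalizerCondition_of_isNilpotent _ hlt)
  refine ⟨u, hu, ?_, hud⟩
  rw [Subgroup.mem_normalizer_iff]
  intro z
  constructor
  · intro hz
    exact (Subgroup.mem_normalizer_iff.mp hun ⟨z, hDM hz⟩).mp hz
  · intro hz
    have hzM : z ∈ M := by
      have := mul_mem (mul_mem (inv_mem hu) (hDM hz)) hu
      simpa [mul_assoc] using this
    exact (Subgroup.mem_normalizer_iff.mp hun ⟨z, hzM⟩).mpr hz

theorem eq_of_meet_aux (C : Ctx P R k t q a b) : ∀ (n : ℕ) (M M' : Subgroup G),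
    Nat.card G - Nat.card (M ⊓ M' : Subgroup G) = n → IsMax k M → IsMax k M' → M ⊓ M' ≠ ⊥ →
    (∀ E : Subgroup G, Inv k E → M ⊓ M' ≤ E → Solv E) → M = M' := by
  intro n
  induction n using Nat.strong_induction_on with
  | _ n ih =>
  intro M M' hn hM hM' hne hsolv
  by_contra hMM
  set D := M ⊓ M' with hDdef
  have hD : Inv k D := C.inv_inf hM.1 hM'.1
  set H := Subgroup.normalizer (D : Set G) with hH
  have hx : k ∈ H := hD.1
  have h9 : ¬ 9 ∣ Nat.card H := C.not_nine_dvd hD.2 hne le_rfl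
  -- the part normalizing `D` lies in the core
  have hin : ∀ N : Subgroup G, IsMax k N → N ⊓ H ≤ coreIn H := by
    intro N hN
    have hI : Inv k (N ⊓ H) := by
      refine ⟨?_, fun hd => hN.1.2 (hd.trans (Subgroup.card_dvd_of_le inf_le_left))⟩
      rw [Subgroup.mem_normalizer_iff]
      intro z
      simp only [Subgroup.mem_inf]
      rw [Subgroup.mem_normalizer_iff.mp hN.1.1 z,
        Subgroup.mem_normalizer_iff.mp (Subgroup.le_normalizer hx) z]
    obtain ⟨d, hd1, hd2, hd3, -⟩ := C.inv_image hx h9 hI inf_le_right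
    refine hd3 ?_
    have h6 : d ∣ 6 := by
      rcases hsolv D hD le_rfl with e | e <;> rw [e] at hd2
      · exact hd2.trans (by norm_num)
      · exact hd2
    have hle := Nat.le_of_dvd (by norm_num) h6
    interval_cases d <;> omega
  have hcne : coreIn H ≠ ⊥ := fun e => hne (le_bot_iff.mp (e ▸ C.le_coreIn_normalizer hD))
  obtain ⟨M'', hM'', hle''⟩ := exists_isMax (inv_coreIn hx) hcne
  have key : ∀ N : Subgroup G, IsMax k N → D ≤ N → N ≠ D → N = M'' := by
    intro N hN hDN hND
    obtain ⟨u, huN, huH, huD⟩ := C.normInf_lt hN.1 hDN (Ne.symm hND)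
    have hle : D ≤ N ⊓ M'' := le_inf hDN ((C.le_coreIn_normalizer hD).trans hle'')
    have hu'' : u ∈ N ⊓ M'' := ⟨huN, hle'' (hin N hN ⟨huN, huH⟩)⟩
    have hlt : Nat.card D < Nat.card (N ⊓ M'' : Subgroup G) := by
      by_contra hc
      push Not at hc
      exact huD ((Subgroup.eq_of_le_of_card_ge hle hc).symm ▸ hu'')
    refine ih _ ?_ N M'' rfl hN hM'' (fun e => hne (le_bot_iff.mp (e ▸ hle)))
      (fun E hE h' => hsolv E hE (hle.trans h'))
    have := Subgroup.card_le_card_group (N ⊓ M'' : Subgroup G)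
    omega
  have h1 : M ≠ D := fun e => hMM ((hM.2.2 M' hM'.1 (e ▸ inf_le_right)).symm)
  have h2 : M' ≠ D := fun e => hMM (hM'.2.2 M hM.1 (e ▸ inf_le_left))
  exact hMM ((key M hM inf_le_left h1).trans (key M' hM' inf_le_right h2).symm)

/-- If all local subgroups are solvable, distinct maximal subgroups meet trivially. -/
theorem meet_eq_bot (C : Ctx P R k t q a b) (hs : ∀ E : Subgroup G, Inv k E → E ≠ ⊥ → Solv E)
    {M M' : Subgroup G} (hM : IsMax k M) (hM' : IsMax k M') (hne : M ≠ M') : M ⊓ M' = ⊥ := by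
  by_contra h
  exact hne (C.eq_of_meet_aux _ M M' rfl hM hM' h fun E hE hle =>
    hs E hE (fun e => h (le_bot_iff.mp (e ▸ hle))))

/-- A maximal subgroup of odd order meets the others trivially. -/
theorem meet_eq_bot_of_odd (C : Ctx P R k t q a b) {M M' : Subgroup G} (hM : IsMax k M)
    (hM' : IsMax k M') (hne : M ≠ M') (hodd : ¬ 2 ∣ Nat.card M) : M ⊓ M' = ⊥ := by
  by_contra h
  obtain ⟨⟨u, hu⟩, hu1⟩ := Subgroup.ne_bot_iff_exists_ne_one.mp h
  have hu2 : u * u ≠ 1 := fun e => by
    have hd := orderOf_dvd_of_pow_eq_one (show u ^ 2 = 1 by rw [pow_two]; exact e)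
    rcases (Nat.dvd_prime Nat.prime_two).mp hd with e' | e'
    · exact hu1 (Subtype.ext (orderOf_eq_one_iff.mp e'))
    · exact hodd (e' ▸ Subgroup.orderOf_dvd_natCard M hu.1)
  exact hne (C.eq_of_meet_aux _ M M' rfl hM hM' h fun E hE hle =>
    C.solv_of_not_exp_two hE (hle hu) hu2)

end Ctx

end CfsgLib.NineOneClass
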