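import Cfsg.Agent.Lib.NineOneClass.Triangle
import Cfsg.Agent.Lib.NineOneClass.Arith
import Cfsg.Agent.Lib.SmallOrder.Exclude

/-!
There is no simple group with one class of elements of order three.
-/

set_option autoImplicit false
set_option linter.unusedVariables false
set_option linter.style.haveILetI false

open scoped BigOperators

namespace CfsgLib.NineOneClass

open Cfsg CfsgLib.Char CfsgLib.SelfCent CfsgLib.SCThree

universe u

variable {G : Type u} [Group G] [Finite G] {P : Sylow 3 G} {R : Subgroup G} {k t : G} {q a b : ℕ}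

theorem Ctx.false (C : Ctx P R k t q a b) : False := by
  classical
  haveI := C.simple
  haveI : Fintype G := Fintype.ofFinite G
  obtain ⟨c, d, i₀, hcol, hT, hval⟩ := C.exists_column
  by_cases hs : ∀ E : Subgroup G, Inv k E → E ≠ ⊥ → Solv E
  · obtain ⟨rfl, rfl, rfl⟩ := hcol.order_unique (C.count_solv hs) hT
    refine CfsgLib.SmallOrder.false_of_excludedAt C.nonab 17 17 1 576 (Or.inr (by norm_num))
      (by norm_num) one_ne_zero (by norm_num) (by rw [C.card]; norm_num) ?_
    decide +kernel
  · push Not at hs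
    obtain ⟨D, hD, hne, hns⟩ := hs
    obtain ⟨rfl, -⟩ := C.five_of_not_solv hD hne hns
    obtain ⟨M, hM, h2, hbig⟩ := C.exists_big hD hne hns
    obtain ⟨α, e, hx, hα, he⟩ := C.count_big hM h2 hbig
    have h8 : ∀ i ∈ Column.supp c i₀, d i ≠ 8 := by
      intro i hi h
      have h9 := hcol.mod i
      rw [h] at h9
      have hci : c i = -1 := by rcases hcol.value hi with e' | e' | e' | e' <;> omega
      exact C.no_eight hD hne hns (isCharacter_of_isIrr i.2)
        (by rw [(hval i).1, h]; norm_num) (by rw [(hval i).2, hci]; norm_num)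
    have he9 : 9 ∣ e * (5 ^ b - 1) := by
      rcases he with rfl | ⟨he, hB⟩
      · simp
      · have h3 : 3 ∣ 5 ^ b - 1 := Nat.dvd_of_mod_eq_zero (by omega)
        rcases he with rfl | rfl
        · exact Nat.mul_dvd_mul_left 3 h3
        · exact (Nat.mul_dvd_mul_left 3 h3).trans (mul_dvd_mul_right (by norm_num) _)
    obtain ⟨y, hy⟩ : 9 ∣ α := (Nat.dvd_add_left he9).mp (hx ▸ C.nine_dvd)
    subst hy
    rw [hx] at hT
    exact hcol.five_false h8 hα he hT

/-- One class of elements of order three is impossible. -/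
theorem false_of_one_class [IsSimpleGroup G] (hP : CfsgLib.NineSelfCent.Hyp P R)
    (hG : ¬ IsMulCommutative G) (hq : q.Prime) (hq2 : q ≠ 2) (hq3 : q ≠ 3)
    (hcard : Nat.card G = 9 * 2 ^ a * q ^ b) (hk : k ∈ R) (hk1 : k ≠ 1)
    (hone : ∀ u ∈ R, u ≠ 1 → IsConj k u) : False := by
  classical
  haveI : Fintype R := Fintype.ofFinite _
  haveI : Fact (Nat.Prime 2) := ⟨Nat.prime_two⟩
  set N := Subgroup.normalizer (R : Set G) with hN
  have hN72 : Nat.card N = 72 := by
    rw [hN, ← hP.card_fusion hk hk1]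
    have : Nat.card {u : R // IsConj k (u : G)} = 8 := by
      rw [Nat.card_congr (Equiv.subtypeEquivRight (q := fun u : R => u ≠ 1) fun u =>
        ⟨fun h e => hk1 (isConj_one_left.mp (by simpa [e] using h)),
          fun h => hone u u.2 fun e => h (Subtype.ext e)⟩)]
      rw [Nat.card_eq_fintype_card, Fintype.card_subtype_compl, Fintype.card_subtype_eq,
        ← Nat.card_eq_fintype_card, hP.card]
    rw [this]
  have h72 : 72 ∣ Nat.card G := hN72 ▸ Subgroup.card_subgroup_dvd_card N
  have ha : 3 ≤ a := by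
    rw [hcard, mul_assoc, show 72 = 9 * 8 by rfl] at h72
    have h8 := Nat.dvd_of_mul_dvd_mul_left (by norm_num) h72
    have hcop : Nat.Coprime (2 ^ 3) (q ^ b) :=
      ((Nat.coprime_primes Nat.prime_two hq).mpr (Ne.symm hq2)).pow 3 b
    have := Nat.le_of_dvd (Nat.two_pow_pos a) (hcop.dvd_of_dvd_mul_right h8)
    by_contra hc
    have : 2 ^ a ≤ 2 ^ 2 := Nat.pow_le_pow_right (by norm_num) (by omega)
    omega
  obtain ⟨⟨t, htN⟩, ht⟩ := exists_prime_orderOf_dvd_card' (G := N) 2 (hN72 ▸ by norm_num)
  rw [← Subgroup.orderOf_coe] at ht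
  change orderOf t = 2 at ht
  have ht2 : t * t = 1 := by rw [← pow_two, ← ht]; exact pow_orderOf_eq_one t
  have htinv : ∀ u ∈ R, t * u * t⁻¹ = u⁻¹ := by
    intro u hu
    have hu' : t * u * t⁻¹ ∈ R := (Subgroup.mem_normalizer_iff.mp htN u).mp hu
    have ht' : t⁻¹ = t := inv_eq_of_mul_eq_one_left ht2
    set w := u * (t * u * t⁻¹) with hw
    have hwR : w ∈ R := mul_mem hu hu'
    have hcw : t * w = w * t := by
      rw [← mul_inv_eq_iff_eq_mul]
      calc t * w * t⁻¹ = (t * u * t⁻¹) * ((t * t) * u * (t * t)⁻¹) := by rw [hw]; group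
        _ = w := by rw [ht2, one_mul, inv_one, mul_one, hw]; exact hP.comm _ hu' _ hu
    have hw1 : w = 1 := by
      by_contra h
      have h3 := hP.cube_of_comm (hP.exp w hwR) h hcw
      have := orderOf_dvd_of_pow_eq_one h3
      rw [ht] at this
      norm_num at this
    exact eq_inv_of_mul_eq_one_right hw1
  have hq5 : 5 ≤ q := by
    rcases Nat.lt_or_ge q 5 with h | h
    · interval_cases q <;> first | exact absurd rfl hq2 | exact absurd rfl hq3 | norm_num at hq
    · exact h
  exact Ctx.false (k := k) (t := t) (q := q) (a := a) (b := b)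
    ⟨hP, inferInstance, hG, hq, hq5, by rw [hcard, mul_assoc], ha, hk, hk1, hone, htN, ht2, htinv⟩

end CfsgLib.NineOneClass
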