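import Cfsg.Agent.Lib.NineOneClass.Pieces

/-!
Maximal invariant `3'`-subgroups and their normalizers.
-/

set_option autoImplicit false
set_option linter.unusedVariables false

namespace CfsgLib.NineOneClass

open CfsgLib.SelfCent CfsgLib.SCThree

universe u

variable {G : Type u} [Group G] [Finite G] {P : Sylow 3 G} {R : Subgroup G} {k t : G} {q a b : ℕ}

namespace Ctx

theorem three_dvd_card (C : Ctx P R k t q a b) : 3 ∣ Nat.card G := by
  rw [C.card]; exact dvd_mul_of_dvd_left (by norm_num) _

theorem normalizer_ne_top (C : Ctx P R k t q a b) {D : Subgroup G} (hD : Inv k D) (hne : D ≠ ⊥) :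
    Subgroup.normalizer (D : Set G) ≠ ⊤ := by
  intro e
  haveI := C.simple
  rcases (Subgroup.normalizer_eq_top_iff.mp e).eq_bot_or_eq_top with h | h
  · exact hne h
  · exact hD.2 (h ▸ (Subgroup.card_top (G := G)).symm ▸ C.three_dvd_card)

/-- An invariant `3'`-subgroup inside `H` has small image in `H ⧸ O(H)`. -/
theorem inv_image (C : Ctx P R k t q a b) {H M : Subgroup G} (hx : k ∈ H)
    (h9 : ¬ 9 ∣ Nat.card H) (hM : Inv k M) (hMH : M ≤ H) :
    ∃ d : ℕ, d % 3 = 1 ∧ d ∣ (core3 H).index ∧ (d = 1 → M ≤ coreIn H) ∧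
      ∀ E : Subgroup G, E ≤ M → E ≤ coreIn H → d * Nat.card E ∣ Nat.card M := by
  have hxs := C.sc_subgroup hx h9
  have hO := not_three_dvd_core3 (G := H)
  set f := QuotientGroup.mk' (core3 H) with hf
  set Mb := (M.subgroupOf H).map f with hMb
  have hI : Inv (f ⟨k, hx⟩) Mb := by
    constructor
    · refine Subgroup.le_normalizer_map f (Subgroup.mem_map_of_mem _ ?_)
      rw [Subgroup.mem_normalizer_iff]
      intro m
      exact Subgroup.mem_normalizer_iff.mp hM.1 (m : G)
    · intro hd
      apply hM.2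
      rw [← Nat.card_congr (Subgroup.subgroupOfEquivOfLe hMH).toEquiv]
      exact hd.trans (Subgroup.card_map_dvd (H := M.subgroupOf H) f)
  refine ⟨Nat.card Mb, hI.card_mod (hxs.quotient _ hO), ?_, ?_, ?_⟩
  · rw [Subgroup.index_eq_card]; exact Mb.card_subgroup_dvd_card
  · intro h1 m hm
    rw [Subgroup.card_eq_one] at h1
    refine ⟨⟨m, hMH hm⟩, ?_, rfl⟩
    refine (QuotientGroup.eq_one_iff _).mp ?_
    exact Subgroup.mem_bot.mp (h1 ▸ Subgroup.mem_map_of_mem f (show (⟨m, hMH hm⟩ : H) ∈ _ from hm))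
  · intro E hEM hEO
    have h1 := Subgroup.card_mul_index ((f.comp (M.subgroupOf H).subtype).ker)
    rw [Subgroup.index_ker, MonoidHom.range_comp, Subgroup.range_subtype,
      Nat.card_congr (Subgroup.subgroupOfEquivOfLe hMH).toEquiv] at h1
    rw [← h1, mul_comm]
    refine Nat.mul_dvd_mul ?_ (dvd_refl _)
    let j : E →* (M.subgroupOf H) :=
      { toFun := fun e => ⟨⟨e, hMH (hEM e.2)⟩, hEM e.2⟩
        map_one' := rfl
        map_mul' := fun _ _ => rfl }
    have hj : ∀ e, j e ∈ (f.comp (M.subgroupOf H).subtype).ker := fun e => by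
      obtain ⟨h', hh, he⟩ := hEO e.2
      show f _ = 1
      have : (j e : H) = h' := Subtype.ext he.symm
      rw [show (M.subgroupOf H).subtype (j e) = h' from this]
      exact (QuotientGroup.eq_one_iff h').mpr hh
    have hinj : Function.Injective (j.codRestrict _ hj) := fun a b e =>
      Subtype.ext (congrArg (fun z => (((z : M.subgroupOf H) : H) : G)) (congrArg Subtype.val e))
    exact Subgroup.card_dvd_of_injective _ hinj

theorem exists_bigger (C : Ctx P R k t q a b) {H : Subgroup G} (hx : k ∈ H)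
    (h9 : ¬ 9 ∣ Nat.card H)
    (h60 : (core3 H).index = 60) (hsimp : IsSimpleGroup (H ⧸ core3 H)) :
    ∃ M' : Subgroup G, Inv k M' ∧ M' ≤ H ∧ coreIn H < M' := by
  have hxs := C.sc_subgroup hx h9
  have hO := not_three_dvd_core3 (G := H)
  have hc : Nat.card (H ⧸ core3 H) = 60 := by rw [← Subgroup.index_eq_card, h60]
  obtain ⟨Mb, hMb, h2⟩ := exists_even_inv_sixty (Q := H ⧸ core3 H)
    (CfsgLib.SmallOrder.not_comm_of_not_prime (fun hp => by rw [hc] at hp; norm_num at hp)) hc
    (hxs.quotient _ hO)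
  set f := QuotientGroup.mk' (core3 H)
  have hcard : Nat.card ((Mb.comap f).map H.subtype) = Nat.card (core3 H) * Nat.card Mb := by
    rw [← Nat.card_congr (Subgroup.equivMapOfInjective _ _ H.subtype_injective).toEquiv]
    exact QuotientGroup.card_preimage_mk _ _
  refine ⟨(Mb.comap f).map H.subtype, ⟨?_, ?_⟩, Subgroup.map_subtype_le _, ?_⟩
  · refine Subgroup.le_normalizer_map (H := Mb.comap f) H.subtype
      (Subgroup.mem_map_of_mem H.subtype (x := ⟨k, hx⟩) ?_)
    rw [Subgroup.mem_normalizer_iff]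
    intro m
    simp only [Subgroup.mem_comap, map_mul, map_inv]
    exact Subgroup.mem_normalizer_iff.mp hMb.1 (f m)
  · rw [hcard]
    exact fun hd => (Nat.prime_three.dvd_mul.mp hd).elim hO hMb.2
  · refine lt_of_le_of_ne (Subgroup.map_mono (fun o ho => ?_)) fun e => ?_
    · show f o ∈ Mb
      rw [show f o = 1 from (QuotientGroup.eq_one_iff o).mpr ho]; exact one_mem _
    · rw [← e, card_coreIn] at hcard
      have h1 : Nat.card Mb = 1 := by
        have : 0 < Nat.card (core3 H) := Nat.card_pos
        exact Nat.eq_of_mul_eq_mul_left this (by linarith [hcard])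
      rw [h1] at h2; norm_num at h2

/-- The normalizer of `D` has core `M` when `M` normalizes `D ≤ M` suitably. -/
theorem coreIn_eq (C : Ctx P R k t q a b) {M D : Subgroup G} (hM : IsMax k M) (hD : Inv k D)
    (hne : D ≠ ⊥) (hDM : D ≤ M) (hMN : M ≤ Subgroup.normalizer (D : Set G))
    (hidx : (∀ a ∈ D, a * a = 1) → ∀ d : ℕ, d * Nat.card D ∣ Nat.card M → ¬ 2 ∣ d) :
    coreIn (Subgroup.normalizer (D : Set G)) = M ∧
      ((core3 (Subgroup.normalizer (D : Set G))).index = 3 ∨
        (core3 (Subgroup.normalizer (D : Set G))).index = 6) := by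
  set H := Subgroup.normalizer (D : Set G) with hH
  have hx : k ∈ H := hD.1
  have h9 : ¬ 9 ∣ Nat.card H := C.not_nine_dvd hD.2 hne le_rfl
  have hDH : D ≤ H := Subgroup.le_normalizer
  have hDO : D ≤ coreIn H := le_coreIn hDH le_rfl hD.2
  obtain ⟨d, hd1, hd2, hd3, hd4⟩ := inv_image C hx h9 hM.1 hMN
  rcases C.shape hx hD.2 hne (H := H) le_rfl with h36 | ⟨h60, hsimp, hcomm, hsq⟩ | ⟨hbot, -⟩
  · refine ⟨hM.2.2 _ (inv_coreIn hx) (hd3 ?_), h36⟩
    have : d ∣ 6 := by
      rcases h36 with e | e <;> rw [e] at hd2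
      · exact hd2.trans (by norm_num)
      · exact hd2
    have hle := Nat.le_of_dvd (by norm_num) this
    interval_cases d <;> omega
  · exfalso
    have hsq' : ∀ a ∈ D, a * a = 1 := fun a ha => by
      obtain ⟨a', ha', rfl⟩ := hDO ha
      exact congrArg Subtype.val (hsq a' ha')
    have hodd := hidx hsq' d (hd4 D hDM hDO)
    rw [h60] at hd2
    have hd : d = 1 := by
      have hle := Nat.le_of_dvd (by norm_num) hd2
      interval_cases d <;> omega
    obtain ⟨M', hM', -, hlt⟩ := C.exists_bigger hx h9 h60 hsimp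
    exact (lt_of_le_of_lt (hd3 hd) hlt).ne' (hM.2.2 M' hM' ((hd3 hd).trans hlt.le))
  · exfalso
    apply hne
    rw [← le_bot_iff]
    refine hDO.trans ?_
    rw [coreIn, hbot, Subgroup.map_bot]

theorem normalizer_max (C : Ctx P R k t q a b) {M : Subgroup G} (hM : IsMax k M) :
    coreIn (Subgroup.normalizer (M : Set G)) = M ∧
      (Nat.card (Subgroup.normalizer (M : Set G)) = 3 * Nat.card M ∨
        Nat.card (Subgroup.normalizer (M : Set G)) = 6 * Nat.card M) := by
  obtain ⟨h1, h2⟩ := C.coreIn_eq hM hM.1 hM.2.1 le_rfl Subgroup.le_normalizer (fun _ d hd hd2 => by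
    have : d = 1 := by
      have := Nat.le_of_dvd Nat.card_pos hd
      have hp : 0 < Nat.card M := Nat.card_pos
      rcases Nat.lt_or_ge d 2 with hl | hl
      · rcases (show d = 0 ∨ d = 1 by omega) with rfl | rfl
        · simp only [Nat.zero_mul, zero_dvd_iff] at hd; omega
        · rfl
      · nlinarith
    rw [this] at hd2; norm_num at hd2)
  refine ⟨h1, ?_⟩
  have hc := card_coreIn_mul (Subgroup.normalizer (M : Set G))
  rw [h1] at hc
  rcases h2 with e | e <;> rw [e] at hc
  · left; omega
  · right; omega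

section Part

variable (p : ℕ) [Fact p.Prime]

theorem normalizer_le_part (C : Ctx P R k t q a b) {M : Subgroup G} (hM : Inv k M) :
    Subgroup.normalizer (M : Set G) ≤ Subgroup.normalizer (part p M : Set G) := by
  haveI := C.isNilpotent hM
  intro g hg
  rw [Subgroup.mem_normalizer_iff_map_conj_eq] at hg ⊢
  refine Subgroup.eq_of_le_of_card_ge (le_part p ?_ ((isPGroup_part p M).map _))
    (le_of_eq (Nat.card_congr (Subgroup.equivMapOfInjective _ _ (MulAut.conj g).injective).toEquiv))
  exact (Subgroup.map_mono (part_le p M)).trans (le_of_eq hg)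

theorem inv_part (C : Ctx P R k t q a b) {M : Subgroup G} (hM : Inv k M) : Inv k (part p M) :=
  ⟨C.normalizer_le_part p hM hM.1,
    fun hd => hM.2 (hd.trans (Subgroup.card_dvd_of_le (part_le p M)))⟩

/-- The normalizer of a nontrivial Sylow part is the normalizer of `M`. -/
theorem normalizer_part (C : Ctx P R k t q a b) {M : Subgroup G} (hM : IsMax k M)
    (hp : p ∣ Nat.card M) :
    Subgroup.normalizer (part p M : Set G) = Subgroup.normalizer (M : Set G) := by
  refine le_antisymm ?_ (C.normalizer_le_part p hM.1)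
  obtain ⟨h1, -⟩ := C.coreIn_eq hM (C.inv_part p hM.1) (part_ne_bot p hp) (part_le p M)
    (Subgroup.le_normalizer.trans (C.normalizer_le_part p hM.1)) (fun hsq d hd => by
      rcases eq_or_ne p 2 with rfl | hp2
      · exact not_dvd_of_mul_part 2 hd
      · exfalso
        apply part_ne_bot p hp
        rw [Subgroup.eq_bot_iff_forall]
        intro a ha
        obtain ⟨k, hk⟩ := (isPGroup_part p M) ⟨a, ha⟩
        have hk' : a ^ p ^ k = 1 := congrArg Subtype.val hk
        have h2 : a ^ 2 = 1 := by rw [pow_two]; exact hsq a ha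
        have := Nat.dvd_gcd (orderOf_dvd_of_pow_eq_one hk') (orderOf_dvd_of_pow_eq_one h2)
        rw [Nat.Coprime.gcd_eq_one (Nat.Coprime.pow_left k
          ((Nat.coprime_primes Fact.out Nat.prime_two).mpr hp2)), Nat.dvd_one] at this
        exact orderOf_eq_one_iff.mp this)
  set H := Subgroup.normalizer (part p M : Set G)
  calc H = (⊤ : Subgroup H).map H.subtype := by rw [← MonoidHom.range_eq_map, Subgroup.range_subtype]
    _ ≤ (Subgroup.normalizer (core3 H : Set H)).map H.subtype := by
        rw [Subgroup.normalizer_eq_top]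
    _ ≤ Subgroup.normalizer ((coreIn H : Subgroup G) : Set G) := Subgroup.le_normalizer_map _
    _ = _ := by rw [h1]

end Part

theorem part_two_dvd (C : Ctx P R k t q a b) {M : Subgroup G} (hM : IsMax k M) (P : Sylow 2 G)
    (hle : part 2 M ≤ (P : Subgroup G)) (h2 : 2 ∣ Nat.card M) :
    Piece (P : Subgroup G) (part 2 M) k := by
  haveI : Fact (Nat.Prime 2) := ⟨Nat.prime_two⟩
  have hInv := C.inv_part 2 hM.1
  have hN := C.normalizer_part 2 hM h2
  obtain ⟨hcore, hcard⟩ := C.normalizer_max hM
  set H := Subgroup.normalizer (M : Set G) with hH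
  haveI := C.isNilpotent hM.1
  have hinP : ∀ a ∈ (P : Subgroup G), a ∈ M → a ∈ part 2 M := fun a ha haM =>
    le_part 2 (Subgroup.zpowers_le.mpr haM)
      (P.isPGroup'.to_le (Subgroup.zpowers_le.mpr ha)) (Subgroup.mem_zpowers a)
  refine ⟨hle, P.isPGroup', part_ne_bot 2 h2, C.free, hInv, ?_, ?_, ?_⟩
  · intro p hp hc
    refine hinP p hp ?_
    let Cc := Subgroup.centralizer (part 2 M : Set G)
    have hCH : Cc ≤ H := fun a ha => by
      rw [← hN]; exact Subgroup.centralizer_le_normalizer _ ha
    have hle' : Cc ≤ coreIn H := by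
      refine le_coreIn hCH ?_ ?_
      · intro a ha
        rw [Subgroup.mem_normalizer_iff]
        have haD : a ∈ Subgroup.normalizer (part 2 M : Set G) := hN ▸ ha
        intro c
        simp only [Cc, Subgroup.mem_centralizer_iff]
        constructor
        · intro hcc d hd
          have := hcc _ ((Subgroup.mem_normalizer_iff.mp (inv_mem haD) d).mp hd)
          rw [inv_inv] at this
          calc d * (a * c * a⁻¹) = a * (a⁻¹ * d * a * c) * a⁻¹ := by group
            _ = a * (c * (a⁻¹ * d * a)) * a⁻¹ := by rw [this]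
            _ = _ := by group
        · intro hcc d hd
          have := hcc _ ((Subgroup.mem_normalizer_iff.mp haD d).mp hd)
          calc d * c = a⁻¹ * ((a * d * a⁻¹) * (a * c * a⁻¹)) * a := by group
            _ = a⁻¹ * ((a * c * a⁻¹) * (a * d * a⁻¹)) * a := by rw [this]
            _ = _ := by group
      · intro hd
        haveI : Fact (Nat.Prime 3) := ⟨Nat.prime_three⟩
        obtain ⟨⟨z, hz⟩, hz3⟩ := exists_prime_orderOf_dvd_card' (G := Cc) 3 hd
        rw [← Subgroup.orderOf_coe] at hz3
        obtain ⟨⟨d, hd'⟩, hd1⟩ := Subgroup.ne_bot_iff_exists_ne_one.mp (part_ne_bot 2 h2)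
        exact C.free.not_three_dvd (fun e => hd1 (Subtype.ext e))
          (hInv.not_dvd_orderOf hd') (Subgroup.mem_centralizer_iff.mp hz d hd').symm (by rw [hz3])
    rw [← hcore]
    exact hle' (Subgroup.mem_centralizer_iff.mpr fun d hd => (hc d hd).symm)
  · rw [hN]
    obtain ⟨k, hk⟩ := IsPGroup.iff_card.mp (P.isPGroup'.to_le
      (inf_le_left : (P : Subgroup G) ⊓ H ≤ P))
    have hd := Subgroup.card_dvd_of_le (inf_le_right : (P : Subgroup G) ⊓ H ≤ H)
    rw [hk] at hd ⊢
    rw [card_part, ← pow_succ']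
    refine Nat.pow_le_pow_right (by norm_num) ?_
    have h6 : 2 ^ k ∣ 6 * Nat.card M := by
      rcases hcard with e | e <;> rw [e] at hd
      · exact hd.trans ⟨2, by ring⟩
      · exact hd
    have h' := (Nat.Prime.pow_dvd_iff_le_factorization Nat.prime_two
      (mul_ne_zero (by norm_num) Nat.card_pos.ne')).mp h6
    rw [Nat.factorization_mul (by norm_num) Nat.card_pos.ne', Finsupp.add_apply,
      show (6 : ℕ) = 2 * 3 from rfl, Nat.factorization_mul (by norm_num) (by norm_num),
      Finsupp.add_apply, Nat.prime_two.factorization_self,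
      Nat.factorization_eq_zero_of_not_dvd (by norm_num : ¬ 2 ∣ 3)] at h'
    omega
  · intro τ hτ hn
    rw [hN, Subgroup.mem_inf] at hτ
    have hτM : τ ∉ M := fun h => hn (hinP τ hτ.1 h)
    have hx : k ∈ H := hM.1.1
    have h9 : ¬ 9 ∣ Nat.card H := C.not_nine_dvd hM.1.2 hM.2.1 le_rfl
    have hxs := C.sc_subgroup hx h9
    have hO := not_three_dvd_core3 (G := H)
    set f := QuotientGroup.mk' (core3 H) with hf
    set q : H := ⟨τ, hτ.2⟩ with hq
    set xq : H := ⟨k, hx⟩
    have hqs := hxs.quotient _ hO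
    have hqO : f q ≠ 1 := by
      intro e
      apply hτM
      rw [← hcore]
      exact ⟨q, (QuotientGroup.eq_one_iff q).mp e, rfl⟩
    obtain ⟨j, hk⟩ : ∃ j, τ ^ 2 ^ j = 1 := by
      obtain ⟨j, hk⟩ := P.isPGroup' ⟨τ, hτ.1⟩
      exact ⟨j, congrArg Subtype.val hk⟩
    have hq2 : f q ^ 2 ^ j = 1 := by
      rw [← map_pow, show q ^ 2 ^ j = 1 from Subtype.ext hk, map_one]
    have hQ : Nat.card (H ⧸ core3 H) ∣ 6 := by
      have h1 : Nat.card (core3 H) * Nat.card (H ⧸ core3 H) = Nat.card H := by
        rw [← Subgroup.index_eq_card, Subgroup.card_mul_index]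
      rw [← card_coreIn, hcore] at h1
      have hp : 0 < Nat.card M := Nat.card_pos
      rcases hcard with e | e <;> rw [e, mul_comm (Nat.card M)] at h1 <;>
        rw [Nat.eq_of_mul_eq_mul_right hp h1]
      norm_num
    set X := Subgroup.zpowers (f xq) with hX
    have hXc : Nat.card X = 3 := hqs.card_P
    haveI : X.Normal := by
      have h1 := Subgroup.card_mul_index X
      have hle := Nat.le_of_dvd (by norm_num) hQ
      rw [hXc] at h1
      have hpos : 0 < X.index := Nat.pos_of_ne_zero Subgroup.index_ne_zero_of_finite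
      rcases (show X.index = 1 ∨ X.index = 2 by omega) with e | e
      · rw [Subgroup.index_eq_one.mp e]; infer_instance
      · exact Subgroup.normal_of_index_eq_two e
    have hnotX : f q ∉ X := by
      intro hmem
      apply hqO
      have h3 : orderOf (f q) ∣ 3 := hXc ▸ Subgroup.orderOf_dvd_natCard X hmem
      have := Nat.dvd_gcd h3 (orderOf_dvd_of_pow_eq_one hq2)
      rw [Nat.Coprime.gcd_eq_one (Nat.Coprime.pow_right j (by norm_num)), Nat.dvd_one] at this
      exact orderOf_eq_one_iff.mp this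
    set w : H := q⁻¹ * (xq * q * xq⁻¹) with hw
    have hwX : f w ∈ X := by
      rw [hw, map_mul, map_mul, map_mul, map_inv, map_inv,
        show (f q)⁻¹ * (f xq * f q * (f xq)⁻¹) = ((f q)⁻¹ * f xq * f q) * (f xq)⁻¹ by group]
      refine mul_mem ?_ (inv_mem (Subgroup.mem_zpowers _))
      simpa using (inferInstance : X.Normal).conj_mem _ (Subgroup.mem_zpowers (f xq)) (f q)⁻¹
    have hw1 : f w ≠ 1 := by
      intro e
      apply hnotX
      apply comm_mem_zpowers hqs
      show f q * f xq = f xq * f q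
      rw [hw, map_mul, map_inv, inv_mul_eq_one, map_mul, map_mul, map_inv,
        eq_mul_inv_iff_mul_eq] at e
      exact e
    have h3 : orderOf (f w) = 3 := by
      rcases Nat.prime_three.eq_one_or_self_of_dvd _
        (hXc ▸ Subgroup.orderOf_dvd_natCard X hwX) with e | e
      · exact absurd (orderOf_eq_one_iff.mp e) hw1
      · exact e
    have e : τ⁻¹ * (k * τ * k⁻¹) = (w : G) := rfl
    rw [e, Subgroup.orderOf_coe]
    exact h3 ▸ orderOf_map_dvd f w

end Ctx

end CfsgLib.NineOneClass
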