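import Cfsg.Agent.Lib.NineOneClass.Intersect
import Cfsg.Agent.Lib.Char.Virtual
import Cfsg.Agent.Lib.Char.Kernel
import Cfsg.Agent.Lib.ExtClosedP.Principal

/-!
An insoluble local subgroup excludes a character of degree eight taking the value `-1` at `k`.
-/

set_option autoImplicit false
set_option linter.unusedVariables false
set_option linter.style.haveILetI false

open scoped BigOperators Pointwise

namespace CfsgLib.NineOneClass

open Cfsg CfsgLib.Char CfsgLib.SelfCent CfsgLib.SCThree

universe u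

section Fix

variable {G : Type u} [Group G] {n : ℕ} (ρ : Representation ℂ G (Fin n → ℂ))

/-- The fixed space of a subgroup. -/
noncomputable def fix (X : Subgroup G) : Submodule ℂ (Fin n → ℂ) :=
  Representation.invariants (ρ.comp X.subtype)

theorem mem_fix {X : Subgroup G} {v : Fin n → ℂ} : v ∈ fix ρ X ↔ ∀ x ∈ X, ρ x v = v :=
  ⟨fun h x hx => h ⟨x, hx⟩, fun h x => h x.1 x.2⟩

theorem fix_anti {X Y : Subgroup G} (h : X ≤ Y) : fix ρ Y ≤ fix ρ X :=
  fun v hv => (mem_fix ρ).mpr fun x hx => (mem_fix ρ).mp hv x (h hx)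

theorem sum_fix (X : Subgroup G) [Fintype X] :
    ∑ x : X, ρ.character x = (Nat.card X : ℂ) * (Module.finrank ℂ (fix ρ X) : ℂ) :=
  CfsgLib.ExtClosedP.sum_character_eq (ρ.comp X.subtype)

theorem rho_mul (a b : G) (v : Fin n → ℂ) : ρ (a * b) v = ρ a (ρ b v) := by
  rw [map_mul]; rfl

theorem rho_eq_one_of_fix_eq_top {X : Subgroup G} (h : fix ρ X = ⊤) {x : G} (hx : x ∈ X) :
    ρ x = 1 :=
  LinearMap.ext fun v => (mem_fix ρ).mp (h ▸ Submodule.mem_top) x hx

end Fix

variable {G : Type u} [Group G] [Finite G] {P : Sylow 3 G} {R : Subgroup G} {k t : G} {q a b : ℕ}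

namespace Ctx

theorem isConj_of_cube (C : Ctx P R k t q a b) {z : G} (hz : z * z * z = 1) (hz1 : z ≠ 1) :
    IsConj k z := by
  obtain ⟨g, hg⟩ := C.hyp.exists_conj_elem (x := z) (by rw [pow_succ, pow_two]; exact hz)
  exact (C.one _ hg (fun e => hz1 (conj_eq_one_iff.mp e))).trans (isConj_iff.mpr ⟨g, rfl⟩).symm

/-- The coset of a nontrivial element of `R` over a subgroup it normalizes. -/
theorem isConj_coset (C : Ctx P R k t q a b) {y : G} (hy : y ∈ R) (hy1 : y ≠ 1) {M : Subgroup G}
    (hM : Inv y M) {m : G} (hm : m ∈ M) : IsConj k (m * y) := by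
  refine C.isConj_of_cube ?_ fun e => ?_
  · calc m * y * (m * y) * (m * y)
        = m * (y * m * y⁻¹) * (y * (y * m * y⁻¹) * y⁻¹) * (y * y * y) := by group
      _ = 1 := by rw [C.identity hy hy1 hM hm, C.pow_three hy, one_mul]
  · exact hM.not_dvd_orderOf (show y ∈ M by
      rw [eq_inv_of_mul_eq_one_right e]; exact inv_mem hm) (by rw [C.orderOf_eq hy hy1])

theorem sum_sup (C : Ctx P R k t q a b) {M : Subgroup G} (hM : Inv k M) [Fintype M]
    [Fintype (M ⊔ Subgroup.zpowers k : Subgroup G)] {χ : G → ℂ} (hcl : ∀ z, IsConj k z → χ z = -1) :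
    ∑ x : (M ⊔ Subgroup.zpowers k : Subgroup G), χ x =
        (∑ m : M, χ m) - 2 * (Nat.card M : ℂ) ∧
      Nat.card (M ⊔ Subgroup.zpowers k : Subgroup G) = 3 * Nat.card M := by
  classical
  have hk3 := C.orderOf_eq C.kmem C.k1
  let f : M × Fin 3 → (M ⊔ Subgroup.zpowers k : Subgroup G) := fun p =>
    ⟨(p.1 : G) * k ^ (p.2 : ℕ), mul_mem (Subgroup.mem_sup_left p.1.2)
      (Subgroup.mem_sup_right (Subgroup.pow_mem _ (Subgroup.mem_zpowers k) _))⟩
  have hf : Function.Bijective f := by
    constructor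
    · rintro ⟨m, i⟩ ⟨m', i'⟩ e
      have e' : (m : G) * k ^ (i : ℕ) = (m' : G) * k ^ (i' : ℕ) := congrArg Subtype.val e
      set y := k ^ (i : ℕ) * (k ^ (i' : ℕ))⁻¹ with hy
      have hyM : y ∈ M := by
        rw [show y = (m : G)⁻¹ * m' by
          rw [hy, eq_inv_mul_iff_mul_eq, ← mul_assoc, e', mul_inv_cancel_right]]
        exact mul_mem (inv_mem m.2) m'.2
      have hy1 : y = 1 := by
        by_contra h
        exact hM.not_dvd_orderOf hyM (by
          rw [C.orderOf_eq (mul_mem (Subgroup.pow_mem _ C.kmem _)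
            (inv_mem (Subgroup.pow_mem _ C.kmem _))) h])
      have hp := mul_inv_eq_one.mp hy1
      rw [hp] at e'
      have hi : (i : ℕ) = i' := pow_injOn_Iio_orderOf
        (by rw [Set.mem_Iio, hk3]; exact i.2) (by rw [Set.mem_Iio, hk3]; exact i'.2) hp
      exact Prod.ext (Subtype.ext (mul_right_cancel e')) (Fin.ext hi)
    · rintro ⟨x, hx⟩
      have hx' : x ∈ (M : Set G) * (Subgroup.zpowers k : Set G) := by
        rw [← Subgroup.coe_mul_of_right_le_normalizer_left M (Subgroup.zpowers k)
          (Subgroup.zpowers_le.mpr hM.1)]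
        exact hx
      obtain ⟨m, hm, y, hy, rfl⟩ := hx'
      obtain ⟨z, rfl⟩ := (IsOfFinOrder.mem_powers_iff_mem_zpowers (isOfFinOrder_of_finite k)).mpr hy
      refine ⟨(⟨m, hm⟩, ⟨z % 3, Nat.mod_lt _ (by norm_num)⟩), Subtype.ext ?_⟩
      show m * k ^ (z % 3) = m * k ^ z
      rw [← hk3, pow_mod_orderOf]
  refine ⟨?_, ?_⟩
  · refine (Equiv.sum_comp (Equiv.ofBijective f hf) (fun x => χ (x : G))).symm.trans ?_
    rw [Fintype.sum_prod_type]
    have hinv2 : Inv (k ^ 2) M := ⟨Subgroup.pow_mem _ hM.1 2, hM.2⟩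
    have hv : ∀ m : M, ∑ i : Fin 3, χ ((Equiv.ofBijective f hf (m, i) : (M ⊔ Subgroup.zpowers k : Subgroup G)) : G) = χ m - 2 :=
        fun m => by
      rw [Fin.sum_univ_three]
      show χ ((m : G) * k ^ 0) + χ ((m : G) * k ^ 1) + χ ((m : G) * k ^ 2) = _
      rw [pow_zero, mul_one, pow_one, hcl _ (C.isConj_coset C.kmem C.k1 hM m.2),
        hcl _ (C.isConj_coset (Subgroup.pow_mem _ C.kmem 2)
          (fun e => by
            have := Nat.le_of_dvd (by norm_num) (orderOf_dvd_of_pow_eq_one e)
            omega) hinv2 m.2)]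
      ring
    rw [Finset.sum_congr rfl fun m _ => hv m, Finset.sum_sub_distrib, Finset.sum_const,
      Finset.card_univ, nsmul_eq_mul, Fintype.card_eq_nat_card]
    ring
  · rw [← Nat.card_congr (Equiv.ofBijective f hf), Nat.card_prod, Nat.card_fin, mul_comm]

/-- The dimension of the fixed space of an invariant subgroup. -/
theorem finrank_fix (C : Ctx P R k t q a b) {M : Subgroup G} (hM : Inv k M)
    {n : ℕ} (ρ : Representation ℂ G (Fin n → ℂ)) (hcl : ∀ z, IsConj k z → ρ.character z = -1) :
    Module.finrank ℂ (fix ρ M) = 3 * Module.finrank ℂ (fix ρ (M ⊔ Subgroup.zpowers k)) + 2 := by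
  classical
  haveI : Fintype M := Fintype.ofFinite _
  haveI : Fintype (M ⊔ Subgroup.zpowers k : Subgroup G) := Fintype.ofFinite _
  obtain ⟨h, hc⟩ := C.sum_sup hM hcl
  rw [sum_fix, sum_fix, hc] at h
  have hpos : (Nat.card M : ℂ) ≠ 0 := Nat.cast_ne_zero.mpr Nat.card_pos.ne'
  push_cast at h
  have h' : (Module.finrank ℂ (fix ρ M) : ℂ) =
      3 * (Module.finrank ℂ (fix ρ (M ⊔ Subgroup.zpowers k)) : ℂ) + 2 :=
    mul_left_cancel₀ hpos (by linear_combination -h)
  exact_mod_cast h'

/-- Two involutions with the same fixed space act equally. -/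
theorem rho_eq_of_same_fix {n : ℕ} (ρ : Representation ℂ G (Fin n → ℂ)) {W : Submodule ℂ (Fin n → ℂ)}
    {e e' : G} (he : e * e = 1) (he' : e' * e' = 1) (hc : e * e' = e' * e)
    (hW : ∀ v, v ∈ W ↔ ρ e v = v) (hW' : ∀ v, v ∈ W ↔ ρ e' v = v) : ρ e = ρ e' := by
  have h2 : ∀ v, ρ e (ρ e v) = v := fun v => by rw [← rho_mul, he, map_one]; rfl
  have h2' : ∀ v, ρ e' (ρ e' v) = v := fun v => by rw [← rho_mul, he', map_one]; rfl
  refine LinearMap.ext fun v => ?_
  have h1 : ρ e' (v + ρ e v) = v + ρ e v :=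
    (hW' _).mp ((hW _).mpr (by rw [map_add, h2, add_comm]))
  set w := v - ρ e v
  have hw : ρ e w = -w := by simp only [w, map_sub, h2]; abel
  have hsum : ρ e' w + w ∈ W := (hW' _).mpr (by rw [map_add, h2', add_comm])
  have hneg : ρ e (ρ e' w + w) = -(ρ e' w + w) := by
    rw [map_add, ← rho_mul, hc, rho_mul, hw, map_neg]; abel
  rw [(hW _).mp hsum] at hneg
  have hz : (2 : ℂ) • (ρ e' w + w) = 0 := by
    rw [two_smul]; exact eq_neg_iff_add_eq_zero.mp hneg
  have hw' : ρ e' w = -w :=
    eq_neg_iff_add_eq_zero.mpr ((smul_eq_zero.mp hz).resolve_left two_ne_zero)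
  simp only [w, map_sub] at hw'
  rw [map_add] at h1
  have h3 : (2 : ℂ) • ρ e' v = (2 : ℂ) • ρ e v := by
    rw [two_smul, two_smul]
    linear_combination (norm := abel) h1 + hw'
  exact ((smul_right_injective _ (two_ne_zero (α := ℂ))) h3).symm

/-- Commuting involutions generating a local core. -/
theorem core_elem (C : Ctx P R k t q a b) {H : Subgroup G}
    (hsq : ∀ e ∈ core3 H, e * e = 1) :
    (∀ e ∈ coreIn H, e * e = 1) ∧ ∀ e ∈ coreIn H, ∀ e' ∈ coreIn H, e * e' = e' * e := by
  have h1 : ∀ e ∈ coreIn H, e * e = 1 := by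
    rintro _ ⟨e, he, rfl⟩
    exact congrArg Subtype.val (hsq e he)
  refine ⟨h1, fun e he e' he' => ?_⟩
  calc e * e' = (e * e')⁻¹ := eq_inv_of_mul_eq_one_left (h1 _ (mul_mem he he'))
    _ = e' * e := by
      rw [mul_inv_rev, inv_eq_of_mul_eq_one_left (h1 e he), inv_eq_of_mul_eq_one_left (h1 e' he')]

/-- No character of degree eight with value `-1` at `k`. -/
theorem no_eight (C : Ctx P R k t q a b) {D : Subgroup G} (hD : Inv k D) (hne : D ≠ ⊥)
    (hns : ¬ Solv D) {χ : G → ℂ} (hχ : IsCharacter G χ) (h8 : χ 1 = 8) (hk : χ k = -1) : False := by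
  classical
  haveI := C.simple
  obtain ⟨-, h60, hsimp, hsq0⟩ := C.five_of_not_solv hD hne hns
  set H := Subgroup.normalizer (D : Set G) with hH
  have hx : k ∈ H := hD.1
  have h9 : ¬ 9 ∣ Nat.card H := C.not_nine_dvd hD.2 hne le_rfl
  set E := coreIn H with hE
  have hEinv : Inv k E := inv_coreIn hx
  have hEne : E ≠ ⊥ := fun e => hne (le_bot_iff.mp (e ▸ C.le_coreIn_normalizer hD))
  obtain ⟨hsq, hcomm⟩ := C.core_elem hsq0
  have hHE : H ≤ Subgroup.normalizer (E : Set G) := by
    calc H = (⊤ : Subgroup H).map H.subtype := by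
          rw [← MonoidHom.range_eq_map, Subgroup.range_subtype]
      _ ≤ (Subgroup.normalizer (core3 H : Set H)).map H.subtype := by
          rw [Subgroup.normalizer_eq_top]
      _ ≤ _ := Subgroup.le_normalizer_map _
  -- the kernel of `χ` is trivial
  obtain ⟨K, hKn, hK, -⟩ := exists_kernel hχ
  have hKbot : K = ⊥ := by
    refine (IsSimpleGroup.eq_bot_or_eq_top_of_normal K hKn).resolve_right fun e => ?_
    have := (hK k).mp (e ▸ Subgroup.mem_top k)
    rw [hk, h8] at this
    norm_num at this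
  have hfaith : ∀ g, χ g = χ 1 → g = 1 := fun g hg => Subgroup.mem_bot.mp (hKbot ▸ (hK g).mpr hg)
  have hclass := isClassFunction_of_isCharacter hχ
  obtain ⟨n, ρ, hρ⟩ := hχ
  have hn : n = 8 := by
    have := congrFun hρ 1
    rw [Representation.char_one, Module.finrank_fin_fun, h8] at this
    exact_mod_cast this
  have hcl : ∀ z, IsConj k z → ρ.character z = -1 := fun z hz => by
    obtain ⟨g, rfl⟩ := isConj_iff.mp hz
    rw [hρ, hclass, hk]
  have hfaithρ : ∀ g, ρ g = 1 → g = 1 := fun g hg => hfaith g (by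
    rw [← hρ]; simp only [Representation.character, hg, map_one])
  have hle8 : ∀ X : Subgroup G, Module.finrank ℂ (fix ρ X) ≤ 8 := fun X =>
    (Submodule.finrank_le _).trans (le_of_eq ((Module.finrank_fin_fun ℂ).trans hn))
  have hlt8 : ∀ X : Subgroup G, X ≠ ⊥ → Module.finrank ℂ (fix ρ X) < 8 := fun X hX => by
    refine lt_of_le_of_ne (hle8 X) fun e => hX ?_
    rw [Subgroup.eq_bot_iff_forall]
    intro x hx
    refine hfaithρ x (rho_eq_one_of_fix_eq_top ρ (Submodule.eq_top_of_finrank_eq ?_) hx)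
    rw [e, Module.finrank_fin_fun, hn]
  set L := E ⊔ Subgroup.zpowers k
  have hm := C.finrank_fix hEinv ρ hcl
  have hmlt := hlt8 E hEne
  obtain h0 | h1 : Module.finrank ℂ (fix ρ L) = 0 ∨ Module.finrank ℂ (fix ρ L) = 1 := by
    change _ = 3 * Module.finrank ℂ (fix ρ L) + 2 at hm
    omega
  · -- the fixed space of `E` has dimension two
    obtain ⟨M', hM', hM'H, hlt⟩ := C.exists_bigger hx h9 h60 hsimp
    have hm' := C.finrank_fix hM' ρ hcl
    have hsub := fix_anti ρ hlt.le
    have heq : fix ρ M' = fix ρ E := Submodule.eq_of_le_of_finrank_le hsub (by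
      change _ = 3 * Module.finrank ℂ (fix ρ L) + 2 at hm
      omega)
    have hinvar : ∀ h ∈ H, ∀ v ∈ fix ρ E, ρ h v ∈ fix ρ E := fun h hh v hv => by
      rw [mem_fix] at hv ⊢
      intro e he
      have he' : h⁻¹ * e * h ∈ E := (Subgroup.mem_normalizer_iff'.mp (hHE hh) (h⁻¹ * e)).mpr (by
        rwa [mul_inv_cancel_left])
      rw [← rho_mul, show e * h = h * (h⁻¹ * e * h) by group, rho_mul, hv _ he']
    let Kh : Subgroup H :=
      { carrier := {h | ∀ v ∈ fix ρ E, ρ (h : G) v = v}
        one_mem' := fun v _ => by rw [Subgroup.coe_one, map_one]; rfl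
        mul_mem' := fun {g g'} hg hg' v hv => by rw [Subgroup.coe_mul, rho_mul, hg' v hv, hg v hv]
        inv_mem' := fun {g} hg v hv => by
          conv_lhs => rw [← hg v hv]
          rw [← rho_mul, Subgroup.coe_inv, inv_mul_cancel, map_one]; rfl }
    haveI : Kh.Normal := ⟨fun g hg h v hv => by
      show ρ ((h : G) * g * (h : G)⁻¹) v = v
      rw [rho_mul, rho_mul, hg _ (hinvar _ (inv_mem h.2) v hv), ← rho_mul, mul_inv_cancel, map_one]
      rfl⟩
    haveI := hsimp
    have hOK : core3 H ≤ Kh := fun o ho v hv =>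
      (mem_fix ρ).mp hv _ (Subgroup.mem_map_of_mem H.subtype ho)
    obtain ⟨m, hm1, hm2⟩ := SetLike.exists_of_lt hlt
    have hmK : (⟨m, hM'H hm1⟩ : H) ∈ Kh := fun v hv => (mem_fix ρ).mp (heq.symm ▸ hv) m hm1
    have htop := eq_top_of_quotient (core3 H) Kh hOK hmK
      (fun hmO => hm2 (Subgroup.mem_map_of_mem H.subtype hmO))
    have hfix : fix ρ E ≤ fix ρ L := fun v hv => by
      refine (mem_fix ρ).mpr fun x hx' => ?_
      have hxH : x ∈ H := (sup_le (coreIn_le H) (Subgroup.zpowers_le.mpr hx)) hx'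
      exact (htop ▸ Subgroup.mem_top (⟨x, hxH⟩ : H) : (⟨x, hxH⟩ : H) ∈ Kh) v hv
    have := Submodule.finrank_mono hfix
    change _ = 3 * Module.finrank ℂ (fix ρ L) + 2 at hm
    omega
  · -- the fixed space of `E` has dimension five
    change _ = 3 * Module.finrank ℂ (fix ρ L) + 2 at hm
    rw [h1] at hm
    haveI : Fintype E := Fintype.ofFinite _
    have hval : ∀ e : E, e ≠ 1 → ρ.character (e : G) = 4 ∨ ρ.character (e : G) = 6 := by
      intro e he
      have he1 : (e : G) ≠ 1 := fun h => he (Subtype.ext h)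
      haveI : Fintype (Subgroup.zpowers (e : G)) := Fintype.ofFinite _
      have ho : orderOf (e : G) = 2 :=
        orderOf_eq_prime (by rw [pow_two]; exact hsq _ e.2) he1
      have hs := sum_fix ρ (Subgroup.zpowers (e : G))
      rw [Nat.card_zpowers, ho,
        ← Equiv.sum_comp (finEquivZPowers (isOfFinOrder_of_finite (e : G)))] at hs
      simp only [finEquivZPowers_apply] at hs
      rw [Fin.sum_univ_eq_sum_range (fun i => ρ.character ((e : G) ^ i)), ho] at hs
      simp only [Finset.sum_range_succ, Finset.sum_range_zero, zero_add, pow_zero, pow_one] at hs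
      rw [show ρ.character 1 = 8 from (congrFun hρ 1).trans h8] at hs
      have hle : fix ρ E ≤ fix ρ (Subgroup.zpowers (e : G)) :=
        fix_anti ρ (Subgroup.zpowers_le.mpr e.2)
      have h5 := Submodule.finrank_mono hle
      have h7 := hlt8 (Subgroup.zpowers (e : G)) (fun h => he1 (Subgroup.zpowers_eq_bot.mp h))
      set f := Module.finrank ℂ (fix ρ (Subgroup.zpowers (e : G))) with hf
      have hc : ρ.character (e : G) = 2 * (f : ℂ) - 8 := by
        push_cast at hs; linear_combination hs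
      rcases (show f = 5 ∨ f = 6 ∨ f = 7 by omega) with h | h | h
      · exfalso
        set e' := k * (e : G) * k⁻¹ with he'
        have he'E : e' ∈ E := hEinv.conj_mem e.2
        have hWeq : fix ρ E = fix ρ (Subgroup.zpowers (e : G)) :=
          Submodule.eq_of_le_of_finrank_le hle (by omega)
        have hW : ∀ v, v ∈ fix ρ E ↔ ρ (e : G) v = v := by
          intro v
          rw [hWeq]
          refine ⟨fun hv => (mem_fix ρ).mp hv _ (Subgroup.mem_zpowers _),
            fun hv => (mem_fix ρ).mpr fun x hx' => ?_⟩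
          obtain ⟨i, rfl⟩ := (IsOfFinOrder.mem_powers_iff_mem_zpowers
            (isOfFinOrder_of_finite (e : G))).mpr hx'
          induction i with
          | zero => simp
          | succ i ih =>
            show ρ ((e : G) ^ (i + 1)) v = v
            rw [pow_succ, rho_mul, hv]; exact ih (pow_mem (Subgroup.mem_zpowers _) i)
        have hkE : ∀ v, v ∈ fix ρ E ↔ ρ k⁻¹ v ∈ fix ρ E := fun v => by
          constructor
          · intro hv
            rw [mem_fix] at hv ⊢
            intro x hx'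
            rw [← rho_mul, show x * k⁻¹ = k⁻¹ * (k * x * k⁻¹) by group, rho_mul,
              hv _ (hEinv.conj_mem hx')]
          · intro hv
            rw [mem_fix] at hv ⊢
            intro x hx'
            have hx'' : k⁻¹ * x * k ∈ E := (Subgroup.mem_normalizer_iff'.mp hEinv.1 (k⁻¹ * x)).mpr (by
              rwa [mul_inv_cancel_left])
            have := congrArg (ρ k) (hv _ hx'')
            rw [← rho_mul ρ k (k⁻¹ * x * k), ← rho_mul ρ _ k⁻¹,
              show k * (k⁻¹ * x * k) * k⁻¹ = x by group, ← rho_mul ρ k k⁻¹, mul_inv_cancel,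
              map_one] at this
            exact this
        have hW' : ∀ v, v ∈ fix ρ E ↔ ρ e' v = v := fun v => by
          rw [hkE, hW, he', rho_mul, rho_mul]
          constructor
          · intro hv; rw [hv, ← rho_mul, mul_inv_cancel, map_one]; rfl
          · intro hv
            have := congrArg (ρ k⁻¹) hv
            rwa [← rho_mul, inv_mul_cancel, map_one] at this
        have heq := rho_eq_of_same_fix ρ (hsq _ e.2) (hsq _ he'E) (hcomm _ e.2 _ he'E) hW hW'
        have h11 : (e : G)⁻¹ * e' = 1 := hfaithρ _ (by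
          rw [map_mul, ← heq, ← map_mul, inv_mul_cancel, map_one])
        have hfix' : k * (e : G) * k⁻¹ = e := (inv_mul_eq_one.mp h11).symm
        exact he1 (C.eq_one_of_comm (C.hyp.exp k C.kmem) C.k1 (hEinv.not_dvd_orderOf e.2)
          (mul_inv_eq_iff_eq_mul.mp hfix').symm)
      · left; rw [hc, h]; norm_num
      · right; rw [hc, h]; norm_num
    set n6 := (Finset.univ.filter fun e : E => e ≠ 1 ∧ ρ.character (e : G) = 6).card
    set n4 := (Finset.univ.filter fun e : E => e ≠ 1 ∧ ρ.character (e : G) ≠ 6).card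
    have hsplit : ∀ F : ℂ → ℂ,
        ∑ e : E, F (ρ.character (e : G)) = F 8 + n6 * F 6 + n4 * F 4 := by
      intro F
      rw [← Finset.add_sum_erase _ _ (Finset.mem_univ (1 : E)), Subgroup.coe_one,
        show ρ.character 1 = 8 from (congrFun hρ 1).trans h8,
        ← Finset.sum_filter_add_sum_filter_not (Finset.univ.erase (1 : E))
          (fun e : E => ρ.character (e : G) = 6), add_assoc]
      congr 1
      have e1 : (Finset.univ.erase (1 : E)).filter (fun e : E => ρ.character (e : G) = 6) =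
          Finset.univ.filter fun e : E => e ≠ 1 ∧ ρ.character (e : G) = 6 := by
        ext; simp
      have e2 : (Finset.univ.erase (1 : E)).filter (fun e : E => ¬ ρ.character (e : G) = 6) =
          Finset.univ.filter fun e : E => e ≠ 1 ∧ ρ.character (e : G) ≠ 6 := by
        ext; simp
      have s6 : ∑ e ∈ (Finset.univ.filter fun e : E => e ≠ 1 ∧ ρ.character (e : G) = 6),
          F (ρ.character (e : G)) = (n6 : ℂ) * F 6 := by
        rw [Finset.sum_congr rfl (g := fun _ => F 6) fun e he => by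
          rw [(Finset.mem_filter.mp he).2.2], Finset.sum_const, nsmul_eq_mul]
      have s4 : ∑ e ∈ (Finset.univ.filter fun e : E => e ≠ 1 ∧ ρ.character (e : G) ≠ 6),
          F (ρ.character (e : G)) = (n4 : ℂ) * F 4 := by
        rw [Finset.sum_congr rfl (g := fun _ => F 4) fun e he => by
          rw [(hval e (Finset.mem_filter.mp he).2.1).resolve_right (Finset.mem_filter.mp he).2.2],
          Finset.sum_const, nsmul_eq_mul]
      rw [e1, e2, s6, s4]
    have hcard : 1 + n6 + n4 = Nat.card E := by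
      have := hsplit fun _ => 1
      simp only [Finset.sum_const, Finset.card_univ, nsmul_eq_mul, mul_one,
        Fintype.card_eq_nat_card] at this
      exact_mod_cast this.symm
    have h5 : 8 + n6 * 6 + n4 * 4 = Nat.card E * 5 := by
      have := hsplit fun z => z
      rw [sum_fix ρ E, hm] at this
      exact_mod_cast this.symm
    obtain ⟨i, hi⟩ := exists_int_classInner
      (isGeneralized_restrict E (isGeneralized_of_isCharacter ⟨n, ρ, rfl⟩))
      (isGeneralized_restrict E (isGeneralized_of_isCharacter ⟨n, ρ, rfl⟩))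
    have hsq' : (∑ e : E, ρ.character (e : G) * starRingEnd ℂ (ρ.character (e : G))) =
        ((64 + n6 * 36 + n4 * 16 : ℕ) : ℂ) := by
      rw [hsplit fun z => z * starRingEnd ℂ z]
      simp [map_ofNat]
      norm_num
    have hdvd : ((64 + n6 * 36 + n4 * 16 : ℕ) : ℤ) = (Nat.card E : ℤ) * i := by
      rw [classInner, inv_mul_eq_iff_eq_mul₀ (Nat.cast_ne_zero.mpr Nat.card_pos.ne'), hsq'] at hi
      exact_mod_cast hi
    have hd8 : Nat.card E ∣ 8 := by
      have : (Nat.card E : ℤ) ∣ ((8 : ℕ) : ℤ) := ⟨i - 26, by push_cast at hdvd ⊢; linarith⟩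
      exact_mod_cast this
    have hmod := C.card_mod hEinv
    have hne1 : Nat.card E ≠ 1 := fun e => hEne (Subgroup.card_eq_one.mp e)
    have hE4 : Nat.card E = 4 := by
      have := Nat.le_of_dvd (by norm_num) hd8
      interval_cases hh : Nat.card E <;> omega
    -- the quotient acts on a set of four elements
    haveI := hsimp
    let φ : H →* Equiv.Perm (core3 H) :=
      (MulAut.toPerm _).comp (MulAut.conjNormal (H := core3 H))
    have hO : Nat.card (core3 H) = 4 := by rw [← card_coreIn]; exact hE4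
    have hOφ : core3 H ≤ φ.ker := fun o ho => by
      refine MonoidHom.mem_ker.mpr (Equiv.ext fun x => Subtype.ext ?_)
      show o * (x : H) * o⁻¹ = x
      apply Subtype.ext
      show (o : G) * ((x : H) : G) * (o : G)⁻¹ = ((x : H) : G)
      rw [show (o : G) * ((x : H) : G) = ((x : H) : G) * (o : G) from
        hcomm _ (Subgroup.mem_map_of_mem H.subtype ho) _ (Subgroup.mem_map_of_mem H.subtype x.2),
        mul_inv_cancel_right]
    have hkφ : (⟨k, hx⟩ : H) ∉ φ.ker := fun hk' => by
      obtain ⟨⟨e, o, ho, rfl⟩, he1⟩ := Subgroup.ne_bot_iff_exists_ne_one.mp hEne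
      have h := congrArg (fun x : core3 H => ((x : H) : G))
        (Equiv.ext_iff.mp (MonoidHom.mem_ker.mp hk') ⟨o, ho⟩)
      change k * (o : G) * k⁻¹ = o at h
      exact he1 (Subtype.ext (C.eq_one_of_comm (C.hyp.exp k C.kmem) C.k1
        (hEinv.not_dvd_orderOf (Subgroup.mem_map_of_mem H.subtype ho))
        (mul_inv_eq_iff_eq_mul.mp h).symm))
    have hker : φ.ker = core3 H := by
      refine le_antisymm (fun g hg => ?_) hOφ
      by_contra hgO
      exact hkφ ((eq_top_of_quotient _ φ.ker hOφ hg hgO) ▸ Subgroup.mem_top _)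
    have h24 : (core3 H).index ∣ 24 := by
      rw [← hker, Subgroup.index_ker]
      refine (Subgroup.card_subgroup_dvd_card _).trans ?_
      rw [Nat.card_perm, hO]; rfl
    rw [h60] at h24
    norm_num at h24

end Ctx

end CfsgLib.NineOneClass
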