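import Cfsg.Agent.Lib.NineOneClass.Intersect

/-!
The action of the normalizer of `⟨k⟩` on the maximal invariant subgroups.
-/

set_option autoImplicit false
set_option linter.unusedVariables false
set_option linter.style.haveILetI false

namespace CfsgLib.NineOneClass

open CfsgLib.SelfCent CfsgLib.SCThree

universe u

variable {G : Type u} [Group G] [Finite G] {P : Sylow 3 G} {R : Subgroup G} {k t : G} {q a b : ℕ}

/-- `g` normalizes the subgroup generated by `k`. -/
def NK (k g : G) : Prop := g * k * g⁻¹ = k ∨ g * k * g⁻¹ = k⁻¹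

theorem NK.mul {k g g' : G} (h : NK k g) (h' : NK k g') : NK k (g * g') := by
  have e : g * g' * k * (g * g')⁻¹ = g * (g' * k * g'⁻¹) * g⁻¹ := by group
  have ei : g * k⁻¹ * g⁻¹ = (g * k * g⁻¹)⁻¹ := by group
  rw [NK, e]
  rcases h' with h' | h' <;> rw [h']
  · exact h
  · rcases h with h | h <;> rw [ei, h]
    · exact Or.inr rfl
    · exact Or.inl (inv_inv k)

theorem NK.inv {k g : G} (h : NK k g) : NK k g⁻¹ := by
  rcases h with h | h
  · left
    calc g⁻¹ * k * g⁻¹⁻¹ = g⁻¹ * (g * k * g⁻¹) * g⁻¹⁻¹ := by rw [h]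
      _ = k := by group
  · right
    calc g⁻¹ * k * g⁻¹⁻¹ = g⁻¹ * (g * k * g⁻¹)⁻¹ * g := by rw [h, inv_inv, inv_inv]
      _ = _ := by group

namespace Ctx

theorem NK_of_mem (C : Ctx P R k t q a b) {u : G} (hu : u ∈ R) : NK k u :=
  Or.inl (by rw [C.hyp.comm u hu k C.kmem, mul_inv_cancel_right])

theorem NK_t (C : Ctx P R k t q a b) : NK k t := Or.inr (C.tinv k C.kmem)

theorem inv_cj (C : Ctx P R k t q a b) {g : G} (hg : NK k g) {M : Subgroup G} (hM : Inv k M) :
    Inv k (cj g M) := by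
  refine ⟨?_, by rw [card_cj]; exact hM.2⟩
  rw [mem_normalizer_cj]
  rcases hg.inv with e | e <;> rw [inv_inv] at e <;> rw [e]
  · exact hM.1
  · exact inv_mem hM.1

theorem isMax_cj (C : Ctx P R k t q a b) {g : G} (hg : NK k g) {M : Subgroup G} (hM : IsMax k M) :
    IsMax k (cj g M) := by
  refine ⟨C.inv_cj hg hM.1, fun e => hM.2.1 ?_, fun M' hM' hle => ?_⟩
  · rwa [Subgroup.map_eq_bot_iff_of_injective _ (MulAut.conj g).injective] at e
  · have h2 := hM.2.2 (cj g⁻¹ M') (C.inv_cj hg.inv hM') (by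
      have := Subgroup.map_mono (f := (MulAut.conj g⁻¹).toMonoidHom) hle
      rwa [show Subgroup.map (MulAut.conj g⁻¹).toMonoidHom (cj g M) = M by
        rw [← cj, cj_cj, inv_mul_cancel, cj_one]] at this)
    rw [← h2, cj_cj, mul_inv_cancel, cj_one]

/-- An element of `R` fixing a maximal subgroup is a power of `k`. -/
theorem mem_zpowers_of_fix (C : Ctx P R k t q a b) {M : Subgroup G} (hM : IsMax k M) {u : G}
    (hu : u ∈ R) (hfix : u ∈ Subgroup.normalizer (M : Set G)) : u ∈ Subgroup.zpowers k := by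
  by_contra hc
  haveI : Fact (Nat.Prime 3) := ⟨Nat.prime_three⟩
  let W : Subgroup G := R ⊓ Subgroup.normalizer (M : Set G)
  have hkW : Subgroup.zpowers k ≤ W :=
    Subgroup.zpowers_le.mpr ⟨C.kmem, hM.1.1⟩
  have hWR : W = R := by
    have h1 : Nat.card W ∣ 3 ^ 2 := (show (9 : ℕ) = 3 ^ 2 from rfl) ▸ C.hyp.card ▸
      Subgroup.card_dvd_of_le inf_le_left
    have h3 := Subgroup.card_dvd_of_le hkW
    rw [Nat.card_zpowers, C.orderOf_eq C.kmem C.k1] at h3
    obtain ⟨i, hi, e⟩ := (Nat.dvd_prime_pow Nat.prime_three).mp h1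
    rw [e] at h3
    interval_cases i
    · norm_num at h3
    · exfalso
      have heq : Subgroup.zpowers k = W := Subgroup.eq_of_le_of_card_ge hkW (by
        rw [e, Nat.card_zpowers, C.orderOf_eq C.kmem C.k1]; norm_num)
      exact hc (heq ▸ (⟨hu, hfix⟩ : u ∈ W))
    · exact Subgroup.eq_of_le_of_card_ge inf_le_left (by rw [e, C.hyp.card]; norm_num)
  exact hM.2.1 (C.eq_bot_of_invariant hM.1.2 fun v hv => (hWR.symm ▸ hv : v ∈ W).2)

theorem fix_zpowers (C : Ctx P R k t q a b) {M : Subgroup G} (hM : IsMax k M) {u : G}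
    (hu : u ∈ Subgroup.zpowers k) : cj u M = M :=
  cj_eq_of_mem (Subgroup.zpowers_le.mpr hM.1.1 hu)

/-- With normalizer of order six times `M`, an element inverting `k` fixes `M`. -/
theorem six_fixed (C : Ctx P R k t q a b) {M : Subgroup G} (hM : IsMax k M)
    (h6 : Nat.card (Subgroup.normalizer (M : Set G)) = 6 * Nat.card M) :
    ∃ g, g ∈ Subgroup.normalizer (M : Set G) ∧ g * k * g⁻¹ = k⁻¹ := by
  set H := Subgroup.normalizer (M : Set G) with hH
  have hx : k ∈ H := hM.1.1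
  have hxs := C.sc_subgroup hx (C.not_nine_dvd hM.1.2 hM.2.1 le_rfl)
  have hm := C.card_mod hM.1
  by_contra hne
  push Not at hne
  have hN : nzr (⟨k, hx⟩ : H) = Subgroup.zpowers ⟨k, hx⟩ := by
    refine le_antisymm ?_ self_le_nzr
    rintro ⟨c, hc⟩ han
    rcases mem_zpowers_cases hxs ((mem_nzr_iff hxs).mp han) with e | e | e
    · exact absurd (conj_eq_one_iff.mp e) hxs.ne_one
    · exact comm_mem_zpowers hxs (mul_inv_eq_iff_eq_mul.mp e)
    · exact absurd (congrArg Subtype.val e) (hne c hc)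
  haveI : Fact (Nat.Prime 3) := ⟨Nat.prime_three⟩
  obtain ⟨Q, hQ⟩ := CfsgLib.SelfCent.exists_sylow hxs
  have h1 := card_sylow_modEq_one 3 H
  have hQ' : ((Q : Set H)) = ((Subgroup.zpowers (⟨k, hx⟩ : H) : Subgroup H) : Set H) := by
    rw [← hQ]; rfl
  rw [Sylow.card_eq_index_normalizer Q, hQ'] at h1
  have h2 := Subgroup.card_mul_index (nzr (⟨k, hx⟩ : H))
  rw [hN, hxs.card_P, h6] at h2
  unfold nzr at hN
  rw [hN] at h1
  have : (Subgroup.zpowers (⟨k, hx⟩ : H)).index = 2 * Nat.card M := by omega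
  rw [this, Nat.ModEq] at h1
  omega

/-- With normalizer of order three times `M`, no element inverting `k` fixes `M`. -/
theorem not_fixed_of_three (C : Ctx P R k t q a b) {M : Subgroup G} (hM : IsMax k M)
    (h3 : Nat.card (Subgroup.normalizer (M : Set G)) = 3 * Nat.card M) {g : G}
    (hg : g ∈ Subgroup.normalizer (M : Set G)) : g * k * g⁻¹ ≠ k⁻¹ := by
  intro e
  set H := Subgroup.normalizer (M : Set G) with hH
  have hx : k ∈ H := hM.1.1
  have hxs := C.sc_subgroup hx (C.not_nine_dvd hM.1.2 hM.2.1 le_rfl)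
  have hqs := hxs.quotient _ (not_three_dvd_core3 (G := H))
  set f := QuotientGroup.mk' (core3 H)
  have hc : Nat.card (H ⧸ core3 H) = 3 := by
    have h1 := card_coreIn_mul H
    rw [(C.normalizer_max hM).1, h3, Subgroup.index_eq_card, mul_comm 3] at h1
    exact Nat.eq_of_mul_eq_mul_left Nat.card_pos h1
  haveI : Fact (Nat.Prime 3) := ⟨Nat.prime_three⟩
  haveI : IsCyclic (H ⧸ core3 H) := isCyclic_of_prime_card hc
  letI := IsCyclic.commGroup (α := H ⧸ core3 H)
  have e' : f ⟨g, hg⟩ * f ⟨k, hx⟩ * (f ⟨g, hg⟩)⁻¹ = (f ⟨k, hx⟩)⁻¹ := by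
    rw [← map_inv, ← map_inv, ← map_mul, ← map_mul]
    exact congrArg f (Subtype.ext e)
  rw [mul_comm (f ⟨g, hg⟩), mul_inv_cancel_right] at e'
  have e2 : f ⟨k, hx⟩ ^ 2 = 1 := by rw [pow_two]; nth_rw 1 [e']; exact inv_mul_cancel _
  have := orderOf_dvd_of_pow_eq_one e2
  rw [show orderOf (f ⟨k, hx⟩) = 3 from hqs.2.1] at this
  norm_num at this

/-- The conjugates of `M` under the normalizer of `⟨k⟩`. -/
noncomputable def orb (k : G) (M : Subgroup G) : Finset (Subgroup G) :=
  (Set.toFinite {N : Subgroup G | ∃ g, NK k g ∧ cj g M = N}).toFinset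

omit [Finite G] in
theorem mem_orb [Finite G] {M N : Subgroup G} : N ∈ orb k M ↔ ∃ g, NK k g ∧ cj g M = N := by
  simp [orb]

theorem card_orb (C : Ctx P R k t q a b) {M : Subgroup G} (hM : IsMax k M) :
    (Nat.card (Subgroup.normalizer (M : Set G)) = 3 * Nat.card M → (orb k M).card = 6) ∧
      (Nat.card (Subgroup.normalizer (M : Set G)) = 6 * Nat.card M → (orb k M).card = 3) := by
  classical
  letI := Fintype.ofFinite G
  letI : Fintype R := Fintype.ofFinite _
  let A : Finset (Subgroup G) := Finset.univ.image (fun u : R => cj (u : G) M)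
  have hfib : ∀ N ∈ A, ((Finset.univ : Finset R).filter fun u : R => cj (u : G) M = N).card = 3 := by
    intro N hN
    obtain ⟨⟨v, hv⟩, -, rfl⟩ := Finset.mem_image.mp hN
    rw [← Nat.card_eq_finsetCard]
    have : Nat.card (Subgroup.zpowers k) = 3 := by
      rw [Nat.card_zpowers, C.orderOf_eq C.kmem C.k1]
    rw [← this]
    refine Nat.card_congr
      ⟨fun u => ⟨v⁻¹ * (u.1 : G), ?_⟩,
        fun w => ⟨⟨v * (w : G), mul_mem hv (Subgroup.zpowers_le.mpr C.kmem w.2)⟩, ?_⟩,
        fun u => ?_, fun w => ?_⟩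
    · have hu := (Finset.mem_filter.mp u.2).2
      refine C.mem_zpowers_of_fix hM (mul_mem (inv_mem hv) u.1.2) ?_
      rw [Subgroup.mem_normalizer_iff_map_conj_eq]
      show cj (v⁻¹ * (u.1 : G)) M = M
      rw [← cj_cj, hu, cj_cj, inv_mul_cancel, cj_one]
    · refine Finset.mem_filter.mpr ⟨Finset.mem_univ _, ?_⟩
      show cj (v * (w : G)) M = cj v M
      rw [← cj_cj, C.fix_zpowers hM w.2]
    · exact Subtype.ext (Subtype.ext (mul_inv_cancel_left v _))
    · exact Subtype.ext (inv_mul_cancel_left v _)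
  have hA : A.card = 3 := by
    have e := Finset.card_eq_sum_card_image (fun u : R => cj (u : G) M) Finset.univ
    rw [Finset.card_univ, ← Nat.card_eq_fintype_card, C.hyp.card, Finset.sum_congr rfl hfib,
      Finset.sum_const, smul_eq_mul] at e
    change 9 = A.card * 3 at e
    omega
  let B : Finset (Subgroup G) := A.image (cj t)
  have hBc : B.card = 3 := by
    rw [← hA]
    exact Finset.card_image_of_injective _ (Subgroup.map_injective (MulAut.conj t).injective)
  have hun : orb k M = A ∪ B := by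
    ext N
    rw [mem_orb]
    constructor
    · rintro ⟨g, hg, rfl⟩
      rcases C.mem_or_inverts hg with h | h
      · exact Finset.mem_union_left _ (Finset.mem_image.mpr ⟨⟨g, h⟩, Finset.mem_univ _, rfl⟩)
      · refine Finset.mem_union_right _ (Finset.mem_image.mpr
          ⟨cj (t⁻¹ * g) M, Finset.mem_image.mpr ⟨⟨_, h⟩, Finset.mem_univ _, rfl⟩, ?_⟩)
        rw [cj_cj, mul_inv_cancel_left]
    · intro h
      rcases Finset.mem_union.mp h with h | h
      · obtain ⟨u, -, rfl⟩ := Finset.mem_image.mp h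
        exact ⟨u, C.NK_of_mem u.2, rfl⟩
      · obtain ⟨N', hN', rfl⟩ := Finset.mem_image.mp h
        obtain ⟨u, -, rfl⟩ := Finset.mem_image.mp hN'
        exact ⟨t * u, C.NK_t.mul (C.NK_of_mem u.2), (cj_cj t u M).symm⟩
  constructor
  · intro h3
    rw [hun, Finset.card_union_of_disjoint ?_, hA, hBc]
    rw [Finset.disjoint_left]
    intro N hNA hNB
    obtain ⟨u, -, rfl⟩ := Finset.mem_image.mp hNA
    obtain ⟨N', hN', he⟩ := Finset.mem_image.mp hNB
    obtain ⟨v, -, rfl⟩ := Finset.mem_image.mp hN'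
    rw [cj_cj] at he
    set g := (u : G)⁻¹ * (t * v)
    have hg : g ∈ Subgroup.normalizer (M : Set G) := by
      rw [Subgroup.mem_normalizer_iff_map_conj_eq]
      show cj ((u : G)⁻¹ * (t * v)) M = M
      rw [← cj_cj, he, cj_cj, inv_mul_cancel, cj_one]
    refine C.not_fixed_of_three hM h3 hg ?_
    have hv := C.hyp.comm v v.2 k C.kmem
    have hu := C.hyp.comm u u.2 k⁻¹ (inv_mem C.kmem)
    calc g * k * g⁻¹ = (u : G)⁻¹ * (t * ((v : G) * k) * (v : G)⁻¹ * t⁻¹) * u := by
          simp only [g]; group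
      _ = (u : G)⁻¹ * (t * k * t⁻¹) * u := by rw [hv]; group
      _ = (u : G)⁻¹ * (k⁻¹ * u) := by rw [C.tinv k C.kmem]; group
      _ = (u : G)⁻¹ * ((u : G) * k⁻¹) := by rw [hu]
      _ = k⁻¹ := inv_mul_cancel_left _ _
  · intro h6
    obtain ⟨g, hg, hgk⟩ := C.six_fixed hM h6
    have hBA : B ⊆ A := by
      intro N hN
      obtain ⟨N', hN', rfl⟩ := Finset.mem_image.mp hN
      obtain ⟨v, -, rfl⟩ := Finset.mem_image.mp hN'
      rw [cj_cj]
      have hnk : NK k (t * (v : G) * g) :=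
        (C.NK_t.mul (C.NK_of_mem v.2)).mul (Or.inr hgk)
      have hin : t * (v : G) * g ∈ R := by
        refine (SetLike.ext_iff.mp (C.hyp.cent k C.kmem C.k1) _).mp ?_
        rw [Subgroup.mem_centralizer_singleton_iff]
        have hv := C.hyp.comm v v.2 k⁻¹ (inv_mem C.kmem)
        calc t * (v : G) * g * k = t * ((v : G) * (g * k * g⁻¹)) * g := by group
          _ = t * (k⁻¹ * v) * g := by rw [hgk, hv]
          _ = (t * k * t⁻¹)⁻¹ * (t * (v : G) * g) := by group
          _ = k * (t * (v : G) * g) := by rw [C.tinv k C.kmem, inv_inv]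
      refine Finset.mem_image.mpr ⟨⟨_, hin⟩, Finset.mem_univ _, ?_⟩
      show cj (t * (v : G) * g) M = cj (t * (v : G)) M
      rw [← cj_cj (t * (v : G)), cj_eq_of_mem hg]
    rw [hun, Finset.union_eq_left.mpr hBA, hA]

/-- Maximal subgroups with conjugate parts lie in one orbit. -/
theorem related (C : Ctx P R k t q a b) {p : ℕ} [Fact p.Prime] {M M' : Subgroup G} (hM : IsMax k M)
    (hM' : IsMax k M') (hp : p ∣ Nat.card M) (hp' : p ∣ Nat.card M') {g : G}
    (he : part p M' = cj g (part p M)) : M' ∈ orb k M := by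
  have hN : ∀ z : G, z ∈ Subgroup.normalizer (M' : Set G) ↔
      g⁻¹ * z * g ∈ Subgroup.normalizer (M : Set G) := fun z => by
    rw [← C.normalizer_part p hM' hp', ← C.normalizer_part p hM hp, he, mem_normalizer_cj]
  have hMM' : cj g M = M' := by
    refine le_antisymm ?_ ?_
    · conv_rhs => rw [← (C.normalizer_max hM').1]
      refine le_coreIn ?_ ?_ (by rw [card_cj]; exact hM.1.2)
      · intro z hz
        exact (hN z).mpr (Subgroup.le_normalizer (mem_cj.mp hz))
      · intro z hz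
        exact mem_normalizer_cj.mpr ((hN z).mp hz)
    · have h2 : cj g⁻¹ M' ≤ M := by
        conv_rhs => rw [← (C.normalizer_max hM).1]
        refine le_coreIn ?_ ?_ (by rw [card_cj]; exact hM'.1.2)
        · intro z hz
          have := (hN _).mp (Subgroup.le_normalizer (mem_cj.mp hz))
          simpa [mul_assoc] using this
        · intro z hz
          refine mem_normalizer_cj.mpr ((hN _).mpr ?_)
          simpa [mul_assoc] using hz
      have := Subgroup.map_mono (f := (MulAut.conj g).toMonoidHom) h2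
      rwa [show Subgroup.map (MulAut.conj g).toMonoidHom (cj g⁻¹ M') = M' by
        rw [← cj, cj_cj, mul_inv_cancel, cj_one]] at this
  set H := Subgroup.normalizer (M' : Set G) with hH
  have hx : k ∈ H := hM'.1.1
  have hgx : g * k * g⁻¹ ∈ H := by
    rw [hN]; simpa [mul_assoc] using hM.1.1
  have hz3 : orderOf (g * k * g⁻¹) = 3 := by
    rw [← C.orderOf_eq C.kmem C.k1, ← MulAut.conj_apply, MulEquiv.orderOf_eq]
  have hxs := C.sc_subgroup hx (C.not_nine_dvd hM'.1.2 hM'.2.1 le_rfl)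
  obtain ⟨⟨n, hn⟩, hne⟩ := card_P_mem_conj hxs (H := Subgroup.zpowers (⟨g * k * g⁻¹, hgx⟩ : H))
    (by rw [Nat.card_zpowers, ← Subgroup.orderOf_coe]; exact hz3)
  have hmem : n * k * n⁻¹ ∈ Subgroup.zpowers (g * k * g⁻¹) := by
    have h1 : (⟨n, hn⟩ * ⟨k, hx⟩ * ⟨n, hn⟩⁻¹ : H) ∈
        Subgroup.zpowers (⟨g * k * g⁻¹, hgx⟩ : H) := by
      rw [← hne]; exact ⟨⟨k, hx⟩, Subgroup.mem_zpowers _, rfl⟩
    obtain ⟨j, hj⟩ := Subgroup.mem_zpowers_iff.mp h1
    exact Subgroup.mem_zpowers_iff.mpr ⟨j, congrArg Subtype.val hj⟩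
  set g' := n⁻¹ * g with hg'
  have hg'x : g'⁻¹ * k * g' ∈ Subgroup.zpowers k := by
    obtain ⟨j, hj⟩ := Subgroup.mem_zpowers_iff.mp hmem
    rw [conj_zpow] at hj
    refine Subgroup.mem_zpowers_iff.mpr ⟨j, ?_⟩
    calc k ^ j = g⁻¹ * (g * k ^ j * g⁻¹) * g := by group
      _ = g⁻¹ * (n * k * n⁻¹) * g := by rw [hj]
      _ = _ := by rw [hg']; group
  have hnk : NK k g'⁻¹ := by
    rw [← mem_powers_iff_mem_zpowers, Submonoid.mem_powers_iff] at hg'x
    obtain ⟨j, hj⟩ := hg'x
    have ho : orderOf (g'⁻¹ * k * g'⁻¹⁻¹) = 3 := by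
      rw [← C.orderOf_eq C.kmem C.k1, ← MulAut.conj_apply, MulEquiv.orderOf_eq]
    rw [inv_inv] at ho
    rw [← pow_mod_orderOf, C.orderOf_eq C.kmem C.k1] at hj
    have hlt : j % 3 < 3 := Nat.mod_lt _ (by norm_num)
    unfold NK
    rw [inv_inv]
    interval_cases hjj : j % 3
    · rw [pow_zero] at hj
      rw [← hj, orderOf_one] at ho
      norm_num at ho
    · exact Or.inl (by rw [← hj, pow_one])
    · exact Or.inr (by rw [← hj, pow_two, C.inv_eq C.kmem])
  refine mem_orb.mpr ⟨g', ?_, ?_⟩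
  · have := hnk.inv
    rwa [inv_inv] at this
  · rw [hg', ← cj_cj, hMM', cj_eq_of_mem (inv_mem hn)]

end Ctx

end CfsgLib.NineOneClass
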