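import Cfsg.Agent.Lib.NineOneClass.Orbits
import Cfsg.Agent.Lib.SmallOrder.Exclude

/-!
The two parts of a maximal invariant subgroup.
-/

set_option autoImplicit false
set_option linter.unusedVariables false
set_option linter.style.haveILetI false

namespace CfsgLib.NineOneClass

open CfsgLib.SelfCent CfsgLib.SCThree

universe u

variable {G : Type u} [Group G] [Finite G] {P : Sylow 3 G} {R : Subgroup G} {k t : G} {q a b : ℕ}

namespace Ctx

theorem fact_two (C : Ctx P R k t q a b) : (Nat.card G).factorization 2 = a := by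
  have hq2 : ¬ 2 ∣ q := fun h => by
    have := (Nat.prime_dvd_prime_iff_eq Nat.prime_two C.hq).mp h
    have := C.hq5
    omega
  have hq0 := C.hq.ne_zero
  rw [C.card, Nat.factorization_mul (by norm_num) (by positivity), Finsupp.add_apply,
    Nat.factorization_eq_zero_of_not_dvd (by norm_num : ¬ 2 ∣ 9),
    Nat.factorization_mul (by positivity) (pow_ne_zero _ hq0), Finsupp.add_apply,
    Nat.prime_two.factorization_pow, Finsupp.single_eq_same,
    Nat.factorization_eq_zero_of_not_dvd (fun h => hq2 (Nat.prime_two.dvd_of_dvd_pow h)), zero_add,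
    add_zero]

theorem fact_q (C : Ctx P R k t q a b) : (Nat.card G).factorization q = b := by
  have h5 := C.hq5
  have hq9 : ¬ q ∣ 9 := fun h => by
    have := (Nat.prime_dvd_prime_iff_eq C.hq Nat.prime_three).mp
      (C.hq.dvd_of_dvd_pow (show q ∣ 3 ^ 2 by simpa using h))
    omega
  have hq2 : ¬ q ∣ 2 ^ a := fun h => by
    have := (Nat.prime_dvd_prime_iff_eq C.hq Nat.prime_two).mp (C.hq.dvd_of_dvd_pow h)
    omega
  have hq0 := C.hq.ne_zero
  rw [C.card, Nat.factorization_mul (by norm_num) (by positivity), Finsupp.add_apply,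
    Nat.factorization_eq_zero_of_not_dvd hq9,
    Nat.factorization_mul (by positivity) (pow_ne_zero _ hq0), Finsupp.add_apply,
    Nat.factorization_eq_zero_of_not_dvd hq2, C.hq.factorization_pow, Finsupp.single_eq_same,
    zero_add, zero_add]

theorem card_sylow_two (C : Ctx P R k t q a b) (S : Sylow 2 G) :
    Nat.card (S : Subgroup G) = 2 ^ a := by
  haveI : Fact (Nat.Prime 2) := ⟨Nat.prime_two⟩
  rw [S.card_eq_multiplicity, C.fact_two]

theorem index_ne_three (C : Ctx P R k t q a b) {H : Subgroup G} (hH : H ≠ ⊤) : H.index ≠ 3 := by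
  intro e
  haveI := C.simple
  have hd := CfsgLib.SmallOrder.two_mul_card_dvd_factorial C.nonab hH
  rw [e] at hd
  have := Nat.le_of_dvd (Nat.factorial_pos 3) hd
  have h9 : 9 ∣ Nat.card G := C.card ▸ dvd_mul_right 9 _
  have := Nat.le_of_dvd Nat.card_pos h9
  norm_num [Nat.factorial] at *
  omega

/-- The order of a maximal subgroup, part by part. -/
theorem card_eq_parts (C : Ctx P R k t q a b) [Fact q.Prime] {M : Subgroup G} (hM : Inv k M) :
    Nat.card M = Nat.card (part 2 M) * Nat.card (part q M) := by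
  haveI : Fact (Nat.Prime 2) := ⟨Nat.prime_two⟩
  have hne : (2 : ℕ) ≠ q := by have := C.hq5; omega
  rw [card_part, card_part]
  refine Nat.eq_of_factorization_eq Nat.card_pos.ne' (by have := C.hq.ne_zero; positivity) fun p => ?_
  rw [Nat.factorization_mul (by positivity) (pow_ne_zero _ C.hq.ne_zero), Finsupp.add_apply,
    Nat.prime_two.factorization_pow, C.hq.factorization_pow]
  by_cases h2 : p = 2
  · subst h2; rw [Finsupp.single_eq_same, Finsupp.single_eq_of_ne hne, add_zero]
  by_cases hq : p = q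
  · subst hq; rw [Finsupp.single_eq_same, Finsupp.single_eq_of_ne h2, zero_add]
  rw [Finsupp.single_eq_of_ne h2, Finsupp.single_eq_of_ne hq, add_zero]
  by_cases hp : p.Prime
  · refine Nat.factorization_eq_zero_of_not_dvd fun hd => ?_
    rcases C.dvd_card_of_prime hp (hd.trans (Subgroup.card_subgroup_dvd_card M)) with e | e | e
    · exact h2 e
    · exact hM.2 (e ▸ hd)
    · exact hq e
  · exact Nat.factorization_eq_zero_of_not_prime _ hp

/-- A `q`-part is a full Sylow subgroup. -/
theorem part_q_full (C : Ctx P R k t q a b) [Fact q.Prime] {M : Subgroup G} (hM : IsMax k M)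
    (hd : q ∣ Nat.card M) : ∃ Q : Sylow q G, (Q : Subgroup G) = part q M := by
  obtain ⟨Q, hQ⟩ := (isPGroup_part q M).exists_le_sylow
  refine ⟨Q, le_antisymm ?_ hQ⟩
  haveI : Group.IsNilpotent (Q : Subgroup G) := Q.isPGroup'.isNilpotent
  by_contra hne
  have hlt : (part q M).subgroupOf Q < ⊤ := lt_top_iff_ne_top.mpr fun e =>
    hne (Subgroup.subgroupOf_eq_top.mp e)
  obtain ⟨x, hx, hxn⟩ := SetLike.exists_of_lt (Group.normalizerCondition_of_isNilpotent _ hlt)
  apply hxn
  set T := (Q : Subgroup G) ⊓ Subgroup.normalizer (part q M : Set G)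
  have hxT : (x : G) ∈ T := by
    refine Subgroup.mem_inf.mpr ⟨x.2, ?_⟩
    rw [Subgroup.mem_normalizer_iff]
    have h1 := Subgroup.mem_normalizer_iff.mp hx
    intro z
    constructor
    · intro hz; exact (h1 ⟨z, hQ hz⟩).mp hz
    · intro hz
      have hzQ : z ∈ (Q : Subgroup G) := by
        have := mul_mem (mul_mem (inv_mem x.2) (hQ hz)) x.2
        simpa [mul_assoc] using this
      exact (h1 ⟨z, hzQ⟩).mpr hz
  have hle : part q M ≤ T := le_inf hQ Subgroup.le_normalizer
  have hTe : part q M = T := by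
    refine Subgroup.eq_of_le_of_card_ge hle ?_
    obtain ⟨j, hj⟩ := IsPGroup.iff_card.mp (Q.isPGroup'.to_le (inf_le_left : T ≤ Q))
    have hdv := Subgroup.card_dvd_of_le (inf_le_right : T ≤ Subgroup.normalizer (part q M : Set G))
    rw [hj, C.normalizer_part q hM hd] at hdv
    rw [hj, card_part]
    refine Nat.pow_le_pow_right C.hq.pos
      ((Nat.Prime.pow_dvd_iff_le_factorization C.hq Nat.card_pos.ne').mp ?_)
    have h6 : q ^ j ∣ 6 * Nat.card M := by
      rcases (C.normalizer_max hM).2 with e | e <;> rw [e] at hdv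
      · exact hdv.trans ⟨2, by ring⟩
      · exact hdv
    refine (Nat.Coprime.pow_left j ?_).dvd_of_dvd_mul_left h6
    have h5 := C.hq5
    rw [show (6 : ℕ) = 2 * 3 from rfl]
    exact ((Nat.coprime_primes C.hq Nat.prime_two).mpr (by omega)).mul_right
      ((Nat.coprime_primes C.hq Nat.prime_three).mpr (by omega))
  exact Subgroup.mem_subgroupOf.mpr (hTe ▸ hxT)

theorem card_part_q (C : Ctx P R k t q a b) [Fact q.Prime] {M : Subgroup G} (hM : IsMax k M)
    (hd : q ∣ Nat.card M) : Nat.card (part q M) = q ^ b := by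
  obtain ⟨Q, hQ⟩ := C.part_q_full hM hd
  rw [← hQ, Q.card_eq_multiplicity, C.fact_q]

theorem related_q (C : Ctx P R k t q a b) [Fact q.Prime] {M M' : Subgroup G} (hM : IsMax k M)
    (hM' : IsMax k M') (hd : q ∣ Nat.card M) (hd' : q ∣ Nat.card M') : M' ∈ orb k M := by
  obtain ⟨Q, hQ⟩ := C.part_q_full hM hd
  obtain ⟨Q', hQ'⟩ := C.part_q_full hM' hd'
  obtain ⟨g, hg⟩ := MulAction.exists_smul_eq G Q Q'
  refine C.related hM hM' hd hd' (g := g) ?_
  rw [← hQ', ← hQ, ← hg]
  rfl

theorem pow_mod_q (C : Ctx P R k t q a b) [Fact q.Prime] {M : Subgroup G} (hM : IsMax k M)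
    (hd : q ∣ Nat.card M) : q ^ b % 3 = 1 := by
  rw [← C.card_part_q hM hd]
  exact C.card_mod (C.inv_part q hM.1)

/-- The Sylow bound on `q`. -/
theorem q_lt_index (C : Ctx P R k t q a b) [Fact q.Prime] {M : Subgroup G} (hM : IsMax k M)
    (hd : q ∣ Nat.card M) : q < (Subgroup.normalizer (M : Set G)).index := by
  obtain ⟨Q, hQ⟩ := C.part_q_full hM hd
  have h1 := card_sylow_modEq_one q G
  rw [Q.card_eq_index_normalizer] at h1
  change (Subgroup.normalizer ((Q : Subgroup G) : Set G)).index ≡ 1 [MOD q] at h1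
  rw [hQ, C.normalizer_part q hM hd] at h1
  set i := (Subgroup.normalizer (M : Set G)).index
  have hi : i ≠ 1 := fun e =>
    C.normalizer_ne_top hM.1 hM.2.1 (Subgroup.index_eq_one.mp e)
  have hi0 : i ≠ 0 := Subgroup.index_ne_zero_of_finite
  by_contra hle
  push Not at hle
  rw [Nat.ModEq, Nat.mod_eq_of_lt C.hq.one_lt] at h1
  rcases hle.lt_or_eq with hlt | heq
  · rw [Nat.mod_eq_of_lt hlt] at h1; exact hi h1
  · rw [heq, Nat.mod_self] at h1; omega

theorem not_two_dvd_pow_q (C : Ctx P R k t q a b) (n : ℕ) : ¬ 2 ∣ q ^ n := fun h => by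
  have := (Nat.prime_dvd_prime_iff_eq Nat.prime_two C.hq).mp (Nat.prime_two.dvd_of_dvd_pow h)
  have := C.hq5
  omega

/-- An odd maximal subgroup is a Sylow `q`-subgroup. -/
theorem card_odd (C : Ctx P R k t q a b) [Fact q.Prime] {M : Subgroup G} (hM : IsMax k M)
    (hodd : ¬ 2 ∣ Nat.card M) : q ∣ Nat.card M ∧ Nat.card M = q ^ b := by
  haveI : Fact (Nat.Prime 2) := ⟨Nat.prime_two⟩
  have h := C.card_eq_parts hM.1
  have h2 : Nat.card (part 2 M) = 1 := by
    rw [card_part, Nat.factorization_eq_zero_of_not_dvd hodd, pow_zero]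
  rw [h2, one_mul] at h
  have hd : q ∣ Nat.card M := by
    by_contra hd
    rw [card_part, Nat.factorization_eq_zero_of_not_dvd hd, pow_zero] at h
    exact hM.2.1 (Subgroup.card_eq_one.mp h)
  exact ⟨hd, h.trans (C.card_part_q hM hd)⟩

/-- A large even part: the maximal subgroup is a `2`-group and its index is forced. -/
theorem big_part (C : Ctx P R k t q a b) [Fact q.Prime] {M : Subgroup G} (hM : IsMax k M)
    (h2 : 2 ∣ Nat.card M) (hbig : 4 < 2 ^ (Nat.card M).factorization 2) :
    (a % 2 = 0 ∧ Nat.card M = 2 ^ a ∧ (orb k M).card = 6) ∨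
      (a % 2 = 1 ∧ Nat.card M = 2 ^ (a - 1) ∧ (orb k M).card = 3) := by
  haveI : Fact (Nat.Prime 2) := ⟨Nat.prime_two⟩
  have ha := C.ha
  obtain ⟨S, hS⟩ := (isPGroup_part 2 M).exists_le_sylow
  have hpiece := C.part_two_dvd hM S hS h2
  have hD : Nat.card (part 2 M) = 2 ^ (Nat.card M).factorization 2 := card_part 2 M
  have hSc := C.card_sylow_two S
  have hN := C.normalizer_part 2 hM h2
  have hpar := C.card_eq_parts hM.1
  have hmod := C.card_mod (C.inv_part 2 hM.1)
  have hpow : ∀ j : ℕ, 2 ^ j % 3 = 1 → j % 2 = 0 := fun j hj => by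
    rw [← Nat.div_add_mod j 2, pow_add, pow_mul, Nat.mul_mod, Nat.pow_mod] at hj
    norm_num at hj
    rcases Nat.mod_two_eq_zero_or_one j with e | e
    · exact e
    · rw [e] at hj; norm_num at hj
  have hNd := Subgroup.card_mul_index (Subgroup.normalizer (M : Set G))
  have hGdvd := Subgroup.card_subgroup_dvd_card (Subgroup.normalizer (M : Set G))
  rw [C.card] at hNd hGdvd
  have hnt := C.normalizer_ne_top hM.1 hM.2.1
  obtain ⟨h3o, h6o⟩ := C.card_orb hM
  have hA : 2 ^ (a - 1) * 2 = 2 ^ a := by rw [← pow_succ]; congr 1; omega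
  have hnoq : ∀ m e : ℕ, Nat.card (part 2 M) = m → Nat.card (Subgroup.normalizer (M : Set G)) =
      e * Nat.card M → e * m * 3 = 9 * 2 ^ a → Nat.card M = m := by
    intro m e hm he hcalc
    by_cases hd : q ∣ Nat.card M
    · exfalso
      rw [hm, C.card_part_q hM hd] at hpar
      rw [he, hpar] at hNd
      refine C.index_ne_three hnt ?_
      have hpos : 0 < e * (m * q ^ b) := by
        rw [← hpar, ← he]; exact Nat.card_pos
      refine Nat.eq_of_mul_eq_mul_left hpos (hNd.trans ?_)
      rw [show e * (m * q ^ b) * 3 = (e * m * 3) * q ^ b by ring, hcalc]; ring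
    · rw [hm, card_part, Nat.factorization_eq_zero_of_not_dvd hd, pow_zero, mul_one] at hpar
      exact hpar
  rcases hpiece.top (by rw [hD]; exact hbig) with e | hH
  · left
    have hpA : Nat.card (part 2 M) = 2 ^ a := by rw [e, hSc]
    have h3 : Nat.card (Subgroup.normalizer (M : Set G)) = 3 * Nat.card M := by
      refine (C.normalizer_max hM).2.resolve_right fun h6 => ?_
      have hd : 2 ^ (a + 1) ∣ 9 * (2 ^ a * q ^ b) := by
        refine Dvd.dvd.trans ?_ hGdvd
        rw [h6, hpar, hpA, pow_succ']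
        exact Nat.mul_dvd_mul (by norm_num) (dvd_mul_right _ _)
      have := (Nat.Prime.pow_dvd_iff_le_factorization Nat.prime_two
        (C.card ▸ Nat.card_pos.ne')).mp hd
      rw [← C.card, C.fact_two] at this
      omega
    exact ⟨hpow a (hpA ▸ hmod), hnoq _ 3 hpA h3 (by ring), h3o h3⟩
  · right
    have hpA : Nat.card (part 2 M) = 2 ^ (a - 1) := by
      have := hH.two
      rw [hSc] at this
      omega
    have hodd : a % 2 = 1 := by
      have := hpow (a - 1) (hpA ▸ hmod)
      omega
    have h6 : Nat.card (Subgroup.normalizer (M : Set G)) = 6 * Nat.card M := by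
      refine (C.normalizer_max hM).2.resolve_left fun h3 => ?_
      have hidx : ((part 2 M).subgroupOf (S : Subgroup G)).index = 2 := by
        have := Subgroup.card_mul_index ((part 2 M).subgroupOf (S : Subgroup G))
        rw [Nat.card_congr (Subgroup.subgroupOfEquivOfLe hS).toEquiv, hH.two, mul_comm 2] at this
        exact Nat.eq_of_mul_eq_mul_left Nat.card_pos this
      haveI : ((part 2 M).subgroupOf (S : Subgroup G)).Normal := Subgroup.normal_of_index_eq_two hidx
      have hle : (S : Subgroup G) ≤ Subgroup.normalizer (M : Set G) := hN ▸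
        (Subgroup.normal_subgroupOf_iff_le_normalizer hS).mp inferInstance
      have hd := Subgroup.card_dvd_of_le hle
      rw [hSc, h3, hpar, hpA, ← hA, show 3 * (2 ^ (a - 1) * Nat.card (part q M)) =
        2 ^ (a - 1) * (3 * Nat.card (part q M)) by ring] at hd
      have h2' := Nat.dvd_of_mul_dvd_mul_left (by positivity) hd
      rcases Nat.prime_two.dvd_mul.mp h2' with h | h
      · norm_num at h
      · rw [card_part] at h
        exact C.not_two_dvd_pow_q _ h
    exact ⟨hodd, hnoq _ 6 hpA h6 (by rw [← hA]; ring), h6o h6⟩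

/-- A small even part has normalizer of order six times the subgroup. -/
theorem small_part (C : Ctx P R k t q a b) [Fact q.Prime] {M : Subgroup G} (hM : IsMax k M)
    (h2 : 2 ∣ Nat.card M) (h4 : 2 ^ (Nat.card M).factorization 2 = 4) :
    Nat.card (Subgroup.normalizer (M : Set G)) = 6 * Nat.card M ∧
      Nat.card M = 4 * Nat.card (part q M) := by
  haveI : Fact (Nat.Prime 2) := ⟨Nat.prime_two⟩
  obtain ⟨S, hS⟩ := (isPGroup_part 2 M).exists_le_sylow
  have hpiece := C.part_two_dvd hM S hS h2
  have hD : Nat.card (part 2 M) = 4 := (card_part 2 M).trans h4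
  have hpar := C.card_eq_parts hM.1
  rw [hD] at hpar
  refine ⟨(C.normalizer_max hM).2.resolve_left fun h3 => ?_, hpar⟩
  have hne : (S : Subgroup G) ⊓ Subgroup.normalizer (part 2 M : Set G) ≠ part 2 M := fun e => by
    have h := eq_of_normInf_eq S.isPGroup' hS e
    have h1 := C.card_sylow_two S
    rw [← h, hD] at h1
    have : 2 ^ 3 ≤ 2 ^ a := Nat.pow_le_pow_right (by norm_num) C.ha
    omega
  have hH := hpiece.half hne
  have h8 := Subgroup.card_dvd_of_le (inf_le_right :
    (S : Subgroup G) ⊓ Subgroup.normalizer (part 2 M : Set G) ≤ _)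
  rw [hH.two, hD, C.normalizer_part 2 hM h2, h3, hpar,
    show 3 * (4 * Nat.card (part q M)) = 4 * (3 * Nat.card (part q M)) by ring,
    show 2 * 4 = 4 * 2 from rfl] at h8
  rcases Nat.prime_two.dvd_mul.mp (Nat.dvd_of_mul_dvd_mul_left (by norm_num) h8) with h | h
  · norm_num at h
  · rw [card_part] at h
    exact C.not_two_dvd_pow_q _ h

end Ctx

end CfsgLib.NineOneClass
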