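import Cfsg.Agent.Lib.NineOneClass.Half

/-!
Even maximal invariant subgroups seen in one Sylow 2-subgroup.
-/

set_option autoImplicit false
set_option linter.unusedVariables false

namespace CfsgLib.NineOneClass

open CfsgLib.SelfCent CfsgLib.SCThree

universe u

variable {G : Type u} [Group G] [Finite G]

/-- A conjugate of an even maximal invariant subgroup's 2-part, inside `P`. -/
structure Piece (P D : Subgroup G) (y : G) : Prop where
  le : D ≤ P
  two_group : IsPGroup 2 P
  ne_bot : D ≠ ⊥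
  sc : Free y
  inv : Inv y D
  self : ∀ p ∈ P, (∀ d ∈ D, p * d = d * p) → p ∈ D
  norm_le : Nat.card (P ⊓ Subgroup.normalizer (D : Set G) : Subgroup G) ≤ 2 * Nat.card D
  three_dvd : ∀ τ ∈ P ⊓ Subgroup.normalizer (D : Set G), τ ∉ D →
    3 ∣ orderOf (τ⁻¹ * (y * τ * y⁻¹))

theorem Piece.conj {P D : Subgroup G} {y : G} (h : Piece P D y) (g : G) :
    Piece (cj g P) (cj g D) (g * y * g⁻¹) := by
  refine ⟨Subgroup.map_mono h.le, h.two_group.map _, ?_,
    h.sc.of_orderOf (by rw [← h.sc.ord, ← MulAut.conj_apply, MulEquiv.orderOf_eq]),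
    ⟨mem_normalizer_cj.mpr (by simpa [mul_assoc] using h.inv.1), by rw [card_cj]; exact h.inv.2⟩,
    ?_, ?_, ?_⟩
  · rw [Ne, Subgroup.map_eq_bot_iff_of_injective _ (MulAut.conj g).injective]; exact h.ne_bot
  · intro p hp hc
    rw [mem_cj] at hp ⊢
    refine h.self _ hp fun d hd => ?_
    have := hc (g * d * g⁻¹) (mem_cj.mpr (by simpa [mul_assoc] using hd))
    calc g⁻¹ * p * g * d = g⁻¹ * (p * (g * d * g⁻¹)) * g := by group
      _ = g⁻¹ * (g * d * g⁻¹ * p) * g := by rw [this]
      _ = _ := by group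
  · have e : cj g P ⊓ Subgroup.normalizer (cj g D : Set G) =
        cj g (P ⊓ Subgroup.normalizer (D : Set G)) := by
      ext a
      rw [Subgroup.mem_inf, mem_normalizer_cj, mem_cj, mem_cj, Subgroup.mem_inf]
    rw [e, card_cj, card_cj]; exact h.norm_le
  · intro τ hτ hn
    rw [Subgroup.mem_inf, mem_normalizer_cj, mem_cj] at hτ
    rw [mem_cj] at hn
    have key := h.three_dvd _ (Subgroup.mem_inf.mpr hτ) hn
    have e : τ⁻¹ * (g * y * g⁻¹ * τ * (g * y * g⁻¹)⁻¹) =
        MulAut.conj g ((g⁻¹ * τ * g)⁻¹ * (y * (g⁻¹ * τ * g) * y⁻¹)) := by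
      simp [mul_assoc]
    rw [e, MulEquiv.orderOf_eq]
    exact key

theorem Piece.one_lt {P D : Subgroup G} {y : G} (h : Piece P D y) : 4 ≤ Nat.card D := by
  haveI : Fact (Nat.Prime 2) := ⟨Nat.prime_two⟩
  obtain ⟨k, hk⟩ := IsPGroup.iff_card.mp (h.two_group.to_le h.le)
  have h1 := h.sc.card_mod h.inv
  have h0 : k ≠ 0 := fun e => h.ne_bot (Subgroup.card_eq_one.mp (by rw [hk, e]; rfl))
  rcases Nat.lt_or_ge k 2 with hl | hl
  · rw [hk, show k = 1 by omega] at h1; norm_num at h1
  · rw [hk]; calc 4 = 2 ^ 2 := rfl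
      _ ≤ 2 ^ k := Nat.pow_le_pow_right (by norm_num) hl

theorem Piece.half {P D : Subgroup G} {y : G} (h : Piece P D y)
    (hne : P ⊓ Subgroup.normalizer (D : Set G) ≠ D) :
    Half (P ⊓ Subgroup.normalizer (D : Set G)) D y := by
  refine ⟨le_normInf h.le, ?_, h.two_group.to_le inf_le_left, h.sc, h.inv, h.three_dvd⟩
  obtain ⟨e, he⟩ := Subgroup.card_dvd_of_le (le_normInf h.le)
  have h2 := h.norm_le
  have hp : 0 < Nat.card D := Nat.card_pos
  have h1 : e ≠ 1 := fun e1 => hne (Subgroup.eq_of_le_of_card_ge (le_normInf h.le)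
    (by rw [he, e1, mul_one])).symm
  have he0 : e ≠ 0 := by
    rintro rfl; rw [mul_zero] at he; exact absurd he Nat.card_pos.ne'
  have : e ≤ 2 := by nlinarith
  rw [he, show e = 2 by omega, mul_comm]

/-- A piece of order more than four is normal of index at most two. -/
theorem Piece.top {P D : Subgroup G} {y : G} (h : Piece P D y) (h4 : 4 < Nat.card D) :
    D = P ∨ Half P D y := by
  by_cases he : P ⊓ Subgroup.normalizer (D : Set G) = D
  · exact Or.inl (eq_of_normInf_eq h.two_group h.le he)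
  right
  have hT := h.half he
  set T := P ⊓ Subgroup.normalizer (D : Set G) with hTdef
  suffices T = P by rw [← this]; exact hT
  refine eq_of_normInf_eq h.two_group inf_le_left (le_antisymm ?_ (le_normInf inf_le_left))
  intro a ha
  obtain ⟨haP, haN⟩ := Subgroup.mem_inf.mp ha
  refine Subgroup.mem_inf.mpr ⟨haP, ?_⟩
  rw [Subgroup.mem_normalizer_iff_map_conj_eq] at haN ⊢
  replace haN : T.map (MulAut.conj a).toMonoidHom = T := haN
  by_contra hne
  have := hT.conj a
  rw [haN] at this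
  have := this.card_le_four hT hne
  rw [show Nat.card (D.map (MulAut.conj a).toMonoidHom) = Nat.card D from card_cj a D] at this
  omega

theorem klein_of_piece {P V : Subgroup G} {y : G} (h : Piece P V y) (h4 : Nat.card V = 4) :
    (∀ v ∈ V, v * v = 1) ∧ ∀ a ∈ V, ∀ b ∈ V, a * b = b * a := by
  have hexp : ∀ v ∈ V, v * v = 1 := by
    intro v hv
    by_contra hv2
    have hd := Subgroup.orderOf_dvd_natCard V hv
    rw [h4] at hd
    have ho : orderOf v = 4 := by
      have := Nat.le_of_dvd (by norm_num) hd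
      have h2 : orderOf v ≠ 2 := fun e => hv2 (by have := pow_orderOf_eq_one v; rwa [e, pow_two] at this)
      have h1 : orderOf v ≠ 1 := fun e => hv2 (by rw [orderOf_eq_one_iff] at e; rw [e, one_mul])
      have h0 : orderOf v ≠ 3 := fun e => by rw [e] at hd; norm_num at hd
      have := orderOf_pos v
      omega
    have hgen : Subgroup.zpowers v = V := Subgroup.eq_of_le_of_card_ge
      (Subgroup.zpowers_le.mpr hv) (by rw [Nat.card_zpowers, ho, h4])
    have hfix : v * v = y * (v * v) * y⁻¹ := by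
      have h1 := h.inv.conj_mem hv
      rw [← hgen] at h1
      obtain ⟨k, hk⟩ := Subgroup.mem_zpowers_iff.mp h1
      have e4 : v ^ (4 : ℤ) = 1 := by
        have := pow_orderOf_eq_one v; rw [ho] at this; exact_mod_cast this
      have e : y * (v * v) * y⁻¹ = v ^ (k + k) := by
        rw [zpow_add, hk]; group
      rcases Int.even_or_odd k with ⟨j, rfl⟩ | ⟨j, rfl⟩
      · exfalso
        apply hv2
        rw [show j + j + (j + j) = 4 * j by ring, zpow_mul, e4, one_zpow] at e
        exact conj_eq_one_iff.mp e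
      · rw [show (2 * j + 1) + (2 * j + 1) = 4 * j + 2 by ring, zpow_add, zpow_mul, e4, one_zpow,
          one_mul] at e
        rw [e, zpow_two]
    exact hv2 (h.sc.eq_one h.inv (mul_mem hv hv) (mul_inv_eq_iff_eq_mul.mp hfix.symm).symm)
  refine ⟨hexp, fun a ha b hb => ?_⟩
  have h1 := hexp (a * b) (mul_mem ha hb)
  calc a * b = (a * b)⁻¹ := eq_inv_of_mul_eq_one_left h1
    _ = b⁻¹ * a⁻¹ := mul_inv_rev a b
    _ = b * a := by rw [inv_eq_of_mul_eq_one_left (hexp b hb), inv_eq_of_mul_eq_one_left (hexp a ha)]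

theorem Half.two_lt_fixed {T D : Subgroup G} {y : G} (h : Half T D y) (h4 : 4 < Nat.card D) {τ : G}
    (hτ : τ ∈ T) (hn : τ ∉ D) (hτ2 : τ * τ = 1) (hτD : ∀ d ∈ D, τ * d * τ⁻¹ ∈ D) :
    2 < Nat.card (fixedIn D τ) := by
  classical
  letI := Fintype.ofFinite D
  let ψ : D → D := fun d => ⟨(d : G)⁻¹ * (τ * d * τ⁻¹), mul_mem (inv_mem d.2) (hτD d d.2)⟩
  let I : Finset D := Finset.univ.image ψ
  -- each fibre has at most `|C_D(τ)|` elements
  have hcard : Fintype.card D ≤ Nat.card (fixedIn D τ) * I.card := by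
    rw [← Finset.card_univ]
    refine Finset.card_le_mul_card_image _ _ fun a ha => ?_
    obtain ⟨d₀, -, rfl⟩ := Finset.mem_image.mp ha
    rw [← Nat.card_eq_finsetCard]
    refine Nat.card_le_card_of_injective (fun d => (⟨(d.1 : G) * (d₀ : G)⁻¹, ?_⟩ : fixedIn D τ))
      (fun a b e => Subtype.ext (Subtype.ext (mul_right_cancel (congrArg Subtype.val e))))
    obtain ⟨⟨d, hd⟩, hdf⟩ := d
    rw [Finset.mem_filter] at hdf
    have e : d⁻¹ * (τ * d * τ⁻¹) = (d₀ : G)⁻¹ * (τ * d₀ * τ⁻¹) := congrArg Subtype.val hdf.2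
    refine mem_fixedIn.mpr ⟨mul_mem hd (inv_mem d₀.2), ?_⟩
    calc d * (d₀ : G)⁻¹ * τ = d * ((d₀ : G)⁻¹ * (τ * d₀ * τ⁻¹)) * τ * (d₀ : G)⁻¹ := by group
      _ = d * (d⁻¹ * (τ * d * τ⁻¹)) * τ * (d₀ : G)⁻¹ := by rw [e]
      _ = _ := by group
  have hτi : τ⁻¹ = τ := inv_eq_of_mul_eq_one_left hτ2
  have hI : ∀ i ∈ I, τ * (i : G) * τ⁻¹ = (i : G)⁻¹ := by
    intro i hi
    obtain ⟨⟨d, hd⟩, -, rfl⟩ := Finset.mem_image.mp hi
    show τ * (d⁻¹ * (τ * d * τ⁻¹)) * τ⁻¹ = (d⁻¹ * (τ * d * τ⁻¹))⁻¹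
    calc τ * (d⁻¹ * (τ * d * τ⁻¹)) * τ⁻¹ = τ * d⁻¹ * τ * d * (τ * τ)⁻¹ := by group
      _ = τ * d⁻¹ * τ * d := by rw [hτ2, inv_one, mul_one]
      _ = τ * d⁻¹ * τ⁻¹ * d := by rw [hτi]
      _ = _ := by group
  -- conjugates of the inverted set by `y` meet only in `1`
  let σ : D → D := fun d => ⟨y * d * y⁻¹, h.inv.conj_mem d.2⟩
  have hσ : Function.Injective σ := fun a b e =>
    Subtype.ext (mul_left_cancel (mul_right_cancel (congrArg Subtype.val e)))
  have hdis : ∀ a ∈ I, ∀ b ∈ I, σ a = b → a = 1 := by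
    intro a ha b hb e
    have e1 : y * (a : G) * y⁻¹ = b := congrArg Subtype.val e
    have h1 : (y * τ * y⁻¹) * (b : G) * (y * τ * y⁻¹)⁻¹ = (b : G)⁻¹ := by
      rw [← e1]
      calc (y * τ * y⁻¹) * (y * a * y⁻¹) * (y * τ * y⁻¹)⁻¹ = y * (τ * a * τ⁻¹) * y⁻¹ := by group
        _ = y * (a : G)⁻¹ * y⁻¹ := by rw [hI a ha]
        _ = _ := by group
    have h3 : (τ⁻¹ * (y * τ * y⁻¹)) * (b : G) = b * (τ⁻¹ * (y * τ * y⁻¹)) := by
      have h4 : τ * (b : G) = (b : G)⁻¹ * τ := mul_inv_eq_iff_eq_mul.mp (hI b hb)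
      calc (τ⁻¹ * (y * τ * y⁻¹)) * (b : G)
          = τ⁻¹ * ((y * τ * y⁻¹) * b * (y * τ * y⁻¹)⁻¹) * (y * τ * y⁻¹) := by group
        _ = τ⁻¹ * (b : G)⁻¹ * (y * τ * y⁻¹) := by rw [h1]
        _ = τ⁻¹ * ((b : G)⁻¹ * τ) * τ⁻¹ * (y * τ * y⁻¹) := by group
        _ = _ := by rw [← h4]; group
    have hb1 : b = 1 := by
      apply Subtype.ext
      by_contra hb1
      exact Free.not_three_dvd h.sc hb1 (h.inv.not_dvd_orderOf b.2) h3 (h.three_dvd τ hτ hn)
    apply hσ
    rw [e, hb1]
    exact Subtype.ext (by simp [σ])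
  let σI := I.image σ
  let σσI := σI.image σ
  have hσ3 : ∀ d : D, σ (σ (σ d)) = d := fun d => Subtype.ext (Free.three_steps h.sc (d : G))
  have h12 : I ∩ σI ⊆ {1} := by
    intro a ha
    obtain ⟨ha1, ha2⟩ := Finset.mem_inter.mp ha
    obtain ⟨b, hb, rfl⟩ := Finset.mem_image.mp ha2
    rw [Finset.mem_singleton, hdis b hb _ ha1 rfl]
    exact Subtype.ext (by simp [σ])
  have h13 : I ∩ σσI ⊆ {1} := by
    intro a ha
    obtain ⟨ha1, ha2⟩ := Finset.mem_inter.mp ha
    obtain ⟨c, hc, rfl⟩ := Finset.mem_image.mp ha2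
    obtain ⟨b, hb, rfl⟩ := Finset.mem_image.mp hc
    rw [Finset.mem_singleton]
    exact hdis _ ha1 b hb (hσ3 b)
  have h23 : σI ∩ σσI ⊆ {1} := by
    intro a ha
    obtain ⟨ha1, ha2⟩ := Finset.mem_inter.mp ha
    obtain ⟨c, hc, rfl⟩ := Finset.mem_image.mp ha2
    obtain ⟨b, hb, hbc⟩ := Finset.mem_image.mp ha1
    rw [← hσ hbc] at hc
    have : b ∈ ({1} : Finset D) := h12 (Finset.mem_inter.mpr ⟨hb, hc⟩)
    rw [Finset.mem_singleton] at this ⊢
    rw [← hbc, this]
    exact Subtype.ext (by simp [σ])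
  have h12' := Finset.card_le_card h12
  have h13' := Finset.card_le_card h13
  have h23' := Finset.card_le_card h23
  have hu : I.card + σI.card + σσI.card ≤ Fintype.card D + 3 := by
    have e1 := Finset.card_union_add_card_inter I σI
    have e2 := Finset.card_union_add_card_inter (I ∪ σI) σσI
    have e3 : ((I ∪ σI) ∩ σσI).card ≤ 2 := by
      rw [Finset.union_inter_distrib_right]
      exact (Finset.card_union_le _ _).trans (by
        rw [Finset.card_singleton] at h13' h23'
        omega)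
    have e4 := Finset.card_le_univ (I ∪ σI ∪ σσI)
    rw [Finset.card_singleton] at h12'
    omega
  have hc1 : σI.card = I.card := Finset.card_image_of_injective _ hσ
  have hc2 : σσI.card = σI.card := Finset.card_image_of_injective _ hσ
  have hmod := h.sc.card_mod h.inv
  rw [Nat.card_eq_fintype_card] at h4 hmod
  by_contra hle
  have : Nat.card (fixedIn D τ) * I.card ≤ 2 * I.card := Nat.mul_le_mul_right _ (by omega)
  omega


theorem Piece.eq_of_big {P D D' : Subgroup G} {y y' : G} (h : Piece P D y) (h' : Piece P D' y')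
    (h4 : 4 < Nat.card D) : D = D' := by
  by_contra hne
  rcases Nat.lt_or_ge 4 (Nat.card D') with hb | hb
  · rcases h.top h4 with e | hH <;> rcases h'.top hb with e' | hH'
    · exact hne (e.trans e'.symm)
    · exact mod_three_ne (e ▸ hH'.two) (h.sc.card_mod h.inv) (h'.sc.card_mod h'.inv)
    · exact mod_three_ne (e' ▸ hH.two) (h'.sc.card_mod h'.inv) (h.sc.card_mod h.inv)
    · exact absurd (hH.card_le_four hH' hne) (by omega)
  have h4' : Nat.card D' = 4 := le_antisymm hb h'.one_lt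
  obtain ⟨hexp, hcomm⟩ := klein_of_piece h' h4'
  haveI : Fact (Nat.Prime 2) := ⟨Nat.prime_two⟩
  have hDn : ∀ p ∈ P, p ∈ Subgroup.normalizer (D : Set G) := by
    intro p hp
    rcases h.top h4 with e | hH
    · exact e ▸ Subgroup.le_normalizer (e.symm ▸ hp)
    · have hidx : (D.subgroupOf P).index = 2 := by
        have := Subgroup.card_mul_index (D.subgroupOf P)
        rw [Nat.card_congr (Subgroup.subgroupOfEquivOfLe h.le).toEquiv, hH.two, mul_comm 2] at this
        exact Nat.eq_of_mul_eq_mul_left Nat.card_pos this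
      haveI : (D.subgroupOf P).Normal := Subgroup.normal_of_index_eq_two hidx
      exact (Subgroup.normal_subgroupOf_iff_le_normalizer h.le).mp inferInstance hp
  obtain ⟨e, heD, he1, hec⟩ := exists_center_mem h.two_group h.le h.ne_bot hDn
  have heD' : e ∈ D' := h'.self e (h.le heD) (fun d hd => (hec d (h'.le hd)).symm)
  by_cases hle : D' ≤ D
  · -- the centre of `D` is `D'`
    let Z := zIn D
    have hZD' : Z ≤ D' := fun z hz => h'.self z (h.le hz.1) fun d hd =>
      (Subgroup.mem_centralizer_iff.mp hz.2 d (hle hd)).symm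
    have hZI : Inv y Z := by
      refine ⟨?_, fun hd => h.inv.2 (hd.trans (Subgroup.card_dvd_of_le inf_le_left))⟩
      rw [Subgroup.mem_normalizer_iff]
      have key : ∀ g : G, (∀ o ∈ D, g * o * g⁻¹ ∈ D) → (∀ o ∈ D, g⁻¹ * o * g ∈ D) →
          ∀ z ∈ Z, g * z * g⁻¹ ∈ Z := by
        intro g hg hg' z hz
        refine Subgroup.mem_inf.mpr ⟨hg z hz.1, Subgroup.mem_centralizer_iff.mpr fun o ho => ?_⟩
        have := Subgroup.mem_centralizer_iff.mp hz.2 _ (hg' o ho)
        calc o * (g * z * g⁻¹) = g * (g⁻¹ * o * g * z) * g⁻¹ := by group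
          _ = g * (z * (g⁻¹ * o * g)) * g⁻¹ := by rw [this]
          _ = _ := by group
      have hy1 : ∀ o ∈ D, y⁻¹ * o * y ∈ D := fun o ho => by
        simpa using (Subgroup.mem_normalizer_iff.mp (inv_mem h.inv.1) o).mp ho
      intro z
      refine ⟨key y (fun o ho => h.inv.conj_mem ho) hy1 z, fun hz => ?_⟩
      have := key y⁻¹ (fun o ho => by simpa using hy1 o ho)
        (fun o ho => by simpa using h.inv.conj_mem ho) _ hz
      simpa [mul_assoc] using this
    have heZ : e ∈ Z := Subgroup.mem_inf.mpr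
      ⟨heD, Subgroup.mem_centralizer_iff.mpr fun o ho => hec o (h.le ho)⟩
    have hcard : 4 ≤ Nat.card Z := by
      have hm := h.sc.card_mod hZI
      have h1 : Nat.card Z ≠ 1 := fun e1 => he1 (by
        rw [Subgroup.card_eq_one] at e1
        rw [e1] at heZ
        exact Subgroup.mem_bot.mp heZ)
      have := Nat.card_pos (α := Z)
      omega
    have hZ : Z = D' := Subgroup.eq_of_le_of_card_ge hZD' (by omega)
    have hDD' : D ≤ D' := fun d hd => h'.self d (h.le hd) fun d' hd' =>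
      Subgroup.mem_centralizer_iff.mp (hZ.symm ▸ hd' : d' ∈ Z).2 d hd
    have := Subgroup.card_le_of_le hDD'
    omega
  · obtain ⟨t, ht, htn⟩ := SetLike.not_le_iff_exists.mp hle
    rcases h.top h4 with e' | hH
    · exact htn (e'.symm ▸ h'.le ht)
    have htP := h'.le ht
    have h2 := hH.two_lt_fixed h4 htP htn (hexp t ht)
      (fun d hd => (Subgroup.mem_normalizer_iff.mp (hDn t htP) d).mp hd)
    -- but `C_D(t)` lies in `D ⊓ D'`
    have hgen : ∀ d ∈ D', d = 1 ∨ d = e ∨ d = t ∨ d = e * t := by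
      intro d hd
      by_contra hc
      push Not at hc
      have het : e ≠ t := fun h => htn (h ▸ heD)
      have het1 : e * t ≠ 1 := fun h => htn ((eq_inv_of_mul_eq_one_right h) ▸ inv_mem heD)
      have ht1 : t ≠ 1 := fun h => htn (h ▸ one_mem D)
      have h5 : ({1, e, t, e * t, d} : Set G).ncard ≤ Nat.card D' := by
        rw [← Nat.card_coe_set_eq]
        refine Nat.card_le_card_of_injective (fun z => (⟨z.1, ?_⟩ : D')) (fun a b h =>
          Subtype.ext (congrArg (fun z : D' => (z : G)) h))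
        obtain ⟨z, hz⟩ := z
        simp only [Set.mem_insert_iff, Set.mem_singleton_iff] at hz
        rcases hz with rfl | rfl | rfl | rfl | rfl
        · exact one_mem _
        · exact heD'
        · exact ht
        · exact mul_mem heD' ht
        · exact hd
      have h6 : ({1, e, t, e * t, d} : Set G).ncard = 5 := by
        rw [Set.ncard_insert_of_notMem (by simp [he1.symm, ht1.symm, het1.symm, hc.1.symm]),
          Set.ncard_insert_of_notMem (by simp [het, hc.2.1.symm, ht1]),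
          Set.ncard_insert_of_notMem (by simp [he1, hc.2.2.1.symm]),
          Set.ncard_insert_of_notMem (by simp [hc.2.2.2.symm]), Set.ncard_singleton]
      omega
    have hsub : (fixedIn D t : Set G) ⊆ {1, e} := by
      intro d hd
      obtain ⟨hdD, hdt⟩ := mem_fixedIn.mp hd
      have hde : d * e = e * d := hec d (h.le hdD)
      have hdD' : d ∈ D' := h'.self d (h.le hdD) fun z hz => by
        rcases hgen z hz with rfl | rfl | rfl | rfl
        · rw [mul_one, one_mul]
        · exact hde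
        · exact hdt
        · exact ((show Commute d e from hde).mul_right hdt).eq
      rcases hgen d hdD' with rfl | rfl | rfl | rfl
      · exact Or.inl rfl
      · exact Or.inr rfl
      · exact absurd hdD htn
      · exact absurd ((Subgroup.mul_mem_cancel_left D heD).mp hdD) htn
    have := Set.ncard_le_ncard hsub
    rw [← Nat.card_coe_set_eq] at this
    have h3 : ({1, e} : Set G).ncard ≤ 2 := by
      calc ({1, e} : Set G).ncard ≤ ({e} : Set G).ncard + 1 := Set.ncard_insert_le 1 {e}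
        _ = 2 := by rw [Set.ncard_singleton]
    have : Nat.card (fixedIn D t) ≤ 2 := this.trans h3
    omega

/-- At most three conjugacy classes of pieces of order four. -/
theorem card_small_le_three {P : Subgroup G} (S : Finset (Subgroup G))
    (hS : ∀ V ∈ S, (∃ y, Piece P V y) ∧ Nat.card V = 4)
    (hdist : ∀ V ∈ S, ∀ W ∈ S, ∀ p ∈ P, cj p V = W → V = W) :
    S.card ≤ 3 ∧ (2 ≤ S.card → ∀ V ∈ S, 8 ∣ Nat.card P ∧
      P ⊓ Subgroup.normalizer (V : Set G) ≠ V) := by
  classical
  haveI : Fact (Nat.Prime 2) := ⟨Nat.prime_two⟩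
  rcases S.eq_empty_or_nonempty with rfl | ⟨V₀, hV₀⟩
  · simp
  obtain ⟨⟨y₀, hp₀⟩, hc₀⟩ := hS V₀ hV₀
  have hP := hp₀.two_group
  have hPne : P ≠ ⊥ := fun e => hp₀.ne_bot (le_bot_iff.mp (e ▸ hp₀.le))
  obtain ⟨z, hzP, hz1, hz⟩ := exists_center_mem hP (le_refl P) hPne
    (fun p hp => Subgroup.le_normalizer hp)
  by_cases hP4 : ∃ V ∈ S, P ⊓ Subgroup.normalizer (V : Set G) = V
  · obtain ⟨V, hV, e⟩ := hP4
    obtain ⟨⟨y, hp⟩, hc⟩ := hS V hV
    have hVP := eq_of_normInf_eq hP hp.le e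
    have : S = {V} := Finset.eq_singleton_iff_unique_mem.mpr ⟨hV, fun W hW => by
      obtain ⟨⟨y', hp'⟩, hc'⟩ := hS W hW
      exact Subgroup.eq_of_le_of_card_ge (hVP ▸ hp'.le) (by omega)⟩
    rw [this]; simp
  push Not at hP4
  have h8 : ∀ V ∈ S, 8 ∣ Nat.card P := fun V hV => by
    obtain ⟨⟨y, hp⟩, hc⟩ := hS V hV
    have h2 := (hp.half (hP4 V hV)).two
    rw [hc] at h2
    have h3 := Subgroup.card_dvd_of_le (inf_le_left : P ⊓ Subgroup.normalizer (V : Set G) ≤ P)
    rwa [h2] at h3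
  refine ⟨?_, fun _ V hV => ⟨h8 V hV, hP4 V hV⟩⟩
  -- a non-central involution in each piece
  have hex : ∀ V ∈ S, ∃ t ∈ V, t ≠ 1 ∧ t ≠ z ∧
      (∀ p ∈ P, p * t = t * p → p ∈ V) ∧ ∀ v ∈ V, v = 1 ∨ v = z ∨ v = t ∨ v = z * t := by
    intro V hV
    obtain ⟨⟨y, hp⟩, hc⟩ := hS V hV
    obtain ⟨hexp, hcomm⟩ := klein_of_piece hp hc
    have hzV : z ∈ V := hp.self z hzP fun d hd => (hz d (hp.le hd)).symm
    obtain ⟨t, ht, ht1, htz⟩ : ∃ t ∈ V, t ≠ 1 ∧ t ≠ z := by
      by_contra hcon; push Not at hcon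
      have hsub : (V : Set G) ⊆ {1, z} := fun v hv => by
        rcases eq_or_ne v 1 with e | e
        · exact Or.inl e
        · exact Or.inr (hcon v hv e)
      have := Set.ncard_le_ncard hsub
      rw [← Nat.card_coe_set_eq] at this
      have h3 : ({1, z} : Set G).ncard ≤ 2 := by
        calc ({1, z} : Set G).ncard ≤ ({z} : Set G).ncard + 1 := Set.ncard_insert_le 1 {z}
          _ = 2 := by rw [Set.ncard_singleton]
      have : Nat.card V ≤ 2 := this.trans h3
      omega
    have hzt : z * t ≠ 1 := fun e => htz (by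
      rw [eq_inv_of_mul_eq_one_right e]
      exact inv_eq_of_mul_eq_one_left (hexp z hzV))
    have hgen : ∀ v ∈ V, v = 1 ∨ v = z ∨ v = t ∨ v = z * t := by
      have hsub : ({1, z, t, z * t} : Set G) ⊆ (V : Set G) := by
        intro v hv
        simp only [Set.mem_insert_iff, Set.mem_singleton_iff] at hv
        rcases hv with rfl | rfl | rfl | rfl
        · exact one_mem _
        · exact hzV
        · exact ht
        · exact mul_mem hzV ht
      have hcard : ({1, z, t, z * t} : Set G).ncard = 4 := by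
        rw [Set.ncard_insert_of_notMem (by simp [hz1.symm, ht1.symm, hzt.symm]),
          Set.ncard_insert_of_notMem (by simp [htz.symm, ht1]),
          Set.ncard_insert_of_notMem (by simp [hz1]), Set.ncard_singleton]
      have heq := Set.eq_of_subset_of_ncard_le hsub (by
        rw [hcard, ← Nat.card_coe_set_eq]; exact le_of_eq hc)
      intro v hv
      have : v ∈ ({1, z, t, z * t} : Set G) := heq ▸ hv
      simpa using this
    refine ⟨t, ht, ht1, htz, fun p hp' hpt => hp.self p hp' fun d hd => ?_, hgen⟩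
    rcases hgen d hd with rfl | rfl | rfl | rfl
    · rw [mul_one, one_mul]
    · exact hz p hp'
    · exact hpt
    · exact ((show Commute p z from hz p hp').mul_right hpt).eq
  choose t ht ht1 htz htc htg using hex
  haveI : Fintype G := Fintype.ofFinite G
  letI : Fintype P := Fintype.ofFinite P
  let O : S → Finset G := fun V => Finset.univ.image (fun p : P => (p : G) * t V.1 V.2 * (p : G)⁻¹)
  have hO : ∀ V : S, Nat.card P ≤ 4 * (O V).card := by
    intro V
    rw [Nat.card_eq_fintype_card, ← Finset.card_univ]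
    refine Finset.card_le_mul_card_image _ _ fun a ha => ?_
    obtain ⟨p₀, -, rfl⟩ := Finset.mem_image.mp ha
    rw [← Nat.card_eq_finsetCard, ← (hS V.1 V.2).2]
    refine Nat.card_le_card_of_injective (fun p => (⟨(p₀ : G)⁻¹ * (p.1 : G), ?_⟩ : (V : Subgroup G)))
      (fun a b e => Subtype.ext (Subtype.ext (mul_left_cancel (congrArg Subtype.val e))))
    obtain ⟨p, hp⟩ := p
    rw [Finset.mem_filter] at hp
    refine htc V.1 V.2 _ (mul_mem (inv_mem p₀.2) p.2) ?_
    calc (p₀ : G)⁻¹ * (p : G) * t V.1 V.2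
        = (p₀ : G)⁻¹ * ((p : G) * t V.1 V.2 * (p : G)⁻¹) * p := by group
      _ = (p₀ : G)⁻¹ * ((p₀ : G) * t V.1 V.2 * (p₀ : G)⁻¹) * p := by rw [hp.2]
      _ = _ := by group
  have hdisj : ∀ V W : S, V ≠ W → Disjoint (O V) (O W) := by
    intro V W hne
    rw [Finset.disjoint_left]
    intro a ha hb
    obtain ⟨p, -, rfl⟩ := Finset.mem_image.mp ha
    obtain ⟨q, -, hq⟩ := Finset.mem_image.mp hb
    apply hne
    apply Subtype.ext
    refine hdist V.1 V.2 W.1 W.2 ((q : G)⁻¹ * p) (mul_mem (inv_mem q.2) p.2) ?_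
    have hqp : ((q : G)⁻¹ * p) ∈ P := mul_mem (inv_mem q.2) p.2
    have e : ((q : G)⁻¹ * p) * t V.1 V.2 * ((q : G)⁻¹ * p)⁻¹ = t W.1 W.2 := by
      calc ((q : G)⁻¹ * p) * t V.1 V.2 * ((q : G)⁻¹ * p)⁻¹
          = (q : G)⁻¹ * ((p : G) * t V.1 V.2 * (p : G)⁻¹) * q := by group
        _ = (q : G)⁻¹ * ((q : G) * t W.1 W.2 * (q : G)⁻¹) * q := by rw [hq]
        _ = _ := by group
    have ez : ((q : G)⁻¹ * p) * z * ((q : G)⁻¹ * p)⁻¹ = z := by
      rw [hz _ hqp]; group
    have hzW : z ∈ W.1 := (hS W.1 W.2).1.choose_spec.self z hzP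
      fun d hd => (hz d ((hS W.1 W.2).1.choose_spec.le hd)).symm
    refine Subgroup.eq_of_le_of_card_ge ?_ (by rw [card_cj, (hS V.1 V.2).2, (hS W.1 W.2).2])
    rintro _ ⟨v, hv, rfl⟩
    rw [MulEquiv.coe_toMonoidHom, MulAut.conj_apply]
    rcases htg V.1 V.2 v hv with rfl | rfl | rfl | rfl
    · simp
    · rw [ez]; exact hzW
    · rw [e]; exact ht W.1 W.2
    · rw [show ((q : G)⁻¹ * p) * (z * t V.1 V.2) * ((q : G)⁻¹ * p)⁻¹ =
        (((q : G)⁻¹ * p) * z * ((q : G)⁻¹ * p)⁻¹) *
          (((q : G)⁻¹ * p) * t V.1 V.2 * ((q : G)⁻¹ * p)⁻¹) by group, ez, e]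
      exact mul_mem hzW (ht W.1 W.2)
  -- the orbits avoid `1` and `z`
  let all : Finset G := Finset.univ.filter (fun g => g ∈ P ∧ g ≠ 1 ∧ g ≠ z)
  have hall : all.card + 2 ≤ Nat.card P := by
    have hins : insert 1 (insert z all) ⊆ Finset.univ.filter (fun g => g ∈ P) := by
      intro g hg
      simp only [Finset.mem_insert] at hg
      rcases hg with rfl | rfl | hg
      · simp
      · simp [hzP]
      · simp [all] at hg; simp [hg.1]
    have := Finset.card_le_card hins
    rw [Finset.card_insert_of_notMem (by simp [all, hz1.symm]),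
      Finset.card_insert_of_notMem (by simp [all])] at this
    rw [Nat.card_eq_fintype_card, Fintype.card_of_subtype
      (Finset.univ.filter (fun g : G => g ∈ P)) (by simp)]
    exact this
  have hsub : Finset.univ.biUnion O ⊆ all := by
    intro a ha
    obtain ⟨V, -, hV⟩ := Finset.mem_biUnion.mp ha
    obtain ⟨p, -, rfl⟩ := Finset.mem_image.mp hV
    obtain ⟨⟨y, hp⟩, hc⟩ := hS V.1 V.2
    simp only [all, Finset.mem_filter, Finset.mem_univ, true_and]
    refine ⟨mul_mem (mul_mem p.2 (hp.le (ht V.1 V.2))) (inv_mem p.2), ?_, ?_⟩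
    · intro e; exact ht1 V.1 V.2 (conj_eq_one_iff.mp e)
    · intro e
      apply htz V.1 V.2
      calc t V.1 V.2 = (p : G)⁻¹ * ((p : G) * t V.1 V.2 * (p : G)⁻¹) * p := by group
        _ = (p : G)⁻¹ * z * p := by rw [e]
        _ = z := by rw [mul_assoc, ← hz _ p.2]; group
  have hsum : ∑ V : S, (O V).card ≤ all.card := by
    rw [← Finset.card_biUnion (fun V _ W _ hne => hdisj V W hne)]
    exact Finset.card_le_card hsub
  have : S.card * Nat.card P ≤ 4 * all.card := by
    calc S.card * Nat.card P = ∑ V : S, Nat.card P := by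
          simp
      _ ≤ ∑ V : S, 4 * (O V).card := Finset.sum_le_sum fun V _ => hO V
      _ = 4 * ∑ V : S, (O V).card := by rw [Finset.mul_sum]
      _ ≤ _ := Nat.mul_le_mul_left 4 hsum
  nlinarith

end CfsgLib.NineOneClass
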