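import Cfsg.Agent.Lib.NineOneClass.Cover
import Cfsg.Agent.Lib.NineOneClass.NoEight
import Cfsg.Agent.Lib.NineOneClass.Column
import Cfsg.Agent.Lib.SelfCentThree.Count

/-!
The triangle count and the column at `k`.
-/

set_option autoImplicit false
set_option linter.unusedVariables false
set_option linter.style.haveILetI false

open scoped BigOperators ComplexConjugate

namespace CfsgLib.NineOneClass

open Cfsg CfsgLib.Char CfsgLib.SelfCent CfsgLib.SCThree

universe u

variable {G : Type u} [Group G] [Finite G] {P : Sylow 3 G} {R : Subgroup G} {k t : G} {q a b : ℕ}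

namespace Ctx

theorem not_isConj_one (C : Ctx P R k t q a b) : ¬ IsConj k 1 := fun h => C.k1 (isConj_one_left.mp h)

theorem cube_of_isConj (C : Ctx P R k t q a b) {z : G} (hz : IsConj k z) :
    z * z * z = 1 ∧ z ≠ 1 := by
  refine ⟨?_, fun e => C.not_isConj_one (e ▸ hz)⟩
  obtain ⟨g, rfl⟩ := isConj_iff.mp hz
  calc g * k * g⁻¹ * (g * k * g⁻¹) * (g * k * g⁻¹) = g * (k * k * k) * g⁻¹ := by group
    _ = 1 := by rw [C.pow_three C.kmem]; group

theorem mem_R_of_comm (C : Ctx P R k t q a b) {u : G} (h : u * k = k * u) : u ∈ R := by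
  rw [← C.hyp.cent k C.kmem C.k1, Subgroup.mem_centralizer_singleton_iff]
  exact h

/-- The corner of a triangle. -/
theorem corner (C : Ctx P R k t q a b) {y : G} (hy : y * y * y = 1) (hy1 : y ≠ 1)
    (hyk : (y * k) * (y * k) * (y * k) = 1) (hyk1 : y * k ≠ 1) :
    (y * k⁻¹ ∈ R ∧ y * k⁻¹ ≠ k ∧ y * k⁻¹ ≠ k⁻¹) ∨ y * k⁻¹ ∈ invNe k := by
  classical
  have hk := C.pow_three C.kmem
  have hk2 : k * k = k⁻¹ := (C.inv_eq C.kmem).symm
  have hne1 : y * k⁻¹ ≠ k := fun e => hyk1 (by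
    rw [mul_inv_eq_iff_eq_mul.mp e, hk])
  have hne2 : y * k⁻¹ ≠ k⁻¹ := fun e => hy1 (mul_eq_right.mp e)
  obtain ⟨hvw, hprod⟩ := triangle_commute hk hy hyk
  set u := y * k⁻¹ with hu
  set v := k * u * k⁻¹ with hv
  set w := k⁻¹ * u * k with hw
  by_cases hu1 : u = 1
  · exact Or.inl ⟨hu1 ▸ one_mem R, hne1, hne2⟩
  have hcu : u = (v * w)⁻¹ := eq_inv_of_mul_eq_one_left (by rwa [← mul_assoc])
  have huv : u * v = v * u := by
    rw [hcu]
    exact ((show Commute v (v * w) from (Commute.refl v).mul_right hvw).inv_right).symm.eq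
  have huw : u * w = w * u := by
    rw [hcu]
    exact ((show Commute w (v * w) from (Commute.mul_right hvw.symm (Commute.refl w))).inv_right).symm.eq
  have hxv : k * v * k⁻¹ = w := by
    rw [hv, hw, C.inv_eq C.kmem]
    calc k * (k * u * (k * k)) * (k * k) = (k * k) * u * k * (k * k * k) := by group
      _ = _ := by rw [hk, mul_one]
  have hxw : k * w * k⁻¹ = u := by rw [hw]; group
  let A := Subgroup.closure ({u, v, w} : Set G)
  have hAc : ∀ a ∈ A, ∀ b ∈ A, a * b = b * a := by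
    have hc : IsMulCommutative A := Subgroup.isMulCommutative_closure (by
      simp only [Set.mem_insert_iff, Set.mem_singleton_iff]
      rintro a (rfl | rfl | rfl) b (rfl | rfl | rfl) <;>
        first | rfl | assumption | (symm; assumption))
    intro a ha b hb
    exact congrArg Subtype.val (hc.is_comm.comm ⟨a, ha⟩ ⟨b, hb⟩)
  have huA : u ∈ A := Subgroup.subset_closure (by simp)
  have hvA : v ∈ A := Subgroup.subset_closure (by simp)
  have hwA : w ∈ A := Subgroup.subset_closure (by simp)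
  have hxA : k ∈ Subgroup.normalizer (A : Set G) := by
    rw [Subgroup.mem_normalizer_iff_map_conj_eq]
    refine Subgroup.eq_of_le_of_card_ge ?_ (le_of_eq (Nat.card_congr
      (Subgroup.equivMapOfInjective _ _ (MulAut.conj k).injective).toEquiv))
    show Subgroup.map (MulAut.conj k).toMonoidHom A ≤ A
    rw [MonoidHom.map_closure, Subgroup.closure_le]
    rintro _ ⟨a, ha, rfl⟩
    simp only [Set.mem_insert_iff, Set.mem_singleton_iff] at ha
    simp only [SetLike.mem_coe, MulEquiv.coe_toMonoidHom, MulAut.conj_apply]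
    rcases ha with rfl | rfl | rfl
    · exact hvA
    · rw [hxv]; exact hwA
    · rw [hxw]; exact huA
  by_cases h3 : 3 ∣ Nat.card A
  · left
    refine ⟨?_, hne1, hne2⟩
    haveI : Fact (Nat.Prime 3) := ⟨Nat.prime_three⟩
    obtain ⟨⟨z, hz⟩, hz3⟩ := exists_prime_orderOf_dvd_card' (G := A) 3 h3
    rw [← Subgroup.orderOf_coe] at hz3
    change orderOf z = 3 at hz3
    have hz' : z ^ 3 = 1 := hz3 ▸ pow_orderOf_eq_one z
    have hz1 : z ≠ 1 := fun e => by rw [e, orderOf_one] at hz3; norm_num at hz3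
    have hexp : ∀ a ∈ A, a ^ 3 = 1 := fun a ha =>
      C.hyp.cube_of_comm hz' hz1 (hAc a ha z hz)
    have hAp : IsPGroup 3 A := fun a => ⟨1, Subtype.ext (by
      rw [pow_one, SubgroupClass.coe_pow]; exact hexp a a.2)⟩
    have hkp : IsPGroup 3 (Subgroup.zpowers k) :=
      CfsgLib.NineSelfCent.Hyp.isPGroup_zpowers (C.hyp.exp k C.kmem)
    exact C.mem_R_of_comm (C.hyp.comm_of_isPGroup
      (hAp.to_sup_of_normal_left' hkp (Subgroup.zpowers_le.mpr hxA))
      (Subgroup.mem_sup_left huA) (Subgroup.mem_sup_right (Subgroup.mem_zpowers k)))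
  · exact Or.inr (mem_invNe.mpr ⟨hu1, A, ⟨hxA, h3⟩, huA⟩)

/-- The corners. -/
noncomputable def corners (R : Subgroup G) (k : G) : Finset G :=
  (Set.toFinite {u : G | (u ∈ R ∧ u ≠ k ∧ u ≠ k⁻¹) ∨ u ∈ invNe k}).toFinset

theorem card_corners (C : Ctx P R k t q a b) : (corners R k).card = 7 + (invNe k).card := by
  classical
  set S := ((Set.toFinite (R : Set G)).toFinset.erase k).erase k⁻¹ with hS
  have hmem : ∀ u, u ∈ S ↔ u ≠ k⁻¹ ∧ u ≠ k ∧ u ∈ R := fun u => by simp [hS]
  have hd : Disjoint S (invNe k) := by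
    rw [Finset.disjoint_left]
    intro u hu hu'
    obtain ⟨hu1, M, hM, huM⟩ := mem_invNe.mp hu'
    exact hM.not_dvd_orderOf huM (by rw [C.orderOf_eq ((hmem u).mp hu).2.2 hu1])
  have hR : (Set.toFinite (R : Set G)).toFinset.card = 9 := by
    rw [← Set.ncard_eq_toFinset_card _ _, ← Nat.card_coe_set_eq]
    exact C.hyp.card
  have hS7 : S.card = 7 := by
    rw [hS, Finset.card_erase_of_mem, Finset.card_erase_of_mem, hR]
    · simp [C.kmem]
    · refine Finset.mem_erase.mpr ⟨fun e => ?_, by simp [C.kmem]⟩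
      have h := C.pow_three C.kmem
      rw [show k * k = 1 by nth_rw 1 [← e]; exact inv_mul_cancel k, one_mul] at h
      exact C.k1 h
  rw [← hS7, ← Finset.card_union_of_disjoint hd]
  congr 1
  ext u
  simp only [corners, Set.Finite.mem_toFinset, Set.mem_setOf_eq, Finset.mem_union, hmem]
  tauto

theorem card_pairs (C : Ctx P R k t q a b) :
    Nat.card {p : G × G // IsConj k p.1 ∧ IsConj k p.2 ∧ p.1 * p.2 = k} = 7 + (invNe k).card := by
  classical
  rw [← C.card_corners, ← Nat.card_eq_finsetCard]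
  have hk := C.pow_three C.kmem
  have hkk : k * k ∈ R := mul_mem C.kmem C.kmem
  have hkk1 : k * k ≠ 1 := fun e => C.k1 (by rwa [e, one_mul] at hk)
  have hfwd : ∀ p : {p : G × G // IsConj k p.1 ∧ IsConj k p.2 ∧ p.1 * p.2 = k},
      p.1.1⁻¹ * k⁻¹ ∈ corners R k := by
    rintro ⟨⟨x, y⟩, hx, hy, hxy⟩
    have e : x⁻¹ * k = y := by rw [← hxy, inv_mul_cancel_left]
    obtain ⟨hx3, hx1⟩ := C.cube_of_isConj hx
    obtain ⟨hy3, hy1⟩ := C.cube_of_isConj hy
    have hxi : x⁻¹ * x⁻¹ * x⁻¹ = 1 := by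
      rw [show x⁻¹ * x⁻¹ * x⁻¹ = (x * x * x)⁻¹ by group, hx3, inv_one]
    simp only [corners, Set.Finite.mem_toFinset, Set.mem_setOf_eq]
    exact C.corner hxi (by simpa using hx1) (by rw [e]; exact hy3) (by rw [e]; exact hy1)
  have hback : ∀ u : {u // u ∈ corners R k},
      IsConj k ((u : G) * k)⁻¹ ∧ IsConj k ((u : G) * (k * k)) := by
    rintro ⟨u, hu⟩
    simp only [corners, Set.Finite.mem_toFinset, Set.mem_setOf_eq] at hu
    have hflip : ∀ z, IsConj k z → IsConj k z⁻¹ := fun z hz => by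
      obtain ⟨h3, h1⟩ := C.cube_of_isConj hz
      exact C.isConj_of_cube (by rw [show z⁻¹ * z⁻¹ * z⁻¹ = (z * z * z)⁻¹ by group, h3, inv_one])
        (by simpa using h1)
    rcases hu with ⟨hu, hk1, hk2⟩ | hu
    · refine ⟨hflip _ (C.one _ (mul_mem hu C.kmem) fun e => hk2 (eq_inv_of_mul_eq_one_left e)),
        C.one _ (mul_mem hu hkk) fun e => hk1 ?_⟩
      have e' : u = (k * k)⁻¹ := eq_inv_of_mul_eq_one_left e
      rw [e', ← C.inv_eq C.kmem, inv_inv]
    · obtain ⟨-, M, hM, huM⟩ := mem_invNe.mp hu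
      have hM2 : Inv (k * k) M := ⟨mul_mem hM.1 hM.1, hM.2⟩
      exact ⟨hflip _ (C.isConj_coset C.kmem C.k1 hM huM), C.isConj_coset hkk hkk1 hM2 huM⟩
  refine Nat.card_congr ⟨fun p => ⟨_, hfwd p⟩, fun u => ⟨(((u : G) * k)⁻¹, (u : G) * (k * k)),
    (hback u).1, (hback u).2, ?_⟩, fun p => ?_, fun u => ?_⟩
  · show ((u : G) * k)⁻¹ * ((u : G) * (k * k)) = k
    group
  · obtain ⟨⟨x, y⟩, hx, hy, hxy⟩ := p
    refine Subtype.ext (Prod.ext ?_ ?_)
    · show (x⁻¹ * k⁻¹ * k)⁻¹ = x
      group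
    · show x⁻¹ * k⁻¹ * (k * k) = y
      rw [show x⁻¹ * k⁻¹ * (k * k) = x⁻¹ * k by group, ← hxy, inv_mul_cancel_left]
  · refine Subtype.ext ?_
    show ((u : G) * k)⁻¹⁻¹ * k⁻¹ = u
    group

/-- `R` acts freely on the elements of invariant subgroups. -/
theorem nine_dvd (C : Ctx P R k t q a b) : 9 ∣ (invNe k).card := by
  classical
  have hst : ∀ (r : R) (u : {u // u ∈ invNe k}), (r : G) * u * (r : G)⁻¹ ∈ invNe k := fun r u => by
    obtain ⟨hu1, M, hM, huM⟩ := mem_invNe.mp u.2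
    exact mem_invNe.mpr ⟨fun e => hu1 (conj_eq_one_iff.mp e), cj (r : G) M,
      C.inv_cj (C.NK_of_mem r.2) hM, ⟨u, huM, rfl⟩⟩
  letI : MulAction R {u // u ∈ invNe k} :=
    { smul := fun r u => ⟨_, hst r u⟩
      one_smul := fun u => Subtype.ext (by
        show (1 : G) * u * (1 : G)⁻¹ = u
        group)
      mul_smul := fun r s u => Subtype.ext (by
        show ((r : G) * s) * u * ((r : G) * s)⁻¹ = (r : G) * ((s : G) * u * (s : G)⁻¹) * (r : G)⁻¹
        group) }
  have hfree : ∀ u : {u // u ∈ invNe k}, MulAction.stabilizer R u = ⊥ := fun u => by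
    rw [Subgroup.eq_bot_iff_forall]
    intro r hr
    by_contra hne
    have hr1 : (r : G) ≠ 1 := fun e => hne (Subtype.ext e)
    obtain ⟨hu1, M, hM, huM⟩ := mem_invNe.mp u.2
    have e : (r : G) * u * (r : G)⁻¹ = u := congrArg Subtype.val hr
    exact hu1 (C.eq_one_of_comm (C.hyp.exp _ r.2) hr1 (hM.not_dvd_orderOf huM)
      (mul_inv_eq_iff_eq_mul.mp e).symm)
  rw [← Nat.card_eq_finsetCard, Nat.card_congr (MulAction.selfEquivOrbitsQuotientProd hfree),
    Nat.card_prod, C.hyp.card]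
  exact dvd_mul_left 9 _

/-- The column at `k` together with the count. -/
theorem exists_column (C : Ctx P R k t q a b) :
    ∃ (c : IrrCharacter G → ℤ) (d : IrrCharacter G → ℕ) (i₀ : IrrCharacter G),
      Column q a b c d i₀ ∧
      ((9 * (7 + (invNe k).card) : ℕ) : ℤ) = weight (2 ^ a * q ^ b) c d ∧
      (∀ χ : IrrCharacter G, (χ : G → ℂ) 1 = d χ ∧ (χ : G → ℂ) k = c χ) := by
  classical
  haveI := C.simple
  haveI : Fintype G := Fintype.ofFinite G
  haveI : Fintype R := Fintype.ofFinite _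
  obtain ⟨n, hn0, hn, hn1⟩ := CfsgLib.NineSelfCent.exists_degrees (G := G)
  have hinv : IsConj k k⁻¹ := C.one _ (inv_mem C.kmem) (inv_ne_one.mpr C.k1)
  obtain ⟨x, hx⟩ := CfsgLib.NineSelfCent.exists_col n hn (C.hyp.exp k C.kmem) C.k1 hinv
  set i₀ : IrrCharacter G := ⟨fun _ => 1, isIrrCharacter_one⟩ with hi₀
  have hsq : ∑ χ, x χ * x χ = 9 := by
    rw [C.hyp.col_inner C.kmem C.k1 hx hx, if_pos (IsConj.refl k)]
  have hR : ∀ χ : IrrCharacter G, ∃ m : ℕ, (n χ : ℤ) + 8 * x χ = 9 * m := fun χ => by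
    obtain ⟨N, ρ, -, hρ⟩ := χ.2
    have h := sum_fix ρ R
    rw [← Finset.add_sum_erase _ _ (Finset.mem_univ (1 : R)), Subgroup.coe_one,
      Finset.sum_congr rfl (g := fun _ => (x χ : ℂ)) fun u hu => ?_, Finset.sum_const,
      Finset.card_erase_of_mem (Finset.mem_univ _), Finset.card_univ, ← Nat.card_eq_fintype_card,
      C.hyp.card, hρ, hn χ] at h
    · refine ⟨Module.finrank ℂ (fix ρ R), ?_⟩
      rw [nsmul_eq_mul] at h
      push_cast at h
      have h' : (((n χ : ℤ) + 8 * x χ : ℤ) : ℂ) =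
          ((9 * (Module.finrank ℂ (fix ρ R) : ℤ) : ℤ) : ℂ) := by
        push_cast; linear_combination h
      exact_mod_cast h'
    · have hu1 : (u : G) ≠ 1 := fun e => (Finset.ne_of_mem_erase hu) (Subtype.ext e)
      rw [hρ, ← hx.val χ]
      exact eq_of_isConj (isClassFunction_of_isCharacter (isCharacter_of_isIrr χ.2))
        (C.one u u.2 hu1).symm
  have hcol : Column q a b x n i₀ := by
    refine ⟨C.hq, C.hq5, C.ha, hsq, ?_, hx.one, hn1, hn0, fun χ => ?_, fun χ => ?_, fun χ => ?_,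
      fun χ hne hc0 => ?_, ?_⟩
    · rw [← hx.orth]; exact Finset.sum_congr rfl fun χ _ => mul_comm _ _
    · obtain ⟨m, hm, -, hd⟩ := exists_degree_dvd_card χ.2
      have : m = n χ := by
        have := hm.symm.trans (hn χ)
        exact_mod_cast this
      rw [← C.card, ← this]
      exact hd
    · obtain ⟨m, hm⟩ := hR χ; exact ⟨(m : ℤ) - x χ, by omega⟩
    · obtain ⟨m, hm⟩ := hR χ; omega
    · by_contra hlt
      push Not at hlt
      obtain ⟨m, hm⟩ := hR χ
      have h1 : x χ * x χ ≤ 9 := hsq ▸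
        Finset.single_le_sum (fun j _ => mul_self_nonneg (x j)) (Finset.mem_univ χ)
      have hle : x χ ≤ 3 := by nlinarith
      have hge : -3 ≤ x χ := by nlinarith
      have hpos := hn0 χ
      have heq : (n χ : ℤ) = x χ := by omega
      obtain ⟨K, hKn, hK, -⟩ := exists_kernel (isCharacter_of_isIrr χ.2)
      have hkK : k ∈ K := (hK k).mpr (by
        rw [hx.val, hn χ]
        exact_mod_cast heq.symm)
      have htop : K = ⊤ := (IsSimpleGroup.eq_bot_or_eq_top_of_normal K hKn).resolve_left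
        fun e => C.k1 (Subgroup.mem_bot.mp (e ▸ hkK))
      have h0 := classInner_irr_ne χ.2 i₀.2 (fun e => hne (Subtype.ext e))
      simp only [classInner, hi₀, map_one, mul_one,
        fun g => ((hK g).mp (htop ▸ Subgroup.mem_top g)).trans (hn χ), Finset.sum_const,
        Finset.card_univ, nsmul_eq_mul, mul_eq_zero, inv_eq_zero, Nat.cast_eq_zero] at h0
      rcases h0 with h0 | h0 | h0
      · exact Nat.card_pos.ne' h0
      · exact Fintype.card_ne_zero h0
      · omega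
    · rw [CfsgLib.NineSelfCent.sum_sq_nat hn, C.card]
  refine ⟨x, n, i₀, hcol, ?_, fun χ => ⟨hn χ, hx.val χ⟩⟩
  have e := class_mult (G := G) k k k
  rw [C.card_pairs] at e
  have hidx : (Subgroup.centralizer ({k} : Set G)).index = 2 ^ a * q ^ b := by
    have h := Subgroup.card_mul_index (Subgroup.centralizer ({k} : Set G))
    rw [C.hyp.cent k C.kmem C.k1, C.hyp.card, C.card] at h
    rw [C.hyp.cent k C.kmem C.k1]
    omega
  simp only [hx.val, hn, map_intCast, hidx, C.card] at e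
  set N := 2 ^ a * q ^ b with hN
  have hNpos : 0 < N := Nat.mul_pos (by positivity) (pow_pos C.hq.pos b)
  have hterm : ∀ χ : IrrCharacter G, (x χ : ℂ) * x χ * x χ / (n χ : ℂ) * (N : ℂ) =
      ((x χ ^ 3 * ((N / n χ : ℕ) : ℤ) : ℤ) : ℂ) := by
    intro χ
    by_cases hc : x χ = 0
    · simp [hc]
    have hd : n χ ∣ N := by
      by_cases hi : χ = i₀
      · subst hi; rw [hn1]; exact one_dvd _
      · exact hcol.dvd_n (Column.mem_supp.mpr ⟨hi, hc⟩)
    have hnc : (n χ : ℂ) ≠ 0 := Nat.cast_ne_zero.mpr (hn0 χ).ne'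
    rw [Int.cast_mul, Int.cast_pow, Int.cast_natCast, Nat.cast_div hd hnc]
    field_simp
  have hsum : (weight N x n : ℂ) = (∑ χ, (x χ : ℂ) * x χ * x χ / (n χ : ℂ)) * (N : ℂ) := by
    rw [weight, Int.cast_sum, Finset.sum_mul]
    exact (Finset.sum_congr rfl fun χ _ => hterm χ).symm
  have key : (((9 * (7 + (invNe k).card) : ℕ) : ℤ) : ℂ) = (weight N x n : ℂ) := by
    rw [hsum]
    push_cast at e ⊢
    rw [e]
    have hN' : (N : ℂ) ≠ 0 := Nat.cast_ne_zero.mpr hNpos.ne'
    field_simp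
  exact_mod_cast key

end Ctx

end CfsgLib.NineOneClass
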